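import Groth.Agent.RelPCS.Calc
import Groth.Agent.SupportLib.Unit
import Mathlib.Algebra.Category.ModuleCat.Descent
import Mathlib.AlgebraicGeometry.Morphisms.Flat

/-!
# Flat base change of direct images along closed immersions, for arbitrary modules
-/

set_option backward.isDefEq.respectTransparency false
set_option backward.isDefEq.respectTransparency.types false
set_option linter.style.haveILetI false
set_option autoImplicit false

universe u

open CategoryTheory Limits AlgebraicGeometry Opposite TopologicalSpace HomologicalComplex Pretriangulated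

attribute [local instance] HasDerivedCategory.standard

namespace Groth.Agent.RelPCS

open Groth.Agent.DQCoh Groth.Agent.KFlat

variable {X Y X' Y' : Scheme.{u}}

/-- pullback along a flat morphism is exact -/
lemma preservesFiniteLimits_pullback (g : Y' ⟶ Y) [Flat g] :
    PreservesFiniteLimits (Scheme.Modules.pullback g) := by
  haveI := (Scheme.Modules.pullbackPushforwardAdjunction g).leftAdjoint_preservesColimits.{0, 0}
  haveI : (Scheme.Modules.pullback g).Additive := Functor.additive_of_preserves_binary_products _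
  haveI : (Scheme.Modules.pullback g).PreservesHomology := by
    refine Functor.preservesHomology_of_map_exact _ fun S hS => ?_
    rw [ShortComplex.exact_iff_isZero_homology]
    refine isZero_of_stalks _ fun y => ?_
    haveI := ModuleCat.preservesFiniteLimits_extendScalars_of_flat (Flat.stalkMap g y)
    haveI : PreservesFiniteColimits (ModuleCat.extendScalars.{u, u, u} (g.stalkMap y).hom) :=
      haveI := (ModuleCat.extendRestrictScalarsAdj (g.stalkMap y).hom).leftAdjoint_preservesColimits.{0, 0}
      inferInstance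
    have h1 : (S.map (DerSch.stalkFunctor Y (g.base y) ⋙ ModuleCat.extendScalars.{u, u, u} (g.stalkMap y).hom)).Exact :=
      (hS.map (DerSch.stalkFunctor Y (g.base y))).map (ModuleCat.extendScalars.{u, u, u} (g.stalkMap y).hom)
    have h2 : (S.map (Scheme.Modules.pullback g ⋙ DerSch.stalkFunctor Y' y)).Exact :=
      (ShortComplex.exact_iff_of_iso (S.mapNatIso (pullStalkIso g y))).2 h1
    exact ((ShortComplex.exact_iff_isZero_homology _).1 h2).of_iso
      ((S.map (Scheme.Modules.pullback g)).mapHomologyIso (DerSch.stalkFunctor Y' y)).symm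
  exact (Scheme.Modules.pullback g).preservesFiniteLimits_of_preservesHomology

section affine

variable {P P' A A' : Type u} [CommRing P] [CommRing P'] [CommRing A] [CommRing A']

/-- global functions on a spectrum -/
noncomputable abbrev glob (c : P') : Γ(Spec (CommRingCat.of P'), ⊤) :=
  (Scheme.ΓSpecIso (CommRingCat.of P')).inv.hom c

variable {φ : P →+* A} {φ' : P' →+* A'} {γ : P →+* P'}

lemma glob_smul_push (M : (Spec (CommRingCat.of A)).Modules) {a : P} (ha : φ a = 0)
    (U : (Spec (CommRingCat.of P)).Opens) (s : Γ((Scheme.Modules.pushforward (sp φ)).obj M, U)) :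
    (show Γ(Spec (CommRingCat.of P), U) from
      (Spec (CommRingCat.of P)).presheaf.map (homOfLE le_top).op (glob a)) • s = 0 := by
  have h : (sp φ).app U ((Spec (CommRingCat.of P)).presheaf.map (homOfLE le_top).op (glob a)) = 0 := by
    have h1 : (sp φ).appTop (glob a) = 0 := by
      have h2 := ConcreteCategory.congr_hom (Scheme.ΓSpecIso_inv_naturality (CommRingCat.ofHom φ)) a
      refine h2.symm.trans ?_
      show (Scheme.ΓSpecIso (CommRingCat.of A)).inv.hom (φ a) = 0
      rw [ha, map_zero]
    refine (ConcreteCategory.congr_hom ((sp φ).naturality (homOfLE le_top).op) (glob a)).trans ?_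
    rw [CategoryTheory.comp_apply]
    erw [h1, map_zero]
  show ((sp φ).app U ((Spec (CommRingCat.of P)).presheaf.map (homOfLE le_top).op (glob a))) •
    (show Γ(M, (sp φ) ⁻¹ᵁ U) from s) = 0
  rw [h]; exact zero_smul _ _

/-- the ideal of the base-changed closed subscheme kills the pullback of a direct image -/
lemma isIso_unit_pull (hφ : Function.Surjective φ) (hφ' : Function.Surjective φ')
    (hker : RingHom.ker φ' ≤ (RingHom.ker φ).map γ) (M : (Spec (CommRingCat.of A)).Modules) :
    IsIso ((Scheme.Modules.pullbackPushforwardAdjunction (sp φ')).unit.app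
      ((Scheme.Modules.pullback (sp γ)).obj ((Scheme.Modules.pushforward (sp φ)).obj M))) := by
  haveI := closedImm_sp hφ
  haveI := closedImm_sp hφ'
  let N := (Scheme.Modules.pushforward (sp φ)).obj M
  let G := (Scheme.Modules.pullback (sp γ)).obj N
  refine (SupportLib.isIso_unit_iff (sp φ') G).2 fun U r hr s => ?_
  let res := ((Spec (CommRingCat.of P')).presheaf.map (homOfLE (le_top : (U : (Spec (CommRingCat.of P')).Opens) ≤ ⊤)).op).hom
  let ι : P' →+* Γ(Spec (CommRingCat.of P'), (U : (Spec (CommRingCat.of P')).Opens)) :=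
    res.comp (Scheme.ΓSpecIso (CommRingCat.of P')).inv.hom
  have key : ∀ a ∈ RingHom.ker φ, ∀ t : Γ(G, (U : (Spec (CommRingCat.of P')).Opens)), ι (γ a) • t = 0 := by
    intro a ha t
    refine TopCat.Presheaf.section_ext ⟨G.presheaf, G.isSheaf⟩ _ _ _ fun q hq => ?_
    refine Eq.trans ?_ (map_zero _).symm
    refine (pgerm_smul (DCoh.toP.obj G) q hq _ _).trans ?_
    let rP := (Spec (CommRingCat.of P)).presheaf.germ ⊤ ((sp γ).base q) trivial (glob a)
    have h1 : ∀ m : PStalk (DCoh.toP.obj N) ((sp γ).base q), rP • m = 0 := fun m => by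
      obtain ⟨W, hW, x, rfl⟩ := exists_pgerm (DCoh.toP.obj N) _ m
      have e : rP = (Spec (CommRingCat.of P)).presheaf.germ W ((sp γ).base q) hW
          ((Spec (CommRingCat.of P)).presheaf.map (homOfLE le_top).op (glob a)) :=
        (TopCat.Presheaf.germ_res_apply _ (homOfLE le_top) _ hW _).symm
      rw [e]
      exact ((pgerm_smul (DCoh.toP.obj N) _ hW _ _).symm.trans
        (congrArg _ (glob_smul_push M (RingHom.mem_ker.1 ha) W x))).trans (map_zero _)
    let c := ((sp γ).stalkMap q).hom rP
    have h2 : ModuleCat.ofHom (LinearMap.lsmul _ _ c) =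
        (0 : (DerSch.stalkFunctor _ q).obj G ⟶ (DerSch.stalkFunctor _ q).obj G) :=
      pull_stalk_ext (sp γ) q N fun m => by
        show c • kap (sp γ) q N m = 0
        rw [← kap_smul, h1, map_zero]
    have hc : (Spec (CommRingCat.of P')).presheaf.germ U q hq (ι (γ a)) = c := by
      refine (TopCat.Presheaf.germ_res_apply _ (homOfLE le_top) _ hq _).trans ?_
      refine Eq.trans ?_ (Scheme.Hom.germ_stalkMap_apply (sp γ) ⊤ q trivial (glob a)).symm
      exact congrArg _ (ConcreteCategory.congr_hom (Scheme.ΓSpecIso_inv_naturality (CommRingCat.ofHom γ)) a)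
    exact (congrArg (fun d => d • pgerm (DCoh.toP.obj G) q U hq t) hc).trans
      (congrArg (fun f => f.hom (pgerm (DCoh.toP.obj G) q U hq t)) h2)
  have hU : r ∈ (RingHom.ker φ').map ι := by
    have h3 := Scheme.IdealSheafData.map_ideal (sp φ').ker
      (U := U) (V := ⟨⊤, isAffineOpen_top _⟩) (show (U : (Spec (CommRingCat.of P')).Opens) ≤ ⊤ from le_top)
    rw [← h3, Scheme.Hom.ker_apply] at hr
    refine Ideal.map_le_iff_le_comap.2 (fun b hb => ?_) hr
    show res b ∈ (RingHom.ker φ').map ι
    obtain ⟨p, rfl⟩ : ∃ p, glob p = b :=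
      ⟨(Scheme.ΓSpecIso (CommRingCat.of P')).hom b, (Scheme.ΓSpecIso (CommRingCat.of P')).hom_inv_id_apply b⟩
    refine Ideal.mem_map_of_mem ι (RingHom.mem_ker.2 ?_)
    have h4 := ConcreteCategory.congr_hom (Scheme.ΓSpecIso_inv_naturality (CommRingCat.ofHom φ')) p
    have h5 := h4.trans (RingHom.mem_ker.1 hb)
    exact (Scheme.ΓSpecIso (CommRingCat.of A')).commRingCatIsoToRingEquiv.symm.injective
      (h5.trans (map_zero _).symm)
  have hle : (RingHom.ker φ').map ι ≤ (⊥ : Submodule _ Γ(G, (U : (Spec (CommRingCat.of P')).Opens))).colon ⊤ := by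
    refine (Ideal.map_mono hker).trans ?_
    rw [Ideal.map_map]
    refine Ideal.map_le_iff_le_comap.2 fun a ha => ?_
    rw [Ideal.mem_comap, Submodule.mem_colon]
    exact fun t _ => key a ha t
  exact Submodule.mem_colon.1 (hle hU) s trivial


variable {δ : A →+* A'}

/-- base change of direct images along closed immersions of affine schemes -/
noncomputable def bcFlatIso (hφ : Function.Surjective φ) (hφ' : Function.Surjective φ')
    (hker : RingHom.ker φ' ≤ (RingHom.ker φ).map γ) (hsq : φ'.comp γ = δ.comp φ) :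
    Scheme.Modules.pushforward (sp φ) ⋙ Scheme.Modules.pullback (sp γ) ≅
      Scheme.Modules.pullback (sp δ) ⋙ Scheme.Modules.pushforward (sp φ') :=
  haveI := closedImm_sp hφ
  haveI := GrothSS.isIso_counit_push (sp φ)
  haveI : ∀ M, IsIso ((Functor.whiskerLeft (Scheme.Modules.pushforward (sp φ) ⋙ Scheme.Modules.pullback (sp γ))
      (Scheme.Modules.pullbackPushforwardAdjunction (sp φ')).unit).app M) := fun M =>
    isIso_unit_pull hφ hφ' hker M
  (Functor.rightUnitor _).symm ≪≫
    @asIso _ _ _ _ (Functor.whiskerLeft (Scheme.Modules.pushforward (sp φ) ⋙ Scheme.Modules.pullback (sp γ))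
      (Scheme.Modules.pullbackPushforwardAdjunction (sp φ')).unit) (NatIso.isIso_of_isIso_app _) ≪≫
    (Functor.associator _ _ _).symm ≪≫
    Functor.isoWhiskerRight (Functor.associator _ _ _ ≪≫
      Functor.isoWhiskerLeft _ (Scheme.Modules.pullbackComp (sp φ') (sp γ) ≪≫
        Scheme.Modules.pullbackCongr (show sp φ' ≫ sp γ = sp δ ≫ sp φ by rw [← sp_comp, ← sp_comp, hsq]) ≪≫
        (Scheme.Modules.pullbackComp (sp δ) (sp φ)).symm) ≪≫
      (Functor.associator _ _ _).symm ≪≫
      Functor.isoWhiskerRight (asIso (Scheme.Modules.pullbackPushforwardAdjunction (sp φ)).counit) _ ≪≫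
      Functor.leftUnitor _) _

end affine

end Groth.Agent.RelPCS

namespace Groth.Agent.RelPCS

open Groth.Agent.DQCoh Groth.Agent.KFlat

variable {X Y X' Y' : Scheme.{u}}

instance instPreservesFiniteLimitsPullback (g : Y' ⟶ Y) [Flat g] :
    PreservesFiniteLimits (Scheme.Modules.pullback g) := preservesFiniteLimits_pullback g

instance instPreservesFiniteColimitsPullback (g : Y' ⟶ Y) :
    PreservesFiniteColimits (Scheme.Modules.pullback g) :=
  haveI := (Scheme.Modules.pullbackPushforwardAdjunction g).leftAdjoint_preservesColimits.{0, 0}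
  inferInstance

instance instAdditivePullback (g : Y' ⟶ Y) : (Scheme.Modules.pullback g).Additive :=
  haveI := (Scheme.Modules.pullbackPushforwardAdjunction g).leftAdjoint_preservesColimits.{0, 0}
  Functor.additive_of_preserves_binary_products _

/-- pullback along a flat morphism, on derived categories -/
noncomputable abbrev PB (g : Y' ⟶ Y) [Flat g] : DCoh.D Y ⥤ DCoh.D Y' :=
  (Scheme.Modules.pullback g).mapDerivedCategory

/-- the derived pullback along a flat morphism is the plain one -/
lemma nonempty_lpullFlat (g : Y' ⟶ Y) [Flat g] [DCoh.HasLpull g] (E : DCoh.D Y) :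
    Nonempty ((DCoh.Lpull g).obj E ≅ (PB g).obj E) := by
  obtain ⟨K, hK, -, ⟨e⟩⟩ := KFlat.exists_isKFlat_rep E
  exact ⟨(DCoh.Lpull g).mapIso e.symm ≪≫ KFlat.lpullIso g hK ≪≫
    ((Scheme.Modules.pullback g).mapDerivedCategoryFactors.app K).symm ≪≫ (PB g).mapIso e⟩

lemma pc_pb (g : Y' ⟶ Y) [Flat g] {m : ℤ} {E : DCoh.D Y} (h : DCoh.IsPseudoCoherentD m E) :
    DCoh.IsPseudoCoherentD m ((PB g).obj E) := by
  haveI := KFlat.hasLpull g
  exact pc_of_iso (nonempty_lpullFlat g E).some (DerPerf.isPseudoCoherent_Lpull g m E h)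

section affine

variable {P P' A A' : Type u} [CommRing P] [CommRing P'] [CommRing A] [CommRing A']
  {φ : P →+* A} {φ' : P' →+* A'} {γ : P →+* P'} {δ : A →+* A'}

/-- flat base change on derived categories -/
noncomputable def pdBaseIso [IsClosedImmersion (sp φ)] [IsClosedImmersion (sp φ')] [Flat (sp γ)] [Flat (sp δ)]
    (hφ : Function.Surjective φ) (hφ' : Function.Surjective φ')
    (hker : RingHom.ker φ' ≤ (RingHom.ker φ).map γ) (hsq : φ'.comp γ = δ.comp φ) :
    PD (sp φ) ⋙ PB (sp γ) ≅ PB (sp δ) ⋙ PD (sp φ') :=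
  Localization.liftNatIso DerivedCategory.Q
    (HomologicalComplex.quasiIso (Spec (CommRingCat.of A)).Modules (ComplexShape.up ℤ))
    (DerivedCategory.Q ⋙ PD (sp φ) ⋙ PB (sp γ)) (DerivedCategory.Q ⋙ PB (sp δ) ⋙ PD (sp φ')) _ _
    ((Functor.associator _ _ _).symm ≪≫
      Functor.isoWhiskerRight (Scheme.Modules.pushforward (sp φ)).mapDerivedCategoryFactors _ ≪≫
      Functor.associator _ _ _ ≪≫
      Functor.isoWhiskerLeft _ (Scheme.Modules.pullback (sp γ)).mapDerivedCategoryFactors ≪≫
      (Functor.associator _ _ _).symm ≪≫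
      Functor.isoWhiskerRight (Functor.mapHomologicalComplexCompIso (bcFlatIso hφ hφ' hker hsq) (ComplexShape.up ℤ) ≪≫
        (Functor.mapHomologicalComplexCompIso (Iso.refl _) (ComplexShape.up ℤ)).symm) _ ≪≫
      Functor.associator _ _ _ ≪≫
      Functor.isoWhiskerLeft _ (Scheme.Modules.pushforward (sp φ')).mapDerivedCategoryFactors.symm ≪≫
      (Functor.associator _ _ _).symm ≪≫
      Functor.isoWhiskerRight (Scheme.Modules.pullback (sp δ)).mapDerivedCategoryFactors.symm _ ≪≫
      Functor.associator _ _ _)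

/-- pullback and restriction -/
noncomputable def pbRdIso {g : Y' ⟶ Y} [Flat g] (j : X ⟶ Y) [IsOpenImmersion j] (j' : X' ⟶ Y')
    [IsOpenImmersion j'] (g' : X' ⟶ X) [Flat g'] (w : j' ≫ g = g' ≫ j) :
    PB g ⋙ RD j' ≅ RD j ⋙ PB g' :=
  let e : Scheme.Modules.pullback g ⋙ Scheme.Modules.restrictFunctor j' ≅
      Scheme.Modules.restrictFunctor j ⋙ Scheme.Modules.pullback g' :=
    Functor.isoWhiskerLeft _ (Scheme.Modules.restrictFunctorIsoPullback j') ≪≫
      Scheme.Modules.pullbackComp j' g ≪≫ Scheme.Modules.pullbackCongr w ≪≫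
      (Scheme.Modules.pullbackComp g' j).symm ≪≫
      Functor.isoWhiskerRight (Scheme.Modules.restrictFunctorIsoPullback j).symm _
  Localization.liftNatIso DerivedCategory.Q (HomologicalComplex.quasiIso Y.Modules (ComplexShape.up ℤ))
    (DerivedCategory.Q ⋙ PB g ⋙ RD j') (DerivedCategory.Q ⋙ RD j ⋙ PB g') _ _
    ((Functor.associator _ _ _).symm ≪≫
      Functor.isoWhiskerRight (Scheme.Modules.pullback g).mapDerivedCategoryFactors _ ≪≫
      Functor.associator _ _ _ ≪≫
      Functor.isoWhiskerLeft _ (Scheme.Modules.restrictFunctor j').mapDerivedCategoryFactors ≪≫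
      (Functor.associator _ _ _).symm ≪≫
      Functor.isoWhiskerRight (Functor.mapHomologicalComplexCompIso e (ComplexShape.up ℤ) ≪≫
        (Functor.mapHomologicalComplexCompIso (Iso.refl _) (ComplexShape.up ℤ)).symm) _ ≪≫
      Functor.associator _ _ _ ≪≫
      Functor.isoWhiskerLeft _ (Scheme.Modules.pullback g').mapDerivedCategoryFactors.symm ≪≫
      (Functor.associator _ _ _).symm ≪≫
      Functor.isoWhiskerRight (Scheme.Modules.restrictFunctor j).mapDerivedCategoryFactors.symm _ ≪≫
      Functor.associator _ _ _)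

end affine

end Groth.Agent.RelPCS
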