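import Groth.Agent.RelPCS.Single
import Groth.Prelude.Def_Flatn

/-!
# Relative pseudo-coherence of a single module
-/

set_option backward.isDefEq.respectTransparency false
set_option backward.isDefEq.respectTransparency.types false
set_option linter.style.haveILetI false
set_option autoImplicit false

universe u

open CategoryTheory Limits AlgebraicGeometry Pretriangulated Opposite

attribute [local instance] HasDerivedCategory.standard

namespace Groth.Agent.RelPCS

open Groth.Agent.DQCoh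

variable {X S : Scheme.{u}} {f : X ⟶ S}

section chart

variable {A P : Type u} [CommRing A] [CommRing P] {j : Spec (CommRingCat.of A) ⟶ X} [IsOpenImmersion j]
  {φ : P →+* A}

lemma qpc_inD_pos (hφ : Function.Surjective φ) (M : X.Modules) {m : ℤ} (hm : 0 < m) :
    QPC m (DCoh.inD X M) j φ := by
  haveI := closedImm_sp hφ
  exact ⟨hφ, pc_of_iso (qfInD j φ M).symm (pc_of_isAbove (isAboveD_inD _ hm))⟩

lemma qpc_inD_zero_iff (hφ : Function.Surjective φ) (M : X.Modules) :
    QPC 0 (DCoh.inD X M) j φ ↔ CohB1.IsFT (M.restrict j) := by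
  haveI := closedImm_sp hφ
  refine Iff.trans ⟨fun h => ?_, fun h => ⟨hφ, ?_⟩⟩ (pc_push_zero_iff (sp φ) (M.restrict j))
  · exact pc_of_iso ((PD (sp φ)).mapIso (rdInD j M)) h.2
  · exact pc_of_iso ((PD (sp φ)).mapIso (rdInD j M)).symm h

/-- the sections as a module over `P` -/
noncomputable abbrev secMod (j : Spec (CommRingCat.of A) ⟶ X) [IsOpenImmersion j] (φ : P →+* A) (M : X.Modules) :
    ModuleCat.{u} P :=
  (ModuleCat.restrictScalars.{u} φ).obj ((moduleSpecΓFunctor (R := CommRingCat.of A)).obj (M.restrict j))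

lemma qpc_inD_negOne_iff (hφ : Function.Surjective φ) (M : X.Modules) :
    QPC (-1) (DCoh.inD X M) j φ ↔
      Coh.IsQCoh (M.restrict j) ∧ Module.FinitePresentation P (secMod j φ M) := by
  haveI := closedImm_sp hφ
  have key : ∀ [(M.restrict j).IsQuasicoherent],
      (QPC (-1) (DCoh.inD X M) j φ ↔ Module.FinitePresentation P (secMod j φ M)) := by
    intro _
    let e : (Scheme.Modules.pushforward (sp φ)).obj (M.restrict j) ≅
        (tilde.functor (CommRingCat.of P)).obj (secMod j φ M) :=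
      (Scheme.Modules.pushforward (sp φ)).mapIso (gammaIso (M.restrict j)).symm ≪≫
        (pushTildeIso (CommRingCat.ofHom φ)).app _
    rw [← DRingKP.pcModule_negOne_iff, ← pc_tilde_inD_iff]
    exact ⟨fun h => pc_of_iso (qfInD j φ M ≪≫ (DerivedCategory.singleFunctor _ 0).mapIso e) h.2,
      fun h => ⟨hφ, pc_of_iso (qfInD j φ M ≪≫ (DerivedCategory.singleFunctor _ 0).mapIso e).symm h⟩⟩
  constructor
  · intro h
    have hq : Coh.IsQCoh (M.restrict j) := QC.isQCoh_of_iso
      ((Scheme.Modules.restrictFunctor j).mapIso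
        ((DerivedCategory.singleFunctorCompHomologyFunctorIso X.Modules 0).app M)) (qcoh_of_qpc h 0 (by lia))
    haveI : (M.restrict j).IsQuasicoherent := hq
    exact ⟨hq, key.1 h⟩
  · rintro ⟨hq, h⟩
    haveI : (M.restrict j).IsQuasicoherent := hq
    exact key.2 h

end chart

/-- finitely presented sections, in the two forms -/
lemma secMod_fp_iff {U : X.Opens} (hU : IsAffineOpen U) (M : X.Modules) {P : Type u} [CommRing P]
    (φ : P →+* Γ(X, U)) :
    Module.FinitePresentation P (secMod hU.fromSpec φ M) ↔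
      (letI : Module P (M.val.obj (op U)) := Module.compHom (M.val.obj (op U)) φ
       Module.FinitePresentation P (M.val.obj (op U))) := by
  letI : Module P (M.val.obj (op U)) := Module.compHom (M.val.obj (op U)) φ
  let t := QC.topEquiv hU M
  let e : secMod hU.fromSpec φ M ≃ₗ[P] (M.val.obj (op U)) :=
    { toFun := fun s => t s
      invFun := fun s => t.symm s
      left_inv := fun s => t.symm_apply_apply s
      right_inv := fun s => t.apply_symm_apply s
      map_add' := fun a b => t.map_add a b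
      map_smul' := fun a b => t.map_smul (φ a) b }
  exact ⟨fun _ => Module.FinitePresentation.of_equiv e, fun h => @Module.FinitePresentation.of_equiv _ _ _ _ _ _ _ _ e.symm h⟩

lemma exists_pair (f : X ⟶ S) (x : X) : ∃ (U : X.Opens) (hU : IsAffineOpen U) (V : S.Opens) (_ : IsAffineOpen V),
    x ∈ Set.range hU.fromSpec.base ∧ U ≤ f ⁻¹ᵁ V := by
  obtain ⟨_, ⟨V, hV, rfl⟩, hxV, -⟩ :=
    S.isBasis_affineOpens.exists_subset_of_mem_open (Set.mem_univ (f.base x)) isOpen_univ
  replace hV : IsAffineOpen V := hV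
  obtain ⟨_, ⟨U, hU, rfl⟩, hxU, hUV⟩ :=
    X.isBasis_affineOpens.exists_subset_of_mem_open (show x ∈ f ⁻¹ᵁ V from hxV) (f ⁻¹ᵁ V).isOpen
  replace hU : IsAffineOpen U := hU
  exact ⟨U, hU, V, hV, hU.range_fromSpec.symm ▸ hxU, hUV⟩

variable [LocallyOfFiniteType f] (M : X.Modules)

theorem rel_inD_pos {m : ℤ} (hm : 0 < m) : DerSch.IsPseudoCoherentRel f m (DCoh.inD X M) :=
  rel_of_qpc fun _ _ _ _ _ _ _ hφ => qpc_inD_pos hφ.1 M hm

theorem rel_inD_zero_iff : DerSch.IsPseudoCoherentRel f 0 (DCoh.inD X M) ↔ CohB1.IsFT M := by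
  constructor
  · intro h
    refine QC.isFT_of_local fun x => ?_
    obtain ⟨U, hU, V, hV, hx, hUV⟩ := exists_pair f x
    obtain ⟨n, φ, hφ⟩ := exists_chart hU hV hUV
    exact ⟨_, hU.fromSpec, inferInstance, hx, (qpc_inD_zero_iff hφ.1 M).1 (qpc_of_rel h hU hV hUV hφ)⟩
  · exact fun h => rel_of_qpc fun _ hU _ _ _ _ _ hφ => (qpc_inD_zero_iff hφ.1 M).2 (QC.isFT_restrict hU.fromSpec h)

theorem rel_inD_negOne_iff :
    DerSch.IsPseudoCoherentRel f (-1) (DCoh.inD X M) ↔ Coh.IsQCoh M ∧ Flatn.IsRelFP f M := by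
  constructor
  · intro h
    refine ⟨QC.isQCoh_of_local fun x => ?_, ?_⟩
    · obtain ⟨U, hU, V, hV, hx, hUV⟩ := exists_pair f x
      obtain ⟨n, φ, hφ⟩ := exists_chart hU hV hUV
      exact ⟨_, hU.fromSpec, inferInstance, hx,
        ((qpc_inD_negOne_iff hφ.1 M).1 (qpc_of_rel h hU hV hUV hφ)).1⟩
    · refine ⟨Set.univ, ?_, fun V _ => ⟨{U | (U : X.Opens) ≤ f ⁻¹ᵁ (V : S.Opens)}, ?_, fun U _ hUV => ?_⟩⟩
      · simpa using iSup_affineOpens_eq_top S
      · refine le_antisymm (iSup₂_le fun U hU => hU) fun x hx => ?_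
        obtain ⟨_, ⟨U, hU, rfl⟩, hxU, hUV⟩ :=
          X.isBasis_affineOpens.exists_subset_of_mem_open hx (f ⁻¹ᵁ (V : S.Opens)).isOpen
        simp only [TopologicalSpace.Opens.mem_iSup]
        exact ⟨⟨U, hU⟩, hUV, hxU⟩
      · obtain ⟨n, φ, hφ⟩ := exists_chart U.2 V.2 hUV
        have h1 := ((qpc_inD_negOne_iff hφ.1 M).1 (qpc_of_rel h U.2 V.2 hUV hφ)).2
        rw [secMod_fp_iff] at h1
        letI := (f.appLE (V : S.Opens) (U : X.Opens) hUV).hom.toAlgebra
        exact ⟨n, { φ with commutes' := fun r => RingHom.congr_fun hφ.2 r }, hφ.1, h1⟩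
  · rintro ⟨hM, 𝒱, h𝒱, h⟩
    refine ⟨inferInstance, 𝒱, h𝒱, fun V hV => ?_⟩
    obtain ⟨𝒰, h𝒰, hall⟩ := h V hV
    refine ⟨𝒰, h𝒰, fun U hU hUV => ?_⟩
    letI := (f.appLE (V : S.Opens) (U : X.Opens) hUV).hom.toAlgebra
    obtain ⟨n, φ, hφ, h1⟩ := hall U hU hUV
    have hc : DerSch.IsChart f (U : X.Opens) (V : S.Opens) hUV φ.toRingHom :=
      ⟨hφ, RingHom.ext fun r => φ.commutes r⟩
    refine ⟨n, φ.toRingHom, hc, (chartPC_iff U.2 _ _ hc.1).2 ((qpc_inD_negOne_iff hc.1 M).2 ⟨?_, ?_⟩)⟩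
    · exact QC.isQCoh_restrict U.2.fromSpec hM
    · exact (secMod_fp_iff U.2 M _).2 h1

end Groth.Agent.RelPCS
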