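import Groth.Agent.RelPCS.Transfer
import Groth.Agent.RelPCS.RelFP

/-!
# Composition of relatively pseudo-coherent data
-/

set_option backward.isDefEq.respectTransparency false
set_option backward.isDefEq.respectTransparency.types false
set_option linter.style.haveILetI false
set_option autoImplicit false

universe u

open CategoryTheory Limits AlgebraicGeometry Pretriangulated Opposite TopologicalSpace

attribute [local instance] HasDerivedCategory.standard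

namespace Groth.Agent.RelPCS

open Groth.Agent.DQCoh Groth.Agent.RelPC

variable {X Y S : Scheme.{u}}

/-- an affine pair inside a given open -/
lemma exists_pair_le (f : X ⟶ Y) {O : Y.Opens} {x : X} (hx : f.base x ∈ O) :
    ∃ (U : X.affineOpens) (V : Y.affineOpens), x ∈ (U : X.Opens) ∧ (U : X.Opens) ≤ f ⁻¹ᵁ (V : Y.Opens) ∧
      (V : Y.Opens) ≤ O := by
  obtain ⟨_, ⟨V, hV, rfl⟩, hxV, hVO⟩ := Y.isBasis_affineOpens.exists_subset_of_mem_open hx O.isOpen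
  obtain ⟨_, ⟨U, hU, rfl⟩, hxU, hUV⟩ :=
    X.isBasis_affineOpens.exists_subset_of_mem_open (show x ∈ f ⁻¹ᵁ V from hxV) (f ⁻¹ᵁ V).isOpen
  exact ⟨⟨U, hU⟩, ⟨V, hV⟩, hxU, hUV, hVO⟩

/-- sections of the structure sheaf along a chart -/
lemma pc_unit_ring {V : Y.Opens} (hV : IsAffineOpen V) {P : Type u} [CommRing P]
    {ψ : P →+* Γ(Y, V)} {n : ℤ} (h : QPC n (DCoh.toD Y (DerSch.unitCx Y)) hV.fromSpec ψ) :
    DRing.IsPseudoCoherent P n ((DRing.restrictD ψ).obj (Dual.inD Γ(Y, V) Γ(Y, V))) := by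
  haveI := closedImm_sp h.1
  let e : (RD hV.fromSpec).obj (DCoh.toD Y (DerSch.unitCx Y)) ≅
      (DCoh.tildeD (CommRingCat.of Γ(Y, V))).obj (Dual.inD Γ(Y, V) Γ(Y, V)) :=
    (RD hV.fromSpec).mapIso ((DerivedCategory.singleFunctorIsoCompQ Y.Modules 0).app _).symm ≪≫
      rdInD hV.fromSpec (Coh.structureModule Y) ≪≫
      (DerivedCategory.singleFunctor _ 0).mapIso (Scheme.Modules.restrictUnitIso hV.fromSpec ≪≫
        (AlgebraicGeometry.tildeSelf (R := CommRingCat.of Γ(Y, V))).symm) ≪≫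
      tildeInD (ModuleCat.of Γ(Y, V) Γ(Y, V))
  exact (pseudoCoherent_tilde_iff _ n).1
    (pc_of_iso ((PD (sp ψ)).mapIso e ≪≫ (pdTildeIso ψ).app _) h.2)

lemma pcHom_of_qpc_unit {V : Y.Opens} (hV : IsAffineOpen V) {P : Type u} [CommRing P]
    {ψ : P →+* Γ(Y, V)} (h : ∀ n : ℤ, QPC n (DCoh.toD Y (DerSch.unitCx Y)) hV.fromSpec ψ) : PCHom ψ :=
  DRingKP.pc'_iff.2 fun n => pc_unit_ring hV (h n)

variable {f : X ⟶ Y} {g : Y ⟶ S}

lemma map_C_comp {R B : Type u} [CommRing R] [CommRing B] {n k : ℕ} (ψ : MvPolynomial (Fin n) R →+* B) :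
    (MvPolynomial.map (σ := Fin k) ψ).comp MvPolynomial.C = MvPolynomial.C.comp ψ :=
  RingHom.ext fun a => MvPolynomial.map_C ψ a

/-- regrouping variables -/
lemma exists_regroup (R : Type u) [CommRing R] (k n : ℕ) :
    ∃ e : MvPolynomial (Fin (k + n)) R ≃+* MvPolynomial (Fin k) (MvPolynomial (Fin n) R),
      ∀ r, e (MvPolynomial.C r) = MvPolynomial.C (MvPolynomial.C r) := by
  let e := ((MvPolynomial.renameEquiv R (finSumFinEquiv (m := k) (n := n)).symm).trans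
    (MvPolynomial.sumAlgEquiv R (Fin k) (Fin n)))
  exact ⟨e.toRingEquiv, fun r => e.commutes r⟩

lemma comp_C_eq {R B A : Type u} [CommRing R] [CommRing B] [CommRing A] {n k : ℕ}
    (φ : MvPolynomial (Fin k) B →+* A) (ψ : MvPolynomial (Fin n) R →+* B)
    (e : MvPolynomial (Fin (k + n)) R ≃+* MvPolynomial (Fin k) (MvPolynomial (Fin n) R))
    (he : ∀ r, e (MvPolynomial.C r) = MvPolynomial.C (MvPolynomial.C r)) :
    ((φ.comp (MvPolynomial.map ψ)).comp e.toRingHom).comp MvPolynomial.C =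
      (φ.comp MvPolynomial.C).comp (ψ.comp MvPolynomial.C) := by
  refine RingHom.ext fun r => ?_
  show φ (MvPolynomial.map ψ (e (MvPolynomial.C r))) = _
  rw [he, MvPolynomial.map_C]
  rfl

/-- charts of a composite -/
lemma exists_chart_comp {U : X.Opens} {V : Y.Opens} {W : S.Opens} (hUV : U ≤ f ⁻¹ᵁ V) (hVW : V ≤ g ⁻¹ᵁ W)
    {n k : ℕ} {φ : MvPolynomial (Fin k) Γ(Y, V) →+* Γ(X, U)} (hφ : DerSch.IsChart f U V hUV φ)
    {ψ : MvPolynomial (Fin n) Γ(S, W) →+* Γ(Y, V)} (hψ : DerSch.IsChart g V W hVW ψ) :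
    ∃ (θ : MvPolynomial (Fin (k + n)) Γ(S, W) →+* Γ(X, U))
      (e : MvPolynomial (Fin (k + n)) Γ(S, W) ≃+* MvPolynomial (Fin k) (MvPolynomial (Fin n) Γ(S, W))),
      DerSch.IsChart (f ≫ g) U W (hUV.trans (f.preimage_mono hVW)) θ ∧
        θ = (φ.comp (MvPolynomial.map ψ)).comp e.toRingHom := by
  obtain ⟨e, he⟩ := exists_regroup Γ(S, W) k n
  refine ⟨(φ.comp (MvPolynomial.map ψ)).comp e.toRingHom, e,
    ⟨(hφ.1.comp (MvPolynomial.map_surjective ψ hψ.1)).comp e.surjective, ?_⟩, rfl⟩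
  rw [comp_C_eq φ ψ e he, hφ.2, hψ.2, ← CommRingCat.hom_comp, Scheme.Hom.appLE_comp_appLE]

/-- one step of the composition -/
theorem qpc_comp_chart {U : X.Opens} {V : Y.Opens} {W : S.Opens} (hUV : U ≤ f ⁻¹ᵁ V) (hVW : V ≤ g ⁻¹ᵁ W)
    {n k : ℕ} {φ : MvPolynomial (Fin k) Γ(Y, V) →+* Γ(X, U)} (hφ : DerSch.IsChart f U V hUV φ)
    {ψ : MvPolynomial (Fin n) Γ(S, W) →+* Γ(Y, V)} (hψ : DerSch.IsChart g V W hVW ψ) (hpc : PCHom ψ)
    {m : ℤ} {E : DCoh.D X} {j : Spec (CommRingCat.of Γ(X, U)) ⟶ X} [IsOpenImmersion j] :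
    ∃ (θ : MvPolynomial (Fin (k + n)) Γ(S, W) →+* Γ(X, U)),
      DerSch.IsChart (f ≫ g) U W (hUV.trans (f.preimage_mono hVW)) θ ∧ (QPC m E j θ ↔ QPC m E j φ) := by
  obtain ⟨θ, e, hθ, rfl⟩ := exists_chart_comp hUV hVW hφ hψ
  refine ⟨_, hθ, ?_⟩
  refine (qpc_comp_iff (ψ := e.toRingHom) e.surjective (pcHom_of_ringEquiv e)
    (hφ.1.comp (MvPolynomial.map_surjective ψ hψ.1))).trans ?_
  exact qpc_comp_iff (MvPolynomial.map_surjective ψ hψ.1) (hpc.map _) hφ.1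

/-- relative pseudo-coherence over a pseudo-coherent morphism -/
theorem rel_comp_iff [LocallyOfFiniteType f] [LocallyOfFiniteType g]
    (hg : ∀ n : ℤ, DerSch.IsNPseudoCoherent g n) (m : ℤ) (E : DCoh.D X) :
    DerSch.IsPseudoCoherentRel f m E ↔ DerSch.IsPseudoCoherentRel (f ≫ g) m E := by
  have hP : ∀ {V : Y.Opens} (hV : IsAffineOpen V) {W : S.Opens} (hW : IsAffineOpen W) (hVW : V ≤ g ⁻¹ᵁ W)
      {n : ℕ} {ψ : MvPolynomial (Fin n) Γ(S, W) →+* Γ(Y, V)}, DerSch.IsChart g V W hVW ψ → PCHom ψ :=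
    fun {_} hV {_} hW hVW {_ _} hψ => pcHom_of_qpc_unit hV fun l => qpc_of_rel (hg l) hV hW hVW hψ
  have key : ∀ (U : X.affineOpens) (V : Y.affineOpens) (W : S.affineOpens)
      (hUV : (U : X.Opens) ≤ f ⁻¹ᵁ (V : Y.Opens)) (hVW : (V : Y.Opens) ≤ g ⁻¹ᵁ (W : S.Opens)),
      QA f m E U V ↔ QA (f ≫ g) m E U W := fun U V W hUV hVW => by
    obtain ⟨k, φ, hφ⟩ := exists_chart U.2 V.2 hUV
    obtain ⟨n, ψ, hψ⟩ := exists_chart V.2 W.2 hVW
    obtain ⟨θ, hθ, hq⟩ := qpc_comp_chart (m := m) (E := E) (j := U.2.fromSpec) hUV hVW hφ hψ (hP V.2 W.2 hVW hψ)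
    exact ⟨fun h => qa_of_qpc U.2 _ hθ (hq.2 (qpc_of_qa U.2 hUV h hφ)),
      fun h => qa_of_qpc U.2 hUV hφ (hq.1 (qpc_of_qa U.2 _ h hθ))⟩
  constructor
  · intro h
    have hq := (rel_iff_qa m E).1 h
    refine ⟨inferInstance, Set.univ, ?_, fun W _ => ⟨{U | ∃ V : Y.affineOpens,
      (U : X.Opens) ≤ f ⁻¹ᵁ (V : Y.Opens) ∧ (V : Y.Opens) ≤ g ⁻¹ᵁ (W : S.Opens)}, ?_, ?_⟩⟩
    · simpa using iSup_affineOpens_eq_top S
    · refine le_antisymm (iSup₂_le fun U ⟨V, hUV, hVW⟩ => hUV.trans (f.preimage_mono hVW)) fun x hx => ?_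
      obtain ⟨U, V, hxU, hUV, hVW⟩ := exists_pair_le f (O := g ⁻¹ᵁ (W : S.Opens)) hx
      exact Opens.mem_iSup.2 ⟨U, Opens.mem_iSup.2 ⟨⟨V, hUV, hVW⟩, hxU⟩⟩
    · rintro U ⟨V, hUV, hVW⟩ hle
      exact (key U V W hUV hVW).1 (hq U V) hle
  · intro h
    have hq := (rel_iff_qa m E).1 h
    refine ⟨inferInstance, {V | ∃ W : S.affineOpens, (V : Y.Opens) ≤ g ⁻¹ᵁ (W : S.Opens)}, ?_, ?_⟩
    · refine eq_top_iff.2 fun y _ => ?_
      obtain ⟨V, W, hyV, hVW, -⟩ := exists_pair_le g (O := ⊤) (x := y) trivial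
      exact Opens.mem_iSup.2 ⟨V, Opens.mem_iSup.2 ⟨⟨W, hVW⟩, hyV⟩⟩
    · rintro V ⟨W, hVW⟩
      refine ⟨{U | (U : X.Opens) ≤ f ⁻¹ᵁ (V : Y.Opens)}, ?_, fun U _ hUV => ?_⟩
      · refine le_antisymm (iSup₂_le fun U hU => hU) fun x hx => ?_
        obtain ⟨_, ⟨U, hU, rfl⟩, hxU, hUV⟩ :=
          X.isBasis_affineOpens.exists_subset_of_mem_open hx (f ⁻¹ᵁ (V : Y.Opens)).isOpen
        exact Opens.mem_iSup.2 ⟨⟨U, hU⟩, Opens.mem_iSup.2 ⟨hUV, hxU⟩⟩
      · exact (key U V W hUV hVW).2 (hq U W) hUV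

/-- the chart of the identity -/
lemma qpc_bijective_iff {A P : Type u} [CommRing A] [CommRing P] {j : Spec (CommRingCat.of A) ⟶ X}
    [IsOpenImmersion j] {φ : P →+* A} (hφ : Function.Bijective φ) (m : ℤ) (E : DCoh.D X) :
    QPC m E j φ ↔ DCoh.IsPseudoCoherentD m ((RD j).obj E) := by
  haveI := closedImm_sp hφ.2
  have h := pc_push_iff (hypO_sp hφ.2 (pcHom_of_bijective hφ)) m ((RD j).obj E)
  exact ⟨fun hq => h.1 hq.2, fun hp => ⟨hφ.2, h.2 hp⟩⟩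

/-- relative to the identity -/
theorem rel_id_iff (m : ℤ) (E : DCoh.D X) :
    DerSch.IsPseudoCoherentRel (𝟙 X) m E ↔ DCoh.IsPseudoCoherentD m E := by
  have hc : ∀ {U : X.Opens}, ∃ φ : MvPolynomial (Fin 0) Γ(X, U) →+* Γ(X, U),
      DerSch.IsChart (𝟙 X) U U le_rfl φ ∧ Function.Bijective φ := fun {U} => by
    let φ := MvPolynomial.isEmptyRingEquiv Γ(X, U) (Fin 0)
    refine ⟨φ, ⟨φ.surjective, RingHom.ext fun r => ?_⟩, φ.bijective⟩
    have h1 : φ (MvPolynomial.C r) = r := φ.apply_symm_apply r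
    show φ (MvPolynomial.C r) = _
    rw [h1, Scheme.Hom.appLE, Scheme.Hom.id_app]
    simp only [Category.id_comp]
    show r = (X.presheaf.map (𝟙 (op U))).hom r
    rw [X.presheaf.map_id]
    rfl
  constructor
  · intro h
    refine pc_of_locally fun x => ?_
    obtain ⟨U, hU, hx⟩ := exists_fromSpec x
    obtain ⟨φ, hφ, hb⟩ := hc (U := U)
    have h1 := (qpc_bijective_iff hb m E).1 (qpc_of_rel h hU hU le_rfl hφ)
    obtain ⟨k, hk, hkj⟩ := exists_opens hU.fromSpec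
    exact ⟨hU.fromSpec.opensRange, hx,
      pc_of_iso (((rdComp k _).app E).symm ≪≫ (rdCongr hkj).app E) (pc_restrict k h1)⟩
  · intro h
    refine ⟨inferInstance, Set.univ, ?_, fun V _ => ⟨{V}, by simp, fun U hU hUV => ?_⟩⟩
    · simpa using iSup_affineOpens_eq_top X
    · obtain rfl := hU
      obtain ⟨φ, hφ, hb⟩ := hc (U := (U : X.Opens))
      exact ⟨0, φ, hφ, (chartPC_iff U.2 _ _ hφ.1).2 ((qpc_bijective_iff hb m E).2 (pc_restrict _ h))⟩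

end Groth.Agent.RelPCS
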