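import Groth.Agent.RelPCS.RelFP
import Groth.Agent.RelPCS.Comp

/-!
# Calculus of relative finite presentation
-/

set_option backward.isDefEq.respectTransparency false
set_option backward.isDefEq.respectTransparency.types false
set_option linter.style.haveILetI false
set_option autoImplicit false

universe u

open CategoryTheory Limits AlgebraicGeometry Pretriangulated Opposite

attribute [local instance] HasDerivedCategory.standard

namespace Groth.Agent.RelPCS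

open Groth.Agent.DQCoh

variable {X S : Scheme.{u}} {f : X ⟶ S} [LocallyOfFiniteType f]

/-- the charts of a relatively finitely presented module -/
theorem qpc_of_isRelFP {M : X.Modules} [Coh.IsQCoh M] (hM : Flatn.IsRelFP f M) {U : X.Opens}
    (hU : IsAffineOpen U) {V : S.Opens} (hV : IsAffineOpen V) (h : U ≤ f ⁻¹ᵁ V) {n : ℕ}
    {φ : MvPolynomial (Fin n) Γ(S, V) →+* Γ(X, U)} (hφ : DerSch.IsChart f U V h φ) :
    QPC (-1) (DCoh.inD X M) hU.fromSpec φ :=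
  qpc_of_rel ((rel_inD_negOne_iff M).2 ⟨inferInstance, hM⟩) hU hV h hφ

theorem isRelFP_of_qpc {M : X.Modules}
    (H : ∀ (U : X.Opens) (hU : IsAffineOpen U) (V : S.Opens) (_ : IsAffineOpen V) (h : U ≤ f ⁻¹ᵁ V) (n : ℕ)
      (φ : MvPolynomial (Fin n) Γ(S, V) →+* Γ(X, U)), DerSch.IsChart f U V h φ →
        QPC (-1) (DCoh.inD X M) hU.fromSpec φ) : Flatn.IsRelFP f M :=
  ((rel_inD_negOne_iff M).1 (rel_of_qpc H)).2

theorem relFPOn_of_isRelFP {M : X.Modules} [Coh.IsQCoh M] (hM : Flatn.IsRelFP f M) (U : X.affineOpens)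
    (V : S.affineOpens) (h : (U : X.Opens) ≤ f ⁻¹ᵁ (V : S.Opens)) : Flatn.RelFPOn f M U V h := by
  obtain ⟨n, φ, hφ⟩ := exists_chart (f := f) U.2 V.2 h
  have h1 := ((qpc_inD_negOne_iff hφ.1 M).1 (qpc_of_isRelFP hM U.2 V.2 h hφ)).2
  rw [secMod_fp_iff] at h1
  letI := (f.appLE (V : S.Opens) (U : X.Opens) h).hom.toAlgebra
  exact ⟨n, { φ with commutes' := fun r => RingHom.congr_fun hφ.2 r }, hφ.1, h1⟩

theorem isRelFP_of_forall {M : X.Modules} (H : ∀ (U : X.affineOpens) (V : S.affineOpens)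
    (h : (U : X.Opens) ≤ f ⁻¹ᵁ (V : S.Opens)), Flatn.RelFPOn f M U V h) : Flatn.IsRelFP f M := by
  refine ⟨Set.univ, ?_, fun V _ => ⟨{U | (U : X.Opens) ≤ f ⁻¹ᵁ (V : S.Opens)}, ?_, fun U _ h => H U V h⟩⟩
  · simpa using iSup_affineOpens_eq_top S
  · refine le_antisymm (iSup₂_le fun U hU => hU) fun x hx => ?_
    obtain ⟨_, ⟨U, hU, rfl⟩, hxU, hUV⟩ :=
      X.isBasis_affineOpens.exists_subset_of_mem_open hx (f ⁻¹ᵁ (V : S.Opens)).isOpen
    exact TopologicalSpace.Opens.mem_iSup.2 ⟨⟨U, hU⟩, TopologicalSpace.Opens.mem_iSup.2 ⟨hUV, hxU⟩⟩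

theorem isRelFP_of_extremes {E : ShortComplex X.Modules} (hE : E.ShortExact) [Coh.IsQCoh E.X₁] [Coh.IsQCoh E.X₃]
    (h₁ : Flatn.IsRelFP f E.X₁) (h₃ : Flatn.IsRelFP f E.X₃) : Flatn.IsRelFP f E.X₂ :=
  isRelFP_of_qpc fun _ hU _ hV h _ _ hφ =>
    qpc_obj₂ hE.singleTriangle_distinguished (qpc_of_isRelFP h₁ hU hV h hφ) (qpc_of_isRelFP h₃ hU hV h hφ)

theorem isRelFP_of_quotient {E : ShortComplex X.Modules} (hE : E.ShortExact) [Coh.IsQCoh E.X₂]
    (h₁ : CohB1.IsFT E.X₁) (h₂ : Flatn.IsRelFP f E.X₂) : Flatn.IsRelFP f E.X₃ :=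
  isRelFP_of_qpc fun _ hU _ hV h _ _ hφ =>
    qpc_obj₃ hE.singleTriangle_distinguished
      (show QPC ((-1 : ℤ) + 1) _ _ _ from qpc_of_rel ((rel_inD_zero_iff E.X₁).2 h₁) hU hV h hφ)
      (qpc_of_isRelFP h₂ hU hV h hφ)

theorem isRelFP_of_biprod (F F' : X.Modules) [Coh.IsQCoh F] [Coh.IsQCoh F'] [Coh.IsQCoh (F ⊞ F')]
    (h : Flatn.IsRelFP f (F ⊞ F')) : Flatn.IsRelFP f F ∧ Flatn.IsRelFP f F' := by
  haveI : PreservesBinaryBiproduct F F' (DerivedCategory.singleFunctor X.Modules 0) :=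
    preservesBinaryBiproduct_of_preservesBiproduct _ _ _
  have key : ∀ (U : X.Opens) (hU : IsAffineOpen U) (V : S.Opens) (_ : IsAffineOpen V) (h : U ≤ f ⁻¹ᵁ V) (n : ℕ)
      (φ : MvPolynomial (Fin n) Γ(S, V) →+* Γ(X, U)), DerSch.IsChart f U V h φ →
        QPC (-1) (DCoh.inD X F) hU.fromSpec φ ∧ QPC (-1) (DCoh.inD X F') hU.fromSpec φ :=
    fun U hU V hV hUV n φ hφ => qpc_biprod
      (qpc_iso ((DerivedCategory.singleFunctor X.Modules 0).mapBiprod F F') (qpc_of_isRelFP h hU hV hUV hφ))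
  exact ⟨isRelFP_of_qpc fun U hU V hV hUV n φ hφ => (key U hU V hV hUV n φ hφ).1,
    isRelFP_of_qpc fun U hU V hV hUV n φ hφ => (key U hU V hV hUV n φ hφ).2⟩

theorem isRelFP_comp {Y : Scheme.{u}} (g : Y ⟶ S) {p : X ⟶ Y} [LocallyOfFiniteType p] [LocallyOfFiniteType g]
    (hg : ∀ n : ℤ, DerSch.IsNPseudoCoherent g n) (M : X.Modules) [Coh.IsQCoh M] :
    Flatn.IsRelFP p M ↔ Flatn.IsRelFP (p ≫ g) M := by
  have h := rel_comp_iff (f := p) (g := g) hg (-1) (DCoh.inD X M)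
  rw [rel_inD_negOne_iff, rel_inD_negOne_iff] at h
  exact ⟨fun hM => (h.1 ⟨inferInstance, hM⟩).2, fun hM => (h.2 ⟨inferInstance, hM⟩).2⟩

end Groth.Agent.RelPCS
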