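import Groth.Agent.RelPCS.FlatBase
import Groth.Agent.RelPCS.Comp
import Mathlib.RingTheory.Flat.Stability

/-!
# Relative pseudo-coherence under flat base change
-/

set_option backward.isDefEq.respectTransparency false
set_option backward.isDefEq.respectTransparency.types false
set_option linter.style.haveILetI false
set_option autoImplicit false

universe u

open CategoryTheory Limits AlgebraicGeometry Opposite TopologicalSpace Pretriangulated

attribute [local instance] HasDerivedCategory.standard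

namespace Groth.Agent.RelPCS

open Groth.Agent.DQCoh

section Algebra

variable {R R' A A' : CommRingCat.{u}} {a : R ⟶ A} {r : R ⟶ R'} {δ : A ⟶ A'} {b : R' ⟶ A'}

/-- a presentation of a pushout -/
lemma exists_pushout_chart (sq : IsPushout a r δ b) {n : ℕ} (φ : MvPolynomial (Fin n) R →+* A)
    (hφ : Function.Surjective φ) (hC : φ.comp MvPolynomial.C = a.hom) :
    ∃ φ' : MvPolynomial (Fin n) R' →+* A', Function.Surjective φ' ∧ φ'.comp MvPolynomial.C = b.hom ∧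
      φ'.comp (MvPolynomial.map r.hom) = δ.hom.comp φ ∧
      RingHom.ker φ' ≤ (RingHom.ker φ).map (MvPolynomial.map r.hom) := by
  let φ' : MvPolynomial (Fin n) R' →+* A' := MvPolynomial.eval₂Hom b.hom (fun i => δ.hom (φ (MvPolynomial.X i)))
  have hsq : φ'.comp (MvPolynomial.map r.hom) = δ.hom.comp φ := by
    refine MvPolynomial.ringHom_ext (fun c => ?_) fun i => by simp [φ']
    have h1 : b.hom (r.hom c) = δ.hom (a.hom c) := (ConcreteCategory.congr_hom sq.w c).symm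
    simp [φ', h1, ← hC]
  let J := (RingHom.ker φ).map (MvPolynomial.map (σ := Fin n) r.hom)
  let Q := CommRingCat.of (MvPolynomial (Fin n) R' ⧸ J)
  let p : MvPolynomial (Fin n) R' →+* Q := Ideal.Quotient.mk J
  let α : A ⟶ Q := CommRingCat.ofHom (RingHom.liftOfSurjective φ hφ ⟨p.comp (MvPolynomial.map r.hom), fun x hx => by
    exact Ideal.Quotient.eq_zero_iff_mem.2 (Ideal.mem_map_of_mem _ hx)⟩)
  let β : R' ⟶ Q := CommRingCat.ofHom (p.comp MvPolynomial.C)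
  have hα : ∀ x, α.hom (φ x) = p (MvPolynomial.map r.hom x) := fun x =>
    RingHom.liftOfRightInverse_comp_apply _ _ _ _ x
  have w : a ≫ α = r ≫ β := by
    ext c
    show α.hom (a.hom c) = p (MvPolynomial.C (r.hom c))
    rw [← hC, RingHom.comp_apply, hα, MvPolynomial.map_C]
  let Φ : A' ⟶ Q := sq.desc α β w
  have h1 : Φ.hom.comp φ' = p := by
    refine MvPolynomial.ringHom_ext (fun c => ?_) fun i => ?_
    · show Φ.hom (φ' (MvPolynomial.C c)) = _
      rw [MvPolynomial.eval₂Hom_C]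
      exact ConcreteCategory.congr_hom (sq.inr_desc α β w) c
    · show Φ.hom (φ' (MvPolynomial.X i)) = _
      rw [MvPolynomial.eval₂Hom_X']
      refine (ConcreteCategory.congr_hom (sq.inl_desc α β w) (φ (MvPolynomial.X i))).trans ?_
      rw [hα, MvPolynomial.map_X]
  have hker : RingHom.ker φ' ≤ J := fun x hx => by
    have h := RingHom.congr_fun h1 x
    rw [RingHom.comp_apply, RingHom.mem_ker.1 hx, map_zero] at h
    exact Ideal.Quotient.eq_zero_iff_mem.1 h.symm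
  have hlift : ∀ x ∈ J, φ' x = 0 := fun x hx => by
    refine (Ideal.map_le_iff_le_comap.2 fun y hy => ?_ : J ≤ RingHom.ker φ') hx
    rw [Ideal.mem_comap, RingHom.mem_ker]
    exact (RingHom.congr_fun hsq y).trans (by simp [RingHom.mem_ker.1 hy])
  let Ψ : Q ⟶ A' := CommRingCat.ofHom (Ideal.Quotient.lift J φ' hlift)
  have h2 : Φ ≫ Ψ = 𝟙 A' := by
    refine sq.hom_ext ?_ ?_
    · rw [sq.inl_desc_assoc, Category.comp_id]
      ext x
      obtain ⟨y, rfl⟩ := hφ x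
      show Ψ.hom (α.hom (φ y)) = δ.hom (φ y)
      rw [hα]
      exact RingHom.congr_fun hsq y
    · rw [sq.inr_desc_assoc, Category.comp_id]
      ext c
      exact MvPolynomial.eval₂Hom_C _ _ c
  refine ⟨φ', fun y => ?_, RingHom.ext fun c => MvPolynomial.eval₂Hom_C _ _ c, hsq, hker⟩
  obtain ⟨x, hx⟩ := Ideal.Quotient.mk_surjective (Φ.hom y)
  refine ⟨x, ?_⟩
  have h3 := ConcreteCategory.congr_hom h2 y
  refine Eq.trans ?_ h3
  show φ' x = Ψ.hom (Φ.hom y)
  rw [← hx]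
  rfl

lemma flat_map_mvPolynomial {B C : Type u} [CommRing B] [CommRing C] {f : B →+* C} (hf : f.Flat) (n : ℕ) :
    (MvPolynomial.map (σ := Fin n) f).Flat := by
  letI := f.toAlgebra
  haveI : Module.Flat B C := hf
  letI : Algebra (MvPolynomial (Fin n) B) (MvPolynomial (Fin n) C) := MvPolynomial.algebraMvPolynomial
  show Module.Flat (MvPolynomial (Fin n) B) (MvPolynomial (Fin n) C)
  exact Module.Flat.of_linearEquiv
    (Algebra.IsPushout.equiv B (MvPolynomial (Fin n) B) C (MvPolynomial (Fin n) C)).toLinearEquiv.symm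

end Algebra

variable {X S S' : Scheme.{u}} {f : X ⟶ S} {h : S' ⟶ S}

/-- one piece -/
theorem qpc_flat_bc {X' : Scheme.{u}} {p : X' ⟶ X} {q : X' ⟶ S'} (H : IsPullback p q f h) [Flat p] [Flat h]
    {V : S.Opens} (hV : IsAffineOpen V) {U : X.Opens} (hU : IsAffineOpen U) {V' : S'.Opens} (hV' : IsAffineOpen V')
    (hUV : U ≤ f ⁻¹ᵁ V) (hVV : V' ≤ h ⁻¹ᵁ V) {U' : X'.Opens} (hU' : IsAffineOpen U')
    (hU'e : U' = p ⁻¹ᵁ U ⊓ q ⁻¹ᵁ V') {n : ℕ} {φ : MvPolynomial (Fin n) Γ(S, V) →+* Γ(X, U)}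
    (hφ : DerSch.IsChart f U V hUV φ) {m : ℤ} {E : DCoh.D X} (hE : QPC m E hU.fromSpec φ) :
    ∃ φ' : MvPolynomial (Fin n) Γ(S', V') →+* Γ(X', U'),
      DerSch.IsChart q U' V' (hU'e.le.trans inf_le_right) φ' ∧ QPC m ((PB p).obj E) hU'.fromSpec φ' := by
  have hUp : U' ≤ p ⁻¹ᵁ U := hU'e.le.trans inf_le_left
  have sq : IsPushout (f.appLE V U hUV) (h.appLE V V' hVV) (p.appLE U U' hUp)
      (q.appLE V' U' (hU'e.le.trans inf_le_right)) := by
    have := isIso_pushoutSection_of_isAffineOpen H hVV hUV hU'e hV hV' hU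
    exact (isIso_pushoutSection_iff H hVV hUV hU'e).1 this
  obtain ⟨φ', hφ', hC', hsq, hker⟩ := exists_pushout_chart sq φ hφ.1 hφ.2
  refine ⟨φ', ⟨hφ', hC'⟩, hφ', ?_⟩
  haveI := closedImm_sp hφ.1
  haveI := closedImm_sp hφ'
  let δ := (p.appLE U U' hUp).hom
  haveI : Flat (sp δ) := Flat.SpecMap_iff.2 (p.flat_appLE hU hU' hUp)
  haveI : Flat (sp (MvPolynomial.map (σ := Fin n) (h.appLE V V' hVV).hom)) :=
    Flat.SpecMap_iff.2 (flat_map_mvPolynomial (h.flat_appLE hV hV' hVV) n)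
  have w : hU'.fromSpec ≫ p = sp δ ≫ hU.fromSpec := (IsAffineOpen.SpecMap_appLE_fromSpec p hU hU' hUp).symm
  exact pc_of_iso ((pdBaseIso hφ.1 hφ' hker hsq).app _ ≪≫
    (PD (sp φ')).mapIso ((pbRdIso hU.fromSpec hU'.fromSpec (sp δ) w).app E).symm) (pc_pb _ hE.2)

/-- flat base change -/
theorem rel_flat_bc [LocallyOfFiniteType f] {X' : Scheme.{u}} {p : X' ⟶ X} {q : X' ⟶ S'} (H : IsPullback p q f h)
    [Flat p] [Flat h] {m : ℤ} {E : DCoh.D X} (hE : DerSch.IsPseudoCoherentRel f m E) :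
    DerSch.IsPseudoCoherentRel q m ((PB p).obj E) := by
  haveI : LocallyOfFiniteType q := MorphismProperty.of_isPullback H inferInstance
  refine ⟨inferInstance, {V' | ∃ V : S.affineOpens, (V' : S'.Opens) ≤ h ⁻¹ᵁ (V : S.Opens)}, ?_, ?_⟩
  · refine eq_top_iff.2 fun y _ => ?_
    obtain ⟨V', V, hyV, hVV, -⟩ := exists_pair_le h (O := ⊤) (x := y) trivial
    exact Opens.mem_iSup.2 ⟨V', Opens.mem_iSup.2 ⟨⟨V, hVV⟩, hyV⟩⟩
  · rintro V' ⟨V, hVV⟩
    refine ⟨{U' | ∃ U : X.affineOpens, (U : X.Opens) ≤ f ⁻¹ᵁ (V : S.Opens) ∧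
      (U' : X'.Opens) = p ⁻¹ᵁ (U : X.Opens) ⊓ q ⁻¹ᵁ (V' : S'.Opens)}, ?_, ?_⟩
    · refine le_antisymm (iSup₂_le fun U' ⟨U, _, e⟩ => e.le.trans inf_le_right) fun x hx => ?_
      have hxV : f.base (p.base x) ∈ (V : S.Opens) := by
        have := congrArg (fun t => t.base x) H.w
        simp only [Scheme.Hom.comp_base, TopCat.comp_app] at this
        rw [this]
        exact hVV hx
      obtain ⟨_, ⟨U, hU, rfl⟩, hxU, hUV⟩ :=
        X.isBasis_affineOpens.exists_subset_of_mem_open (show p.base x ∈ f ⁻¹ᵁ (V : S.Opens) from hxV) (f ⁻¹ᵁ (V : S.Opens)).isOpen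
      replace hU : IsAffineOpen U := hU
      haveI : IsAffine _ := hU
      haveI : IsAffine _ := V.2
      haveI : IsAffine _ := V'.2
      let U' := p ⁻¹ᵁ U ⊓ q ⁻¹ᵁ (V' : S'.Opens)
      have hU' : IsAffineOpen U' :=
        .of_isIso (Scheme.Hom.isPullback_resLE H hVV hUV (rfl : U' = p ⁻¹ᵁ U ⊓ q ⁻¹ᵁ (V' : S'.Opens))).isoPullback.hom
      exact Opens.mem_iSup.2 ⟨⟨U', hU'⟩, Opens.mem_iSup.2 ⟨⟨⟨U, hU⟩, hUV, rfl⟩, hxU, hx⟩⟩
    · rintro U' ⟨U, hUV, hU'e⟩ hle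
      obtain ⟨n, φ, hφ⟩ := exists_chart U.2 V.2 hUV
      obtain ⟨φ', hφ', hq⟩ := qpc_flat_bc H V.2 U.2 V'.2 hUV hVV U'.2 hU'e hφ (qpc_of_rel hE U.2 V.2 hUV hφ)
      exact ⟨n, φ', hφ', (chartPC_iff U'.2 _ _ hφ'.1).2 hq⟩

end Groth.Agent.RelPCS
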