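import Groth.Agent.RelPCS.RelFP
import Groth.Agent.FlatRes.Basic
import Groth.Agent.FlatModB.Basic
import Groth.Agent.DRingKP.Coherent

/-!
# Complexes with flat relatively finitely presented terms
-/

set_option backward.isDefEq.respectTransparency false
set_option backward.isDefEq.respectTransparency.types false
set_option linter.style.haveILetI false
set_option autoImplicit false

universe u

open CategoryTheory Limits AlgebraicGeometry Pretriangulated Opposite

attribute [local instance] HasDerivedCategory.standard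

namespace Groth.Agent.RelPCS

open Groth.Agent.DQCoh

theorem flat_ker' {R M F : Type u} [CommRing R] [AddCommGroup M] [Module R M] [AddCommGroup F] [Module R F]
    [Module.Flat R F] [Module.Flat R M] (p : F →ₗ[R] M) (hp : Function.Surjective p) :
    Module.Flat R (LinearMap.ker p) := by
  rw [Module.Flat.iff_rTensor_injective]
  intro I hI
  have h1 : Function.Injective ((LinearMap.ker p).subtype.lTensor I) :=
    LinearMap.lTensor_injective_of_exact_of_flat p hp _ (Submodule.injective_subtype _)
      (LinearMap.exact_subtype_ker_map p) I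
  have h2 : Function.Injective (LinearMap.rTensor F I.subtype) :=
    Module.Flat.rTensor_preserves_injective_linearMap _ I.injective_subtype
  have h3 := h2.comp h1
  rw [← LinearMap.coe_comp, LinearMap.rTensor_comp_lTensor, ← LinearMap.lTensor_comp_rTensor] at h3
  exact Function.Injective.of_comp h3

/-- finitely presented modules flat over the base are pseudo-coherent -/
theorem pcModule_of_fp_flat {R B : Type u} [CommRing R] [CommRing B] [Algebra R B] [Module.Flat R B]
    [Algebra.FinitePresentation R B] : ∀ (k : ℕ) (M : Type u) [AddCommGroup M] [Module B M] [Module R M]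
    [IsScalarTower R B M] [Module.FinitePresentation B M] [Module.Flat R M],
    DRing.IsPseudoCoherentModule B (-(k : ℤ)) (ModuleCat.of B M) := by
  intro k
  induction k with
  | zero =>
    intro M _ _ _ _ _ _
    exact (DRingKP.pcModule_zero_iff (ModuleCat.of B M)).2 (inferInstanceAs (Module.Finite B M))
  | succ k ih =>
    intro M _ _ _ _ _ _
    obtain ⟨r, p, hp⟩ := Module.Finite.exists_fin' B M
    haveI : Module.Flat R (Fin r → B) := Module.Flat.trans R B (Fin r → B)
    haveI : Module.Flat R (LinearMap.ker p) :=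
      haveI : Module.Flat R (LinearMap.ker (p.restrictScalars R)) := flat_ker' (p.restrictScalars R) hp
      Module.Flat.of_linearEquiv
        ({ toFun := fun x => x, map_add' := fun _ _ => rfl, map_smul' := fun _ _ => rfl, invFun := fun x => x
           left_inv := fun _ => rfl, right_inv := fun _ => rfl } :
          LinearMap.ker p ≃ₗ[R] LinearMap.ker (p.restrictScalars R))
    haveI : Module.FinitePresentation B (LinearMap.ker p) := FlatRes.finitePresentation_ker (A := R) p hp
    let f : ModuleCat.of B (LinearMap.ker p) ⟶ ModuleCat.of B (Fin r → B) :=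
      ModuleCat.ofHom (LinearMap.ker p).subtype
    let g : ModuleCat.of B (Fin r → B) ⟶ ModuleCat.of B M := ModuleCat.ofHom p
    have hS : (ShortComplex.mk f g (by ext x; exact x.2)).ShortExact :=
      { exact := by
          rw [ShortComplex.moduleCat_exact_iff]
          exact fun x hx => ⟨⟨x, hx⟩, rfl⟩
        mono_f := (ModuleCat.mono_iff_injective f).2 (Submodule.injective_subtype _)
        epi_g := (ModuleCat.epi_iff_surjective g).2 hp }
    refine DRingKP.pcModule_quotient hS _ ?_ (DRingKP.pcModule_of_free (ModuleCat.of B (Fin r → B)) _)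
    rw [show -((k + 1 : ℕ) : ℤ) + 1 = -(k : ℤ) by lia]
    exact ih (LinearMap.ker p)

variable {X S : Scheme.{u}} {f : X ⟶ S} {A P : Type u} [CommRing A] [CommRing P]
  {j : Spec (CommRingCat.of A) ⟶ X} [IsOpenImmersion j] {φ : P →+* A}

lemma qpc_inD_of_sections (hφ : Function.Surjective φ) {M : X.Modules} [(M.restrict j).IsQuasicoherent] {m : ℤ}
    (h : DRing.IsPseudoCoherentModule P m (secMod j φ M)) : QPC m (DCoh.inD X M) j φ := by
  haveI := closedImm_sp hφ
  let e : (Scheme.Modules.pushforward (sp φ)).obj (M.restrict j) ≅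
      (tilde.functor (CommRingCat.of P)).obj (secMod j φ M) :=
    (Scheme.Modules.pushforward (sp φ)).mapIso (gammaIso (M.restrict j)).symm ≪≫
      (pushTildeIso (CommRingCat.ofHom φ)).app _
  exact ⟨hφ, pc_of_iso (qfInD j φ M ≪≫ (DerivedCategory.singleFunctor _ 0).mapIso e).symm
    ((pc_tilde_inD_iff _ m).2 h)⟩

/-- one flat relatively finitely presented module -/
lemma qpc_of_flat_fp [LocallyOfFiniteType f] {M : X.Modules} (hM : DerSch.IsPseudoCoherentRel f (-1) (DCoh.inD X M))
    (hfl : FlatMod.IsFlatOver f M) {U : X.Opens} (hU : IsAffineOpen U) {V : S.Opens} (hV : IsAffineOpen V)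
    (hUV : U ≤ f ⁻¹ᵁ V) {n : ℕ} {φ : MvPolynomial (Fin n) Γ(S, V) →+* Γ(X, U)}
    (hφ : DerSch.IsChart f U V hUV φ) (m : ℤ) : QPC m (DCoh.inD X M) hU.fromSpec φ := by
  obtain ⟨hq, hfp⟩ := (qpc_inD_negOne_iff hφ.1 M).1 (qpc_of_rel hM hU hV hUV hφ)
  haveI : (M.restrict hU.fromSpec).IsQuasicoherent := hq
  refine qpc_inD_of_sections hφ.1 ?_
  have hQ := ((rel_inD_negOne_iff M).1 hM).1
  let P := MvPolynomial (Fin n) Γ(S, V)
  let N := secMod hU.fromSpec φ M
  haveI : Module.FinitePresentation P N := hfp
  letI : Module Γ(S, V) N := Module.compHom N (algebraMap Γ(S, V) P)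
  haveI : IsScalarTower Γ(S, V) P N := IsScalarTower.of_compHom Γ(S, V) P N
  letI := FlatModB.secModule f M U V hUV
  haveI : Module.Flat Γ(S, V) Γ(M, U) := (FlatModB.flat_sections_iff f M hQ hU hV hUV).2 fun x _ => hfl x
  let t := QC.topEquiv hU M
  let e : N ≃ₗ[Γ(S, V)] Γ(M, U) :=
    { toFun := fun s => t s
      invFun := fun s => t.symm s
      left_inv := fun s => t.symm_apply_apply s
      right_inv := fun s => t.apply_symm_apply s
      map_add' := fun a b => t.map_add a b
      map_smul' := fun a b => (t.map_smul (φ (MvPolynomial.C a)) b).trans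
        (congrArg (fun c => c • t b) (RingHom.congr_fun hφ.2 a)) }
  haveI : Module.Flat Γ(S, V) N := Module.Flat.of_linearEquiv e
  exact DRingKP.pc_mono (by lia) (pcModule_of_fp_flat (R := Γ(S, V)) (B := P) (-m).toNat N)

theorem rel_of_flat_terms [LocallyOfFiniteType f] (E : CochainComplex X.Modules ℤ) (b : ℤ)
    (hb : ∀ i, b < i → IsZero (E.X i)) (hfl : ∀ i, FlatMod.IsFlatOver f (E.X i))
    (hfp : ∀ i, DerSch.IsPseudoCoherentRel f (-1) (DCoh.inD X (E.X i))) :
    DerSch.IsPseudoCoherentRelAll f (DCoh.toD X E) := fun m =>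
  rel_of_qpc fun _ hU _ hV hUV _ _ hφ =>
    qpc_termwise hφ.1 E b hb fun i _ => qpc_of_flat_fp (hfp i) (hfl i) hU hV hUV hφ _

end Groth.Agent.RelPCS
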