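import Groth.Agent.RelPCS.Calc
import Groth.Agent.QC.Localisation

/-!
Relative pseudo-coherence of objects with quasi-coherent cohomology, in terms of modules.
-/

set_option backward.isDefEq.respectTransparency false
set_option backward.isDefEq.respectTransparency.types false
set_option linter.style.haveILetI false
set_option autoImplicit false

universe u

open CategoryTheory Limits Pretriangulated AlgebraicGeometry HomologicalComplex Opposite TopologicalSpace

attribute [local instance] HasDerivedCategory.standard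

namespace Groth.Agent.RelPCS

open Groth.Agent.DQCoh Groth.Agent.RelPC

variable {X : Scheme.{u}}

/-- a module computing the sections -/
theorem exists_sections_module {U : X.Opens} (hU : IsAffineOpen U) {E : DCoh.D X} (hE : DCoh.IsQCohD E)
    {G : CochainComplex X.Modules ℤ} (e : DCoh.toD X G ≅ E) :
    ∃ M : Dual.D Γ(X, U), Nonempty ((DCoh.tildeD (CommRingCat.of Γ(X, U))).obj M ≅
      DCoh.toD _ ((DerSch.pushCx hU.isoSpec.hom).obj ((DCoh.restrictCx U).obj G))) := by
  refine (tildeD_affine.2.2 _).1 fun i => ?_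
  have h1 : Coh.IsQCoh ((Scheme.Modules.restrictFunctor U.ι).obj (DCoh.HD E i)) := QC.isQCoh_restrict U.ι (hE i)
  let i₁ : DCoh.HD (DCoh.toD _ ((DerSch.pushCx hU.isoSpec.hom).obj ((DCoh.restrictCx U).obj G))) i ≅
      (Scheme.Modules.pushforward hU.isoSpec.hom).obj ((Scheme.Modules.restrictFunctor U.ι).obj (DCoh.HD E i)) :=
    (DerivedCategory.homologyFunctor _ i).mapIso ((pdIso hU.isoSpec.hom ((DCoh.restrictCx U).obj G)).symm ≪≫
      (PD hU.isoSpec.hom).mapIso ((rdIso U.ι G).symm ≪≫ (RD U.ι).mapIso e)) ≪≫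
    (homologyDerIso (Scheme.Modules.pushforward hU.isoSpec.hom) i).app _ ≪≫
    (Scheme.Modules.pushforward hU.isoSpec.hom).mapIso ((homologyDerIso (Scheme.Modules.restrictFunctor U.ι) i).app E)
  haveI : ((Scheme.Modules.restrictFunctor U.ι).obj (DCoh.HD E i)).IsQuasicoherent := h1
  exact QC.isQCoh_of_iso i₁.symm (QC.isQCoh_pushforward hU.isoSpec.hom)

/-- the chart test through the module of sections -/
theorem chart_test_iff {R : Type u} [CommRing R] {U : X.Opens} (hU : IsAffineOpen U) {n : ℕ}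
    (φ : MvPolynomial (Fin n) R →+* Γ(X, U)) (hφ : Function.Surjective φ) (G : CochainComplex X.Modules ℤ)
    (M : Dual.D Γ(X, U)) (i : (DCoh.tildeD (CommRingCat.of Γ(X, U))).obj M ≅
      DCoh.toD _ ((DerSch.pushCx hU.isoSpec.hom).obj ((DCoh.restrictCx U).obj G))) (m : ℤ) :
    DCoh.IsPseudoCoherentD m (DCoh.toD _ ((DerSch.pushCx (DerSch.chartImm U φ)).obj ((DCoh.restrictCx U).obj G))) ↔
      DRing.IsPseudoCoherent (MvPolynomial (Fin n) R) m ((DRing.restrictD φ).obj M) := by
  haveI := closedImm_sp hφ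
  haveI : IsClosedImmersion (DerSch.chartImm U φ) := by
    rw [show DerSch.chartImm U φ = hU.isoSpec.hom ≫ sp φ from rfl]; infer_instance
  have e : DCoh.toD _ ((DerSch.pushCx (DerSch.chartImm U φ)).obj ((DCoh.restrictCx U).obj G)) ≅
      (DCoh.tildeD (CommRingCat.of (MvPolynomial (Fin n) R))).obj ((DRing.restrictD φ).obj M) :=
    (pdIso (DerSch.chartImm U φ) _).symm ≪≫
      (pdCongr (show DerSch.chartImm U φ = hU.isoSpec.hom ≫ sp φ from rfl)).app _ ≪≫
      (pdComp hU.isoSpec.hom (sp φ)).app _ ≪≫ (PD (sp φ)).mapIso (pdIso _ _ ≪≫ i.symm) ≪≫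
      (pdTildeIso φ).app M
  exact ⟨fun h => (pseudoCoherent_tilde_iff _ m).1 (pc_of_iso e h),
    fun h => pc_of_iso e.symm ((pseudoCoherent_tilde_iff _ m).2 h)⟩

end Groth.Agent.RelPCS
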