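import Groth.Agent.RelPCS.FlatPiece
import Groth.Agent.RelPCS.Bridge
import Groth.Agent.DRingKP.Descend
import Groth.Agent.QC.PullbackTilde
import Mathlib.AlgebraicGeometry.Morphisms.UniversallyOpen
import Mathlib.RingTheory.TensorProduct.Quotient

/-!
# Descent of relative pseudo-coherence along coverings of the base
-/

set_option backward.isDefEq.respectTransparency false
set_option backward.isDefEq.respectTransparency.types false
set_option linter.style.haveILetI false
set_option autoImplicit false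

universe u

open CategoryTheory Limits AlgebraicGeometry Opposite TopologicalSpace Pretriangulated
open scoped TensorProduct

attribute [local instance] HasDerivedCategory.standard

namespace Groth.Agent.RelPCS

open Groth.Agent.DQCoh

/-- flat families which are jointly surjective detect zero modules -/
lemma detects_of_flat_surj {A : Type u} [CommRing A] {ι : Type*} (B : ι → Type u) [∀ i, CommRing (B i)]
    [∀ i, Algebra A (B i)] [∀ i, Module.Flat A (B i)]
    (h : ∀ p : PrimeSpectrum A, ∃ (i : ι) (q : PrimeSpectrum (B i)), q.comap (algebraMap A (B i)) = p) :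
    DRingKP.Detects (A := A) B := fun M _ _ hM => by
  refine subsingleton_of_forall_eq 0 fun x => ?_
  by_contra hx
  let f := LinearMap.toSpanSingleton A M x
  let I : Ideal A := LinearMap.ker f
  have hI : I ≠ ⊤ := fun he => hx (by
    have h1 : (1 : A) ∈ I := he.symm ▸ Submodule.mem_top
    simpa [I, f] using h1)
  obtain ⟨p, hp, hIp⟩ := Ideal.exists_le_maximal I hI
  obtain ⟨i, q, hq⟩ := h ⟨p, hp.isPrime⟩
  haveI := hM i
  let g : (A ⧸ I) →ₗ[A] M := Submodule.liftQ I f le_rfl
  have hg : Function.Injective g := LinearMap.ker_eq_bot.1 (Submodule.ker_liftQ_eq_bot _ _ _ le_rfl)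
  haveI : Subsingleton (B i ⊗[A] (A ⧸ I)) :=
    (Module.Flat.lTensor_preserves_injective_linearMap (M := B i) g hg).subsingleton
  haveI : Subsingleton (B i ⧸ I.map (algebraMap A (B i))) :=
    (Algebra.TensorProduct.quotIdealMapEquivTensorQuot (B i) I).toEquiv.subsingleton
  refine q.2.ne_top (top_le_iff.1 ((Ideal.Quotient.subsingleton_iff.1 this).ge.trans ?_))
  refine Ideal.map_le_iff_le_comap.2 (hIp.trans ?_)
  exact (congrArg PrimeSpectrum.asIdeal hq).ge

/-- base change to polynomial rings keeps detection -/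
lemma detects_mvPolynomial {A : Type u} [CommRing A] {ι : Type*} (B : ι → Type u) [∀ i, CommRing (B i)]
    [∀ i, Algebra A (B i)] (h : DRingKP.Detects (A := A) B) (n : ℕ) :
    letI := fun i => (MvPolynomial.algebraMvPolynomial : Algebra (MvPolynomial (Fin n) A) (MvPolynomial (Fin n) (B i)))
    DRingKP.Detects (A := MvPolynomial (Fin n) A) (fun i => MvPolynomial (Fin n) (B i)) := by
  letI := fun i => (MvPolynomial.algebraMvPolynomial : Algebra (MvPolynomial (Fin n) A) (MvPolynomial (Fin n) (B i)))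
  intro N _ _ hN
  letI : Module A N := Module.compHom N (MvPolynomial.C : A →+* MvPolynomial (Fin n) A)
  haveI : IsScalarTower A (MvPolynomial (Fin n) A) N := IsScalarTower.of_compHom A _ N
  refine h N fun i => ?_
  haveI := hN i
  haveI : Algebra.IsPushout A (B i) (MvPolynomial (Fin n) A) (MvPolynomial (Fin n) (B i)) := Algebra.IsPushout.symm inferInstance
  exact (Algebra.IsPushout.cancelBaseChange A (B i) (MvPolynomial (Fin n) A) (MvPolynomial (Fin n) (B i)) N).toEquiv.symm.subsingleton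

/-- objects with quasi-coherent cohomology on a spectrum come from modules -/
lemma exists_tilde_rep {P : Type u} [CommRing P] (K : DCoh.D (Spec (CommRingCat.of P))) (hK : DCoh.IsQCohD K) :
    ∃ M : Dual.D P, Nonempty ((DCoh.tildeD (CommRingCat.of P)).obj M ≅ K) :=
  ((tildeD_affine (R := CommRingCat.of P)).2.2 K).1 hK

/-- descent for objects with quasi-coherent cohomology on a spectrum -/
theorem pc_of_pb_family {P : Type u} [CommRing P] {ι : Type*} [Finite ι] (B : ι → Type u) [∀ i, CommRing (B i)]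
    [∀ i, Algebra P (B i)] [∀ i, Module.Flat P (B i)] [∀ i, Flat (sp (algebraMap P (B i)))] (hB : DRingKP.Detects (A := P) B) {m : ℤ}
    (K : DCoh.D (Spec (CommRingCat.of P))) (hK : DCoh.IsQCohD K)
    (h : ∀ i, DCoh.IsPseudoCoherentD m ((PB (sp (algebraMap P (B i)))).obj K)) :
    DCoh.IsPseudoCoherentD m K := by
  obtain ⟨M, ⟨e⟩⟩ := exists_tilde_rep K hK
  let L := (DerivedCategory.Q : _ ⥤ DerivedCategory (ModuleCat.{u} P)).objPreimage M
  let eL : DRing.toD L ≅ M := DerivedCategory.Q.objObjPreimageIso M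
  refine pc_of_iso e ((pseudoCoherent_tilde_iff M m).2 (DRingKP.pc_of_iso eL (DRingKP.pc_of_bc hB m L fun i => ?_)))
  let γ := algebraMap P (B i)
  let e1 : (PB (sp γ)).obj K ≅ DCoh.toD _ (((Scheme.Modules.pullback (sp γ)).mapHomologicalComplex (ComplexShape.up ℤ)).obj
      ((tCx (R := CommRingCat.of P)).obj L)) :=
    (PB (sp γ)).mapIso (e.symm ≪≫ (DCoh.tildeD (CommRingCat.of P)).mapIso eL.symm ≪≫
      tildeToDIso (R := CommRingCat.of P) L) ≪≫ (Scheme.Modules.pullback (sp γ)).mapDerivedCategoryFactors.app _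
  let τ := QC.pullbackTildeIso (CommRingCat.ofHom γ)
  let e2 : ((Scheme.Modules.pullback (sp γ)).mapHomologicalComplex (ComplexShape.up ℤ)).obj
      ((tCx (R := CommRingCat.of P)).obj L) ≅ (tCx (R := CommRingCat.of (B i))).obj ((DRingKP.bc γ).obj L) :=
    HomologicalComplex.Hom.isoOfComponents (fun k => τ.app (L.X k))
      (fun j k _ => (τ.hom.naturality (L.d j k)).symm)
  exact (pseudoCoherent_tilde_iff _ m).1 (pc_of_iso (e1 ≪≫ DerivedCategory.Q.mapIso e2 ≪≫
    (tildeToDIso (R := CommRingCat.of (B i)) _).symm) (h i))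

variable {X S : Scheme.{u}} {f : X ⟶ S}

lemma isQCohD_chart {A P : Type u} [CommRing A] [CommRing P] {φ : P →+* A} [IsClosedImmersion (sp φ)]
    {j : Spec (CommRingCat.of A) ⟶ X} [IsOpenImmersion j] {E : DCoh.D X} (hE : DCoh.IsQCohD E) :
    DCoh.IsQCohD ((PD (sp φ)).obj ((RD j).obj E)) := fun i => by
  haveI : ((Scheme.Modules.restrictFunctor j).obj (DCoh.HD E i)).IsQuasicoherent := QC.isQCoh_restrict j (hE i)
  exact QC.isQCoh_of_iso (qfHD j φ E i).symm (QC.isQCoh_pushforward (sp φ))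

/-- finitely many affine opens of the members of a covering cover an affine open of the base -/
lemma exists_finite_pieces {ι : Type u} (Si : ι → Scheme.{u}) (h : ∀ i, Si i ⟶ S) [∀ i, Flat (h i)]
    [∀ i, LocallyOfFinitePresentation (h i)] (hcov : ∀ s : S, ∃ (i : ι) (t : Si i), (h i).base t = s)
    {V : S.Opens} (hV : IsAffineOpen V) :
    ∃ (κ : Type u) (_ : Finite κ) (a : κ → ι) (W : ∀ k, (Si (a k)).affineOpens),
      (∀ k, (W k : (Si (a k)).Opens) ≤ h (a k) ⁻¹ᵁ V) ∧
        ∀ s ∈ V, ∃ k, ∃ t ∈ (W k : (Si (a k)).Opens), (h (a k)).base t = s := by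
  classical
  have key : ∀ s : V, ∃ (i : ι) (W : (Si i).affineOpens), (W : (Si i).Opens) ≤ h i ⁻¹ᵁ V ∧
      (s : S) ∈ (h i).base '' (W : (Si i).Opens) := fun s => by
    obtain ⟨i, t, ht⟩ := hcov s
    obtain ⟨_, ⟨W, hW, rfl⟩, htW, hWV⟩ := (Si i).isBasis_affineOpens.exists_subset_of_mem_open
      (show t ∈ h i ⁻¹ᵁ V from by show (h i).base t ∈ V; rw [ht]; exact s.2) (h i ⁻¹ᵁ V).isOpen
    exact ⟨i, ⟨W, hW⟩, hWV, t, htW, ht⟩
  choose a W hWV hmem using key
  haveI : ∀ i, UniversallyOpen (h i) := fun i => inferInstance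
  obtain ⟨T, hT⟩ := hV.isCompact.elim_finite_subcover (fun s : V => (h (a s)).base '' (W s : (Si (a s)).Opens))
    (fun s => (h (a s)).isOpenMap _ (W s : (Si (a s)).Opens).isOpen)
    (fun s hs => Set.mem_iUnion.2 ⟨⟨s, hs⟩, hmem ⟨s, hs⟩⟩)
  refine ⟨T, inferInstance, fun k => a k.1, fun k => W k.1, fun k => hWV k.1, fun s hs => ?_⟩
  obtain ⟨k, hkT, t, ht, hts⟩ := Set.mem_iUnion₂.1 (hT hs)
  exact ⟨⟨k, hkT⟩, t, ht, hts⟩

/-- descent along a covering of the base -/
theorem rel_of_base_cover [LocallyOfFiniteType f] {ι : Type u} (Si : ι → Scheme.{u}) (h : ∀ i, Si i ⟶ S)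
    [∀ i, Flat (h i)] [∀ i, LocallyOfFinitePresentation (h i)]
    (hcov : ∀ s : S, ∃ (i : ι) (t : Si i), (h i).base t = s) {m : ℤ} {E : DCoh.D X} (hE : DCoh.IsQCohD E)
    (hi : ∀ i, DerSch.IsPseudoCoherentRel (pullback.snd f (h i)) m ((PB (pullback.fst f (h i))).obj E)) :
    DerSch.IsPseudoCoherentRel f m E := by
  refine rel_of_qpc fun U hU V hV hUV n φ hφ => ?_
  obtain ⟨κ, _, a, W, hWV, hWcov⟩ := exists_finite_pieces Si h hcov hV
  haveI := closedImm_sp hφ.1
  refine ⟨hφ.1, ?_⟩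
  let B : κ → Type u := fun k => Γ(Si (a k), (W k : (Si (a k)).Opens))
  let r : ∀ k, Γ(S, V) →+* B k := fun k => ((h (a k)).appLE V (W k : (Si (a k)).Opens) (hWV k)).hom
  letI : ∀ k, Algebra Γ(S, V) (B k) := fun k => (r k).toAlgebra
  haveI : ∀ k, Module.Flat Γ(S, V) (B k) := fun k => (h (a k)).flat_appLE hV (W k).2 (hWV k)
  have hD : DRingKP.Detects (A := Γ(S, V)) B := detects_of_flat_surj B fun p => by
    obtain ⟨k, t, ht, hts⟩ := hWcov (hV.fromSpec.base p) (hV.range_fromSpec.le ⟨p, rfl⟩)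
    obtain ⟨q, hq⟩ : t ∈ Set.range (W k).2.fromSpec.base := (W k).2.range_fromSpec.ge ht
    refine ⟨k, q, hV.fromSpec.isOpenEmbedding.injective ?_⟩
    have w := IsAffineOpen.SpecMap_appLE_fromSpec (h (a k)) hV (W k).2 (hWV k)
    exact ((congrArg (fun g => g.base q) w).trans ((congrArg (h (a k)).base hq).trans hts))
  letI := fun k => (MvPolynomial.algebraMvPolynomial : Algebra (MvPolynomial (Fin n) Γ(S, V)) (MvPolynomial (Fin n) (B k)))
  haveI : ∀ k, Flat (sp (algebraMap (MvPolynomial (Fin n) Γ(S, V)) (MvPolynomial (Fin n) (B k)))) := fun k =>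
    Flat.SpecMap_iff.2 (flat_map_mvPolynomial ((h (a k)).flat_appLE hV (W k).2 (hWV k)) n)
  haveI : ∀ k, Module.Flat (MvPolynomial (Fin n) Γ(S, V)) (MvPolynomial (Fin n) (B k)) := fun k =>
    flat_map_mvPolynomial ((h (a k)).flat_appLE hV (W k).2 (hWV k)) n
  refine pc_of_pb_family (fun k => MvPolynomial (Fin n) (B k)) (detects_mvPolynomial B hD n) _ (isQCohD_chart hE) fun k => ?_
  let p := pullback.fst f (h (a k))
  let q := pullback.snd f (h (a k))
  let H := IsPullback.of_hasPullback f (h (a k))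
  let U' := p ⁻¹ᵁ U ⊓ q ⁻¹ᵁ (W k : (Si (a k)).Opens)
  haveI : IsAffine _ := hU
  haveI : IsAffine _ := hV
  haveI : IsAffine _ := (W k).2
  have hU' : IsAffineOpen U' :=
    .of_isIso (Scheme.Hom.isPullback_resLE H (hWV k) hUV (rfl : U' = p ⁻¹ᵁ U ⊓ q ⁻¹ᵁ (W k : (Si (a k)).Opens))).isoPullback.hom
  have sq : IsPushout (f.appLE V U hUV) ((h (a k)).appLE V (W k : (Si (a k)).Opens) (hWV k))
      (p.appLE U U' inf_le_left) (q.appLE (W k : (Si (a k)).Opens) U' inf_le_right) := by
    have := isIso_pushoutSection_of_isAffineOpen H (hWV k) hUV (rfl : U' = _) hV (W k).2 hU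
    exact (isIso_pushoutSection_iff H (hWV k) hUV (rfl : U' = _)).1 this
  obtain ⟨φ', hφ', hC', hsq, hker⟩ := exists_pushout_chart sq φ hφ.1 hφ.2
  haveI := closedImm_sp hφ'
  let δ := (p.appLE U U' inf_le_left).hom
  haveI : Flat (sp δ) := Flat.SpecMap_iff.2 (p.flat_appLE hU hU' inf_le_left)
  have w : hU'.fromSpec ≫ p = sp δ ≫ hU.fromSpec := (IsAffineOpen.SpecMap_appLE_fromSpec p hU hU' inf_le_left).symm
  haveI := (hi (a k)).1
  have h1 := qpc_of_rel (hi (a k)) hU' (W k).2 inf_le_right (φ := φ') ⟨hφ', hC'⟩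
  haveI : Flat (sp (MvPolynomial.map (σ := Fin n) ((h (a k)).appLE V (W k : (Si (a k)).Opens) (hWV k)).hom)) :=
    Flat.SpecMap_iff.2 (flat_map_mvPolynomial ((h (a k)).flat_appLE hV (W k).2 (hWV k)) n)
  exact pc_of_iso ((pdBaseIso hφ.1 hφ' hker hsq).app _ ≪≫
    (PD (sp φ')).mapIso ((pbRdIso hU.fromSpec hU'.fromSpec (sp δ) w).app E).symm).symm h1.2

end Groth.Agent.RelPCS
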