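import Groth.Prelude.Def_DerSch2
import Groth.Agent.DQCoh.PCCalc
import Groth.Agent.GrothSS.ChangeRings
import Groth.Agent.RPushQC.Main
import Groth.Agent.QC.PullbackTilde
import Groth.Agent.TildeKFlat.Lpull

/-!
Direct image along closed immersions on derived categories.
-/

set_option backward.isDefEq.respectTransparency false
set_option backward.isDefEq.respectTransparency.types false
set_option linter.style.haveILetI false
set_option autoImplicit false

universe u

open CategoryTheory Limits AlgebraicGeometry HomologicalComplex Opposite TopologicalSpace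

attribute [local instance] HasDerivedCategory.standard

namespace Groth.Agent.RelPCS

open Groth.Agent.DQCoh

variable {X Y Z : Scheme.{u}}

instance preservesFiniteLimits_push (i : X ⟶ Y) [IsClosedImmersion i] :
    PreservesFiniteLimits (Scheme.Modules.pushforward i) := GrothSS.preservesFiniteLimits_push i

instance preservesFiniteColimits_push (i : X ⟶ Y) [IsClosedImmersion i] :
    PreservesFiniteColimits (Scheme.Modules.pushforward i) := GrothSS.preservesFiniteColimits_push i

instance faithful_push (i : X ⟶ Y) [IsClosedImmersion i] : (Scheme.Modules.pushforward i).Faithful := by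
  haveI := GrothSS.isIso_counit_push i
  exact ((Scheme.Modules.pullbackPushforwardAdjunction i).fullyFaithfulROfIsIsoCounit).faithful

/-- direct image along a closed immersion, on derived categories -/
noncomputable abbrev PD (i : X ⟶ Y) [IsClosedImmersion i] : DCoh.D X ⥤ DCoh.D Y :=
  (Scheme.Modules.pushforward i).mapDerivedCategory

/-- direct image at a complex -/
noncomputable def pdIso (i : X ⟶ Y) [IsClosedImmersion i] (F : CochainComplex X.Modules ℤ) :
    (PD i).obj (DCoh.toD X F) ≅ DCoh.toD Y ((DerSch.pushCx i).obj F) :=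
  (Scheme.Modules.pushforward i).mapDerivedCategoryFactors.app F

/-- direct image along a composite -/
noncomputable def pdComp (i : X ⟶ Y) (i' : Y ⟶ Z) [IsClosedImmersion i] [IsClosedImmersion i'] :
    PD (i ≫ i') ≅ PD i ⋙ PD i' :=
  Localization.liftNatIso DerivedCategory.Q (HomologicalComplex.quasiIso X.Modules (ComplexShape.up ℤ))
    (DerivedCategory.Q ⋙ PD (i ≫ i')) (DerivedCategory.Q ⋙ PD i ⋙ PD i') _ _
    ((Scheme.Modules.pushforward (i ≫ i')).mapDerivedCategoryFactors ≪≫
      Functor.isoWhiskerRight (Functor.mapHomologicalComplexCompIso (Scheme.Modules.pushforwardComp i i')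
        (ComplexShape.up ℤ)).symm _ ≪≫
      Functor.associator _ _ _ ≪≫
      Functor.isoWhiskerLeft _ (Scheme.Modules.pushforward i').mapDerivedCategoryFactors.symm ≪≫
      (Functor.associator _ _ _).symm ≪≫
      Functor.isoWhiskerRight (Scheme.Modules.pushforward i).mapDerivedCategoryFactors.symm _ ≪≫
      Functor.associator _ _ _)

/-- direct image along equal maps -/
noncomputable def pdCongr {i i' : X ⟶ Y} (h : i = i') [IsClosedImmersion i] [IsClosedImmersion i'] :
    PD i ≅ PD i' := by
  subst h; exact Iso.refl _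

instance isClosedImmersion_restr (i : X ⟶ Y) [IsClosedImmersion i] (V : Y.Opens) : IsClosedImmersion (i ∣_ V) :=
  MorphismProperty.of_isPullback (P := @IsClosedImmersion) (isPullback_morphismRestrict i V).flip ‹_›

/-- direct image and restriction to opens -/
noncomputable def pushRestrIso (i : X ⟶ Y) (V : Y.Opens) :
    Scheme.Modules.pushforward i ⋙ Scheme.Modules.restrictFunctor V.ι ≅
      Scheme.Modules.restrictFunctor (i ⁻¹ᵁ V).ι ⋙ Scheme.Modules.pushforward (i ∣_ V) :=
  RPushQC.topIso i V ≪≫ Functor.associator _ _ _ ≪≫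
    Functor.isoWhiskerLeft _ ((Functor.associator _ _ _).symm ≪≫
      Functor.isoWhiskerRight (Scheme.Modules.pushforwardComp (i ⁻¹ᵁ V).ι i ≪≫
        Scheme.Modules.pushforwardCongr (morphismRestrict_ι i V).symm ≪≫
          (Scheme.Modules.pushforwardComp (i ∣_ V) V.ι).symm) _ ≪≫
      Functor.associator _ _ _ ≪≫
      Functor.isoWhiskerLeft _ (Scheme.Modules.restrictFunctorAdjCounitIso V.ι) ≪≫ Functor.rightUnitor _)

/-- direct image and restriction to opens, on derived categories -/
noncomputable def pdRestrIso (i : X ⟶ Y) [IsClosedImmersion i] (V : Y.Opens) :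
    PD i ⋙ RD V.ι ≅ RD (i ⁻¹ᵁ V).ι ⋙ PD (i ∣_ V) :=
  Localization.liftNatIso DerivedCategory.Q (HomologicalComplex.quasiIso X.Modules (ComplexShape.up ℤ))
    (DerivedCategory.Q ⋙ PD i ⋙ RD V.ι) (DerivedCategory.Q ⋙ RD (i ⁻¹ᵁ V).ι ⋙ PD (i ∣_ V)) _ _
    ((Functor.associator _ _ _).symm ≪≫
      Functor.isoWhiskerRight (Scheme.Modules.pushforward i).mapDerivedCategoryFactors _ ≪≫
      Functor.associator _ _ _ ≪≫
      Functor.isoWhiskerLeft _ (Scheme.Modules.restrictFunctor V.ι).mapDerivedCategoryFactors ≪≫
      (Functor.associator _ _ _).symm ≪≫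
      Functor.isoWhiskerRight (Functor.mapHomologicalComplexCompIso (pushRestrIso i V) (ComplexShape.up ℤ) ≪≫
        (Functor.mapHomologicalComplexCompIso (Iso.refl _) (ComplexShape.up ℤ)).symm) _ ≪≫
      Functor.associator _ _ _ ≪≫
      Functor.isoWhiskerLeft _ (Scheme.Modules.pushforward (i ∣_ V)).mapDerivedCategoryFactors.symm ≪≫
      (Functor.associator _ _ _).symm ≪≫
      Functor.isoWhiskerRight (Scheme.Modules.restrictFunctor (i ⁻¹ᵁ V).ι).mapDerivedCategoryFactors.symm _ ≪≫
      Functor.associator _ _ _)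

section BC

open Groth.Agent.QC in
/-- base change of a direct image along an open immersion -/
noncomputable def bcPushIso {X' Y' : Scheme.{u}} (i : X ⟶ Y) (i' : X' ⟶ Y') (j : Y' ⟶ Y) (j' : X' ⟶ X)
    [IsOpenImmersion j] [IsOpenImmersion j'] (w : i' ≫ j = j' ≫ i) (hr : j'.opensRange = i ⁻¹ᵁ j.opensRange) :
    Scheme.Modules.pushforward i ⋙ Scheme.Modules.restrictFunctor j ≅
      Scheme.Modules.restrictFunctor j' ⋙ Scheme.Modules.pushforward i' :=
  haveI : ∀ N, IsIso ((Functor.whiskerRight (Scheme.Modules.restrictAdjunction j').unit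
      (Scheme.Modules.pushforward i ⋙ Scheme.Modules.restrictFunctor j)).app N) := fun N =>
    Scheme.Modules.Hom.isIso_iff_isIso_app.2 fun W => by
      let P : X.Opens := i ⁻¹ᵁ (j ''ᵁ W)
      have hP : P ≤ j'.opensRange := by
        rw [hr]
        exact i.preimage_mono (by rintro x ⟨y, -, rfl⟩; exact ⟨y, rfl⟩)
      have hle : P ≤ j' ''ᵁ (j' ⁻¹ᵁ P) := by
        rw [Scheme.Hom.image_preimage_eq_opensRange_inf]; exact le_inf hP le_rfl
      refine (ConcreteCategory.isIso_iff_bijective _).2
        (show Function.Bijective (res N (j'.image_preimage_le P)) from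
        Function.bijective_iff_has_inverse.2 ⟨fun s => res N hle s,
          fun s => (res_res N _ _ s).trans (res_self N _ s),
          fun s => (res_res N _ _ s).trans (res_self N _ s)⟩)
  (Functor.leftUnitor _).symm ≪≫
    @asIso _ _ _ _ (Functor.whiskerRight (Scheme.Modules.restrictAdjunction j').unit
      (Scheme.Modules.pushforward i ⋙ Scheme.Modules.restrictFunctor j)) (NatIso.isIso_of_isIso_app _) ≪≫
    Functor.associator _ _ _ ≪≫
    Functor.isoWhiskerLeft _ ((Functor.associator _ _ _).symm ≪≫
      Functor.isoWhiskerRight (Scheme.Modules.pushforwardComp j' i ≪≫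
        Scheme.Modules.pushforwardCongr w.symm ≪≫ (Scheme.Modules.pushforwardComp i' j).symm) _ ≪≫
      Functor.associator _ _ _ ≪≫
      Functor.isoWhiskerLeft _ (Scheme.Modules.restrictFunctorAdjCounitIso j) ≪≫ Functor.rightUnitor _)

/-- base change of a direct image along an open immersion, on derived categories -/
noncomputable def pdBcIso {X' Y' : Scheme.{u}} (i : X ⟶ Y) (i' : X' ⟶ Y') (j : Y' ⟶ Y) (j' : X' ⟶ X)
    [IsClosedImmersion i] [IsClosedImmersion i'] [IsOpenImmersion j] [IsOpenImmersion j']
    (w : i' ≫ j = j' ≫ i) (hr : j'.opensRange = i ⁻¹ᵁ j.opensRange) :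
    PD i ⋙ RD j ≅ RD j' ⋙ PD i' :=
  Localization.liftNatIso DerivedCategory.Q (HomologicalComplex.quasiIso X.Modules (ComplexShape.up ℤ))
    (DerivedCategory.Q ⋙ PD i ⋙ RD j) (DerivedCategory.Q ⋙ RD j' ⋙ PD i') _ _
    ((Functor.associator _ _ _).symm ≪≫
      Functor.isoWhiskerRight (Scheme.Modules.pushforward i).mapDerivedCategoryFactors _ ≪≫
      Functor.associator _ _ _ ≪≫
      Functor.isoWhiskerLeft _ (Scheme.Modules.restrictFunctor j).mapDerivedCategoryFactors ≪≫
      (Functor.associator _ _ _).symm ≪≫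
      Functor.isoWhiskerRight (Functor.mapHomologicalComplexCompIso (bcPushIso i i' j j' w hr) (ComplexShape.up ℤ) ≪≫
        (Functor.mapHomologicalComplexCompIso (Iso.refl _) (ComplexShape.up ℤ)).symm) _ ≪≫
      Functor.associator _ _ _ ≪≫
      Functor.isoWhiskerLeft _ (Scheme.Modules.pushforward i').mapDerivedCategoryFactors.symm ≪≫
      (Functor.associator _ _ _).symm ≪≫
      Functor.isoWhiskerRight (Scheme.Modules.restrictFunctor j').mapDerivedCategoryFactors.symm _ ≪≫
      Functor.associator _ _ _)

end BC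

/-- modules on the empty scheme vanish -/
lemma isZero_of_isEmpty [IsEmpty X] (M : X.Modules) : IsZero M :=
  KFlat.isZero_of_stalks M fun x => isEmptyElim x

/-- everything is acyclic on the empty scheme -/
lemma isAboveD_of_isEmpty [IsEmpty X] (K : DCoh.D X) (n : ℤ) : IsAboveD n K :=
  fun _ _ => isZero_of_isEmpty _

section Tilde

variable {R S : CommRingCat.{u}} (φ : R ⟶ S)

/-- direct image of `N~` along `Spec φ` -/
noncomputable def pushTildeIso :
    tilde.functor S ⋙ Scheme.Modules.pushforward (Spec.map φ) ≅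
      ModuleCat.restrictScalars.{u} φ.hom ⋙ tilde.functor R :=
  haveI : ∀ N, IsIso ((Functor.whiskerLeft (tilde.functor S ⋙ Scheme.Modules.pushforward (Spec.map φ))
      (Scheme.Modules.fromTildeΓNatTrans (R := R))).app N) := fun N => by
    haveI : IsIso ((tilde.functor S).obj N).fromTildeΓ :=
      isIso_fromTildeΓ_iff.2 ((tilde.functor S).obj_mem_essImage N)
    exact isIso_fromTildeΓ_pushforward φ _
  (Functor.rightUnitor _).symm ≪≫
    (@asIso _ _ _ _ (Functor.whiskerLeft (tilde.functor S ⋙ Scheme.Modules.pushforward (Spec.map φ))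
      (Scheme.Modules.fromTildeΓNatTrans (R := R))) (NatIso.isIso_of_isIso_app _)).symm ≪≫
    Functor.associator _ _ _ ≪≫
    Functor.isoWhiskerLeft _ ((Functor.associator _ _ _).symm ≪≫
      Functor.isoWhiskerRight (QC.pushforwardΓIso φ) _ ≪≫ Functor.associator _ _ _) ≪≫
    (Functor.associator _ _ _).symm ≪≫
    Functor.isoWhiskerRight (tilde.toTildeΓNatIso (R := S)).symm _ ≪≫ Functor.leftUnitor _

end Tilde

section TildeD

variable {A B : Type u} [CommRing A] [CommRing B] (φ : A →+* B) [IsClosedImmersion (Spec.map (CommRingCat.ofHom φ))]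
  [PreservesFiniteLimits (tilde.functor (CommRingCat.of A))] [PreservesFiniteLimits (tilde.functor (CommRingCat.of B))]

/-- direct image of `M~` along `Spec φ`, derived -/
noncomputable def pdTildeIso :
    DCoh.tildeD (CommRingCat.of B) ⋙ PD (Spec.map (CommRingCat.ofHom φ)) ≅ DRing.restrictD φ ⋙ DCoh.tildeD (CommRingCat.of A) :=
  Localization.liftNatIso DerivedCategory.Q (HomologicalComplex.quasiIso (ModuleCat.{u} B) (ComplexShape.up ℤ))
    (DerivedCategory.Q ⋙ DCoh.tildeD (CommRingCat.of B) ⋙ PD (Spec.map (CommRingCat.ofHom φ))) (DerivedCategory.Q ⋙ DRing.restrictD φ ⋙ DCoh.tildeD (CommRingCat.of A)) _ _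
    ((Functor.associator _ _ _).symm ≪≫
      Functor.isoWhiskerRight (tilde.functor (CommRingCat.of B)).mapDerivedCategoryFactors _ ≪≫
      Functor.associator _ _ _ ≪≫
      Functor.isoWhiskerLeft _ (Scheme.Modules.pushforward (Spec.map (CommRingCat.ofHom φ))).mapDerivedCategoryFactors ≪≫
      (Functor.associator _ _ _).symm ≪≫
      Functor.isoWhiskerRight (Functor.mapHomologicalComplexCompIso (pushTildeIso (CommRingCat.ofHom φ)) (ComplexShape.up ℤ) ≪≫
        (Functor.mapHomologicalComplexCompIso (Iso.refl _) (ComplexShape.up ℤ)).symm) _ ≪≫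
      Functor.associator _ _ _ ≪≫
      Functor.isoWhiskerLeft _ (tilde.functor (CommRingCat.of A)).mapDerivedCategoryFactors.symm ≪≫
      (Functor.associator _ _ _).symm ≪≫
      Functor.isoWhiskerRight (ModuleCat.restrictScalars.{u} φ).mapDerivedCategoryFactors.symm _ ≪≫
      Functor.associator _ _ _)

end TildeD

end Groth.Agent.RelPCS
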