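import Groth.Agent.RelPCS.Chart
import Groth.Agent.QC.Pullback

/-!
Formal properties of relative pseudo-coherence.
-/

set_option backward.isDefEq.respectTransparency false
set_option backward.isDefEq.respectTransparency.types false
set_option linter.style.haveILetI false
set_option autoImplicit false

universe u

open CategoryTheory Limits Pretriangulated AlgebraicGeometry HomologicalComplex Opposite TopologicalSpace

attribute [local instance] HasDerivedCategory.standard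

namespace Groth.Agent.RelPCS

open Groth.Agent.DQCoh

variable {X S : Scheme.{u}} {f : X ⟶ S}

/-- charts of affine pairs from the predicate -/
lemma qpc_of_rel {m : ℤ} {E : DCoh.D X} (hE : DerSch.IsPseudoCoherentRel f m E) {U : X.Opens}
    (hU : IsAffineOpen U) {V : S.Opens} (hV : IsAffineOpen V) (h : U ≤ f ⁻¹ᵁ V) {n : ℕ}
    {φ : MvPolynomial (Fin n) Γ(S, V) →+* Γ(X, U)} (hφ : DerSch.IsChart f U V h φ) :
    QPC m E hU.fromSpec φ :=
  haveI := hE.1
  qpc_of_qa hU h ((rel_iff_qa m E).1 hE ⟨U, hU⟩ ⟨V, hV⟩) hφ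

/-- the predicate from charts of affine pairs -/
lemma rel_of_qpc [LocallyOfFiniteType f] {m : ℤ} {E : DCoh.D X}
    (H : ∀ (U : X.Opens) (hU : IsAffineOpen U) (V : S.Opens) (_ : IsAffineOpen V) (h : U ≤ f ⁻¹ᵁ V) (n : ℕ)
      (φ : MvPolynomial (Fin n) Γ(S, V) →+* Γ(X, U)), DerSch.IsChart f U V h φ → QPC m E hU.fromSpec φ) :
    DerSch.IsPseudoCoherentRel f m E :=
  (rel_iff_qa m E).2 fun U V h => by
    obtain ⟨n, φ, hφ⟩ := exists_chart U.2 V.2 h
    exact qa_of_qpc U.2 h hφ (H _ U.2 _ V.2 h n φ hφ) h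

section QPC

variable {A P : Type u} [CommRing A] [CommRing P] {j : Spec (CommRingCat.of A) ⟶ X} [IsOpenImmersion j]
  {φ : P →+* A}

/-- the functor computing the test -/
noncomputable abbrev QF (j : Spec (CommRingCat.of A) ⟶ X) [IsOpenImmersion j] (φ : P →+* A)
    [IsClosedImmersion (sp φ)] : DCoh.D X ⥤ DCoh.D (Spec (CommRingCat.of P)) :=
  RD j ⋙ PD (sp φ)

lemma qpc_iso {m : ℤ} {E E' : DCoh.D X} (e : E ≅ E') (h : QPC m E j φ) : QPC m E' j φ := by
  obtain ⟨hφ, h⟩ := h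
  haveI := closedImm_sp hφ
  exact ⟨hφ, pc_of_iso ((QF j φ).mapIso e) h⟩

lemma qpc_mono {m n : ℤ} (hmn : m ≤ n) {E : DCoh.D X} (h : QPC m E j φ) : QPC n E j φ :=
  ⟨h.1, pc_mono hmn h.2⟩

lemma qpc_obj₂ {m : ℤ} {T : Triangle (DCoh.D X)} (hT : T ∈ distTriang (DCoh.D X))
    (h₁ : QPC m T.obj₁ j φ) (h₃ : QPC m T.obj₃ j φ) : QPC m T.obj₂ j φ := by
  obtain ⟨hφ, h₁⟩ := h₁
  haveI := closedImm_sp hφ
  exact ⟨hφ, pc_obj₂ _ ((QF j φ).map_distinguished T hT) m h₁ h₃.2⟩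

lemma qpc_obj₃ {m : ℤ} {T : Triangle (DCoh.D X)} (hT : T ∈ distTriang (DCoh.D X))
    (h₁ : QPC (m + 1) T.obj₁ j φ) (h₂ : QPC m T.obj₂ j φ) : QPC m T.obj₃ j φ := by
  obtain ⟨hφ, h₁⟩ := h₁
  haveI := closedImm_sp hφ
  exact ⟨hφ, pc_obj₃ _ ((QF j φ).map_distinguished T hT) m h₁ h₂.2⟩

lemma qpc_obj₁ {m : ℤ} {T : Triangle (DCoh.D X)} (hT : T ∈ distTriang (DCoh.D X))
    (h₂ : QPC (m + 1) T.obj₂ j φ) (h₃ : QPC m T.obj₃ j φ) : QPC (m + 1) T.obj₁ j φ := by
  obtain ⟨hφ, h₂⟩ := h₂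
  haveI := closedImm_sp hφ
  exact ⟨hφ, pc_obj₁ _ ((QF j φ).map_distinguished T hT) m h₂ h₃.2⟩

lemma qpc_biprod {m : ℤ} {E K : DCoh.D X} [HasBinaryBiproduct E K] (h : QPC m (E ⊞ K) j φ) :
    QPC m E j φ ∧ QPC m K j φ := by
  obtain ⟨hφ, h⟩ := h
  haveI := closedImm_sp hφ
  haveI := preservesBinaryBiproducts_of_preservesBiproducts (QF j φ)
  obtain ⟨h₁, h₂⟩ := pc_of_retract (pc_of_iso ((QF j φ).mapBiprod E K) h)
  exact ⟨⟨hφ, h₁⟩, hφ, h₂⟩

/-- the test on a single module -/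
noncomputable def qfInD (j : Spec (CommRingCat.of A) ⟶ X) [IsOpenImmersion j] (φ : P →+* A)
    [IsClosedImmersion (sp φ)] (M : X.Modules) :
    (QF j φ).obj (DCoh.inD X M) ≅
      DCoh.inD _ ((Scheme.Modules.pushforward (sp φ)).obj ((Scheme.Modules.restrictFunctor j).obj M)) :=
  (PD (sp φ)).mapIso (rdInD j M) ≪≫
    ((Scheme.Modules.pushforward (sp φ)).mapDerivedCategorySingleFunctor 0).app _

/-- cohomology of the test object -/
noncomputable def qfHD (j : Spec (CommRingCat.of A) ⟶ X) [IsOpenImmersion j] (φ : P →+* A)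
    [IsClosedImmersion (sp φ)] (E : DCoh.D X) (i : ℤ) :
    DCoh.HD ((QF j φ).obj E) i ≅
      (Scheme.Modules.pushforward (sp φ)).obj ((Scheme.Modules.restrictFunctor j).obj (DCoh.HD E i)) :=
  (homologyDerIso (Scheme.Modules.pushforward (sp φ)) i).app _ ≪≫
    (Scheme.Modules.pushforward (sp φ)).mapIso ((homologyDerIso (Scheme.Modules.restrictFunctor j) i).app E)

lemma qpc_termwise {m : ℤ} (hφ : Function.Surjective φ) (F : CochainComplex X.Modules ℤ) (b : ℤ)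
    (hb : ∀ i, b < i → IsZero (F.X i)) (h : ∀ i, m ≤ i → QPC (m - i) (DCoh.inD X (F.X i)) j φ) :
    QPC m (DCoh.toD X F) j φ := by
  haveI := closedImm_sp hφ
  refine ⟨hφ, pc_of_iso ((PD (sp φ)).mapIso (rdIso j F) ≪≫ pdIso _ _).symm (pc_of_termwise m _ b
    (fun i hi => (Scheme.Modules.pushforward (sp φ)).map_isZero
      ((Scheme.Modules.restrictFunctor j).map_isZero (hb i hi))) fun i hi => ?_)⟩
  exact pc_of_iso (qfInD j φ (F.X i)) (h i hi).2

lemma qpc_homology {m : ℤ} (hφ : Function.Surjective φ) (E : DCoh.D X) (b : ℤ) (hb : IsAboveD b E)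
    (h : ∀ i, m ≤ i → QPC (m - i) (DCoh.inD X (DCoh.HD E i)) j φ) : QPC m E j φ := by
  haveI := closedImm_sp hφ
  refine ⟨hφ, pc_of_homology m _ b (isAboveD_map _ (isAboveD_map _ hb)) fun i hi => ?_⟩
  exact pc_of_iso (qfInD j φ _ ≪≫ (DerivedCategory.singleFunctor _ 0).mapIso (qfHD j φ E i).symm) (h i hi).2

lemma qcoh_of_qpc {m : ℤ} {E : DCoh.D X} (h : QPC m E j φ) (i : ℤ) (hi : m < i) :
    Coh.IsQCoh ((Scheme.Modules.restrictFunctor j).obj (DCoh.HD E i)) := by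
  obtain ⟨hφ, h⟩ := h
  haveI := closedImm_sp hφ
  haveI := GrothSS.isIso_counit_push (sp φ)
  exact QC.isQCoh_of_iso ((asIso (Scheme.Modules.pullbackPushforwardAdjunction (sp φ)).counit).app _)
    (QC.isQCoh_pullback (sp φ) (QC.isQCoh_of_iso (qfHD j φ E i)
      ((isQCoh_cohomology_of_pseudoCoherent m _ h).1 i hi)))

end QPC

lemma isZero_of_cover (M : X.Modules) {U : X → Scheme.{u}} (l : ∀ x, U x ⟶ X) [∀ x, IsOpenImmersion (l x)]
    (hl : ∀ x, x ∈ Set.range (l x).base)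
    (h : ∀ x, IsZero ((Scheme.Modules.restrictFunctor (l x)).obj M)) : IsZero M := by
  have : IsIso (0 : M ⟶ kernel (𝟙 M)) := by
    refine QC.isIso_of_restrict_cover l (fun x => ⟨x, hl x⟩) _ fun x => ?_
    exact isIso_of_source_target_iso_zero _ (h x).isoZero
      ((Scheme.Modules.restrictFunctor (l x)).map_isZero (isZero_kernel_of_mono (𝟙 M))).isoZero
  exact (isZero_kernel_of_mono (𝟙 M)).of_iso (asIso (0 : M ⟶ kernel (𝟙 M)))

lemma isZero_of_locally (M : X.Modules)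
    (h : ∀ x : X, ∃ V : X.Opens, x ∈ V ∧ IsZero ((Scheme.Modules.restrictFunctor V.ι).obj M)) : IsZero M := by
  choose V hV hz using h
  exact isZero_of_cover M (fun x => (V x).ι) (fun x => by rw [Scheme.Opens.range_ι]; exact hV x) hz

lemma exists_bound_of_pc {m : ℤ} {K : DCoh.D X} [CompactSpace X] (h : DCoh.IsPseudoCoherentD m K) :
    ∃ b : ℤ, IsAboveD b K := by
  have hl : ∀ x : X, ∃ (V : X.Opens) (b : ℤ), x ∈ V ∧ IsAboveD b ((RD V.ι).obj K) := fun x => by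
    obtain ⟨U, l, hl, u, hu, hP⟩ := (pc_iff_near m K).1 h x
    haveI := hl
    obtain ⟨k, hk, hkl⟩ := exists_opens l
    obtain ⟨E, β, hE, hβ⟩ := pcOn_congr hkl (pcOn_comp k l hP)
    obtain ⟨⟨a, b, hab⟩, -⟩ := hE
    refine ⟨l.opensRange, max m b + 1, ⟨u, hu⟩, fun j hj => ?_⟩
    haveI := hβ.1 j (by lia)
    exact ((ShortComplex.isZero_homology_of_isZero_X₂ _ (hab j (Or.inr (by lia)))).of_iso
      ((DerivedCategory.homologyFunctorFactors (l.opensRange : Scheme.{u}).Modules j).app E)).of_iso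
        (asIso ((DerivedCategory.homologyFunctor (l.opensRange : Scheme.{u}).Modules j).map β)).symm
  choose V b hV hb using hl
  obtain ⟨t, ht⟩ := isCompact_univ.elim_finite_subcover (fun x => (V x : Set X)) (fun x => (V x).2)
    fun x _ => Set.mem_iUnion.2 ⟨x, hV x⟩
  refine ⟨(t.sup fun x => (b x).toNat : ℕ), fun i hi => isZero_of_locally _ fun x => ?_⟩
  obtain ⟨y, hy, hxy⟩ := Set.mem_iUnion₂.1 (ht (Set.mem_univ x))
  refine ⟨V y, hxy, (hb y i ?_).of_iso ((homologyDerIso (Scheme.Modules.restrictFunctor (V y).ι) i).app K).symm⟩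
  have h1 : (b y).toNat ≤ t.sup fun x => (b x).toNat := Finset.le_sup (f := fun x => (b x).toNat) hy
  lia

lemma qcoh_restrict_of_fromSpec {U : X.Opens} (hU : IsAffineOpen U) {M : X.Modules}
    (h : Coh.IsQCoh ((Scheme.Modules.restrictFunctor hU.fromSpec).obj M)) : Coh.IsQCoh (M.restrict U.ι) := by
  have w : hU.isoSpec.hom ≫ hU.fromSpec = U.ι := by
    rw [IsAffineOpen.fromSpec, Iso.hom_inv_id_assoc]
  have h' := QC.isQCoh_restrict hU.isoSpec.hom h
  exact QC.isQCoh_of_iso (((Scheme.Modules.restrictFunctorComp hU.isoSpec.hom hU.fromSpec).app M).symm ≪≫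
    (Scheme.Modules.restrictFunctorCongr w).app M) h'

lemma exists_bound_of_qpc {m : ℤ} {E : DCoh.D X} {A P : Type u} [CommRing A] [CommRing P]
    {j : Spec (CommRingCat.of A) ⟶ X} [IsOpenImmersion j] {φ : P →+* A} (h : QPC m E j φ) :
    ∃ b : ℤ, IsAboveD b ((RD j).obj E) := by
  obtain ⟨hφ, h⟩ := h
  haveI := closedImm_sp hφ
  obtain ⟨b, hb⟩ := exists_bound_of_pc h
  refine ⟨b, fun i hi => ?_⟩
  have hz := (hb i hi).of_iso ((homologyDerIso (Scheme.Modules.pushforward (sp φ)) i).app _).symm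
  rw [IsZero.iff_id_eq_zero]
  exact (Scheme.Modules.pushforward (sp φ)).map_injective (hz.eq_of_src _ _)

theorem exists_bound_of_rel [CompactSpace X] {m : ℤ} {E : DCoh.D X}
    (hE : DerSch.IsPseudoCoherentRel f m E) : ∃ b : ℤ, IsAboveD (b + 1) E := by
  haveI := hE.1
  have hl : ∀ x : X, ∃ (U : X.Opens) (hU : IsAffineOpen U) (b : ℤ), x ∈ U ∧ IsAboveD b ((RD hU.fromSpec).obj E) := by
    intro x
    obtain ⟨_, ⟨V, hV, rfl⟩, hxV, -⟩ :=
      S.isBasis_affineOpens.exists_subset_of_mem_open (Set.mem_univ (f.base x)) isOpen_univ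
    obtain ⟨_, ⟨U, hU, rfl⟩, hxU, hUV⟩ :=
      X.isBasis_affineOpens.exists_subset_of_mem_open (a := x) (show x ∈ ((f ⁻¹ᵁ V : X.Opens) : Set X) from hxV) (f ⁻¹ᵁ V).2
    obtain ⟨n, φ, hφ⟩ := exists_chart (f := f) hU hV hUV
    obtain ⟨b, hb⟩ := exists_bound_of_qpc (qpc_of_rel hE hU hV hUV hφ)
    exact ⟨U, hU, b, hxU, hb⟩
  choose U hU b hxU hb using hl
  obtain ⟨t, ht⟩ := isCompact_univ.elim_finite_subcover (fun x => (U x : Set X)) (fun x => (U x).2)
    fun x _ => Set.mem_iUnion.2 ⟨x, hxU x⟩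
  refine ⟨(t.sup fun x => (b x).toNat : ℕ), fun i hi => ?_⟩
  have hex : ∀ x : X, ∃ y ∈ t, x ∈ U y := fun x => by
    obtain ⟨y, hy, hxy⟩ := Set.mem_iUnion₂.1 (ht (Set.mem_univ x))
    exact ⟨y, hy, hxy⟩
  choose y hy hxy using hex
  refine isZero_of_cover _ (fun x => (hU (y x)).fromSpec) (fun x => ?_) fun x => ?_
  · rw [(hU (y x)).range_fromSpec]; exact hxy x
  · refine (hb (y x) i ?_).of_iso ((homologyDerIso (Scheme.Modules.restrictFunctor _) i).app E).symm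
    have h1 : (b (y x)).toNat ≤ t.sup fun x => (b x).toNat := Finset.le_sup (f := fun x => (b x).toNat) (hy x)
    lia

end Groth.Agent.RelPCS
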