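import Groth.Agent.DQCoh.PCCalc

/-!
Dévissage of complexes and objects of `D(O_X)` to single modules.
-/

set_option linter.style.haveILetI false
set_option autoImplicit false

universe w v u

open CategoryTheory Limits Pretriangulated AlgebraicGeometry HomologicalComplex

namespace Groth.Agent.RelPCS

open Groth.Agent.DQCoh

section Gen

attribute [local instance] HasDerivedCategory.standard

variable {C : Type u} [Category.{v} C] [Abelian C]

lemma isIso_σπ_f (E : CochainComplex C ℤ) (n i : ℤ) (h : i < n) : IsIso ((σSeq E n).g.f i) :=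
  ((σSeq_shortExact E n).map_of_exact (HomologicalComplex.eval _ _ i)).isIso_g_iff.2 (isZero_σGE_X E n i h)

/-- bounded complexes: induction on the terms -/
theorem of_terms (P : DerivedCategory C → Prop) (hiso : ∀ {X Y : DerivedCategory C}, (X ≅ Y) → P X → P Y)
    (hext : ∀ T : Triangle (DerivedCategory C), T ∈ distTriang (DerivedCategory C) → P T.obj₁ → P T.obj₃ → P T.obj₂)
    (hzero : ∀ X : DerivedCategory C, IsZero X → P X) (K : CochainComplex C ℤ) (a b : ℤ)
    (hab : ∀ i, i < a ∨ b < i → IsZero (K.X i))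
    (hK : ∀ i, a ≤ i → i ≤ b → P ((DerivedCategory.singleFunctor C i).obj (K.X i))) :
    P (DerivedCategory.Q.obj K) := by
  suffices H : ∀ (d : ℕ) (a : ℤ) (K : CochainComplex C ℤ), b < a + d → (∀ i, i < a ∨ b < i → IsZero (K.X i)) →
      (∀ i, a ≤ i → i ≤ b → P ((DerivedCategory.singleFunctor C i).obj (K.X i))) →
      P (DerivedCategory.Q.obj K) from H (b + 1 - a).toNat a K (by lia) hab hK
  intro d
  induction d with
  | zero =>
    intro a K ha hab _
    refine hzero _ (DerivedCategory.Q.map_isZero ?_)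
    rw [IsZero.iff_id_eq_zero]
    ext i : 1
    exact (hab i (by lia)).eq_of_src _ _
  | succ d ih =>
    intro a K ha hab hK
    by_cases hba : b < a
    · exact ih a K (by lia) hab hK
    let S := σSeq K (a + 1)
    refine hext _ (DerivedCategory.triangleOfSES_distinguished (σSeq_shortExact K (a + 1))) ?_ ?_
    · refine ih (a + 1) (σGE K (a + 1)) (by lia) (fun i hi => ?_) fun i hi hi' => ?_
      · by_cases h : a + 1 ≤ i
        · haveI := isIso_σι_f K (a + 1) i h
          exact (hab i (Or.inr (by lia))).of_iso (asIso ((σι K (a + 1)).f i))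
        · exact isZero_σGE_X K (a + 1) i (by lia)
      haveI := isIso_σι_f K (a + 1) i hi
      exact hiso ((DerivedCategory.singleFunctor _ i).mapIso (asIso ((σι K (a + 1)).f i)).symm)
        (hK i (by lia) hi')
    · haveI : S.X₃.IsStrictlyLE a :=
        (CochainComplex.isStrictlyLE_iff _ a).2 fun i hi => isZero_σQuot K (a + 1) i (by lia)
      haveI : S.X₃.IsStrictlyGE a := by
        refine (CochainComplex.isStrictlyGE_iff _ a).2 fun i hi => ?_
        haveI := isIso_σπ_f K (a + 1) i (by lia)
        exact (hab i (Or.inl hi)).of_iso (asIso (S.g.f i)).symm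
      obtain ⟨M, ⟨e⟩⟩ := CochainComplex.exists_iso_single S.X₃ a
      haveI := isIso_σπ_f K (a + 1) a (by lia)
      let e' : M ≅ K.X a := (HomologicalComplex.singleObjXSelf (ComplexShape.up ℤ) a M).symm ≪≫
        ((HomologicalComplex.eval _ _ a).mapIso e).symm ≪≫ (asIso (S.g.f a)).symm
      exact hiso ((DerivedCategory.singleFunctor _ a).mapIso e'.symm ≪≫
        (DerivedCategory.singleFunctorIsoCompQ C a).app M ≪≫
        DerivedCategory.Q.mapIso e.symm) (hK a le_rfl (by lia))

/-- splitting off the top cohomology -/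
lemma exists_top_triangle (K : DerivedCategory C) (n : ℤ) (hK : IsAboveD (n + 1) K) :
    ∃ (X B : DerivedCategory C) (f : X ⟶ K) (g : K ⟶ B) (h : B ⟶ X⟦(1 : ℤ)⟧),
      Triangle.mk f g h ∈ distTriang (DerivedCategory C) ∧ IsAboveD n X ∧
      (∀ i, i < n → Nonempty ((DerivedCategory.homologyFunctor C i).obj X ≅
        (DerivedCategory.homologyFunctor C i).obj K)) ∧
      Nonempty (B ≅ (DerivedCategory.singleFunctor C n).obj ((DerivedCategory.homologyFunctor C n).obj K)) := by
  obtain ⟨X, B, hX, hB, f, g, h, hT⟩ :=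
    (DerivedCategory.TStructure.t (C := C)).exists_triangle K (n - 1) n (by lia)
  haveI : X.IsLE (n - 1) := ⟨hX⟩
  haveI : B.IsGE n := ⟨hB⟩
  have hXz : IsAboveD n X := fun i hi => DerivedCategory.isZero_of_isLE X (n - 1) i (by lia)
  haveI : B.IsLE n := (DerivedCategory.isLE_iff B n).2 fun i hi =>
    (DerivedCategory.HomologySequence.exact₃ _ hT i (i + 1) rfl).isZero_of_both_zeros
      ((hK i (by lia)).eq_of_src _ _) ((hXz (i + 1) (by lia)).eq_of_tgt _ _)
  refine ⟨X, B, f, g, h, hT, hXz, fun i hi => ?_, ?_⟩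
  · haveI : Epi ((DerivedCategory.homologyFunctor C i).map f) :=
      (DerivedCategory.HomologySequence.epi_homologyMap_mor₁_iff _ hT i).2
        ((DerivedCategory.isZero_of_isGE B n i hi).eq_of_tgt _ _)
    haveI : Mono ((DerivedCategory.homologyFunctor C i).map f) :=
      (DerivedCategory.HomologySequence.mono_homologyMap_mor₁_iff _ hT (i - 1) i (by lia)).2
        ((DerivedCategory.isZero_of_isGE B n (i - 1) (by lia)).eq_of_src _ _)
    haveI := isIso_of_mono_of_epi ((DerivedCategory.homologyFunctor C i).map f)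
    exact ⟨asIso ((DerivedCategory.homologyFunctor C i).map f)⟩
  · obtain ⟨Y, ⟨e⟩⟩ := DerivedCategory.exists_iso_singleFunctor_obj_of_isGE_of_isLE B n
    haveI : Mono ((DerivedCategory.homologyFunctor C n).map g) :=
      (DerivedCategory.HomologySequence.mono_homologyMap_mor₂_iff _ hT n).2 ((hXz n le_rfl).eq_of_src _ _)
    haveI : Epi ((DerivedCategory.homologyFunctor C n).map g) :=
      (DerivedCategory.HomologySequence.epi_homologyMap_mor₂_iff _ hT n (n + 1) rfl).2
        ((hXz (n + 1) (by lia)).eq_of_tgt _ _)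
    haveI := isIso_of_mono_of_epi ((DerivedCategory.homologyFunctor C n).map g)
    exact ⟨e ≪≫ (DerivedCategory.singleFunctor C n).mapIso
      ((asIso ((DerivedCategory.homologyFunctor C n).map g) ≪≫
        (DerivedCategory.homologyFunctor C n).mapIso e ≪≫
        (DerivedCategory.singleFunctorCompHomologyFunctorIso C n).app Y).symm)⟩

end Gen

section Sch

attribute [local instance] HasDerivedCategory.standard

variable {X : Scheme.{u}}

/-- a module placed in another degree -/
lemma pc_single_iff (M : X.Modules) (n m : ℤ) :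
    DCoh.IsPseudoCoherentD m ((DerivedCategory.singleFunctor X.Modules n).obj M) ↔
      DCoh.IsPseudoCoherentD (m - n) (DCoh.inD X M) := by
  let e : (DCoh.inD X M)⟦-n⟧ ≅ (DerivedCategory.singleFunctor X.Modules n).obj M :=
    ((DerivedCategory.singleFunctors X.Modules).shiftIso (-n) n 0 (by lia)).app M
  have h := pc_shift_iff (m := m - n) (K := DCoh.inD X M) (-n)
  rw [show m - n - -n = m by lia] at h
  exact ⟨fun h' => h.1 (pc_of_iso e.symm h'), fun h' => pc_of_iso e (h.2 h')⟩

lemma isAboveD_of_isZero {K : DCoh.D X} (h : IsZero K) (m : ℤ) : IsAboveD m K := fun i _ =>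
  (DerivedCategory.homologyFunctor X.Modules i).map_isZero h

/-- pseudo-coherence from the terms -/
theorem pc_of_termwise (m : ℤ) (K : CochainComplex X.Modules ℤ) (b : ℤ) (hb : ∀ i, b < i → IsZero (K.X i))
    (h : ∀ i, m ≤ i → DCoh.IsPseudoCoherentD (m - i) (DCoh.inD X (K.X i))) :
    DCoh.IsPseudoCoherentD m (DCoh.toD X K) := by
  have h1 : DCoh.IsPseudoCoherentD m (DerivedCategory.Q.obj (σGE K m)) := by
    refine of_terms (fun L => DCoh.IsPseudoCoherentD m L) (fun e h => pc_of_iso e h)
      (fun T hT h₁ h₃ => pc_obj₂ T hT m h₁ h₃)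
      (fun L hL => pc_of_isAbove (isAboveD_of_isZero hL m))
      (σGE K m) m b (fun i hi => ?_) fun i hi _ => ?_
    · by_cases h : m ≤ i
      · haveI := isIso_σι_f K m i h
        exact (hb i (by lia)).of_iso (asIso ((σι K m).f i))
      · exact isZero_σGE_X K m i (by lia)
    haveI := isIso_σι_f K m i hi
    exact (pc_single_iff _ _ _).2 (pc_of_iso
      ((DerivedCategory.singleFunctor X.Modules 0).mapIso (asIso ((σι K m).f i)).symm) (h i hi))
  obtain ⟨Cn, v, w, hT⟩ := Pretriangulated.distinguished_cocone_triangle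
    ((DerivedCategory.Q : _ ⥤ DCoh.D X).map (σι K m))
  exact pc_obj₂ _ hT m h1 (pc_of_isAbove ((mIsoD_iff m _ hT).1 (mIsoD_σι K m)))

/-- pseudo-coherence from the cohomology sheaves -/
theorem pc_of_homology (m : ℤ) (K : DCoh.D X) (b : ℤ) (hb : IsAboveD b K)
    (h : ∀ i, m ≤ i → DCoh.IsPseudoCoherentD (m - i) (DCoh.inD X (DCoh.HD K i))) :
    DCoh.IsPseudoCoherentD m K := by
  suffices H : ∀ (d : ℕ) (n : ℤ) (K : DCoh.D X), n ≤ m + d → IsAboveD n K →
      (∀ i, m ≤ i → DCoh.IsPseudoCoherentD (m - i) (DCoh.inD X (DCoh.HD K i))) →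
      DCoh.IsPseudoCoherentD m K from H (b - m).toNat b K (by lia) hb h
  intro d
  induction d with
  | zero => exact fun n K hn hK _ => pc_of_isAbove (isAboveD_mono (by simpa using hn) hK)
  | succ d ih =>
    intro n K hn hK h
    obtain ⟨Y, B, f, g, k, hT, hY, hlt, ⟨e⟩⟩ :=
      exists_top_triangle K (m + d) (isAboveD_mono (by lia) hK)
    refine pc_obj₂ _ hT m (ih (m + d) Y le_rfl hY fun i hi => ?_)
      (pc_of_iso e.symm ((pc_single_iff _ _ _).2 (h (m + d) (by lia))))
    by_cases hi' : i < m + d
    · exact pc_of_iso ((DerivedCategory.singleFunctor X.Modules 0).mapIso (hlt i hi').some.symm) (h i hi)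
    · exact pc_of_isAbove (isAboveD_of_isZero
        ((DerivedCategory.singleFunctor X.Modules 0).map_isZero (hY i (by lia))) _)

end Sch

end Groth.Agent.RelPCS
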