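import Groth.Agent.RelPCS.Push
import Groth.Agent.RelPCS.Terms

/-!
Pseudo-coherence and direct image along closed immersions.
-/

set_option backward.isDefEq.respectTransparency false
set_option backward.isDefEq.respectTransparency.types false
set_option linter.style.haveILetI false
set_option autoImplicit false

universe u

open CategoryTheory Limits Pretriangulated AlgebraicGeometry HomologicalComplex Opposite TopologicalSpace

attribute [local instance] HasDerivedCategory.standard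

namespace Groth.Agent.RelPCS

open Groth.Agent.DQCoh

variable {X Y Z : Scheme.{u}}

/-- pseudo-coherence is checked on an open cover -/
lemma pc_of_locally {m : ℤ} {L : DCoh.D Y}
    (h : ∀ y : Y, ∃ V : Y.Opens, y ∈ V ∧ DCoh.IsPseudoCoherentD m ((RD V.ι).obj L)) :
    DCoh.IsPseudoCoherentD m L := by
  rw [pc_iff_near]
  intro y
  obtain ⟨V, hy, hV⟩ := h y
  obtain ⟨U, j, hj, u, hu, hP⟩ := (pc_iff_near m _).1 hV ⟨y, hy⟩
  haveI := hj
  exact ⟨U, j ≫ V.ι, inferInstance, u, congrArg V.ι.base hu, pcOn_push j V.ι hP⟩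

variable (i : X ⟶ Y) [IsClosedImmersion i]

lemma exists_preimage_eq (O : X.Opens) : ∃ V : Y.Opens, i ⁻¹ᵁ V = O := by
  obtain ⟨V, hV, hV'⟩ := i.isClosedEmbedding.isInducing.isOpen_iff.1 O.2
  exact ⟨⟨V, hV⟩, Opens.ext hV'⟩

lemma isEmpty_preimage {V : Y.Opens} (hV : ∀ x, i.base x ∉ V) : IsEmpty (i ⁻¹ᵁ V : Scheme.{u}) :=
  ⟨fun x => hV x.1 x.2⟩

/-- locality of pseudo-coherence of a direct image -/
lemma pc_push_of_locally {m : ℤ} {K : DCoh.D X}
    (h : ∀ x : X, ∃ V : Y.Opens, i.base x ∈ V ∧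
      DCoh.IsPseudoCoherentD m ((PD (i ∣_ V)).obj ((RD (i ⁻¹ᵁ V).ι).obj K))) :
    DCoh.IsPseudoCoherentD m ((PD i).obj K) := by
  refine pc_of_locally fun y => ?_
  by_cases hy : y ∈ Set.range i.base
  · obtain ⟨x, rfl⟩ := hy
    obtain ⟨V, hx, hV⟩ := h x
    exact ⟨V, hx, pc_of_iso ((pdRestrIso i V).app K).symm hV⟩
  · let V : Y.Opens := ⟨(Set.range i.base)ᶜ, i.isClosedEmbedding.isClosed_range.isOpen_compl⟩
    haveI := isEmpty_preimage i (V := V) fun x hx => hx ⟨x, rfl⟩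
    exact ⟨V, hy, pc_of_iso ((pdRestrIso i V).app K).symm
      (pc_of_isAbove (isAboveD_map _ (isAboveD_of_isEmpty _ m)))⟩

/-- the direct image of the structure sheaf is pseudo-coherent -/
def HypO : Prop :=
  ∀ m : ℤ, DCoh.IsPseudoCoherentD m ((PD i).obj (DCoh.inD X (Coh.structureModule X)))

/-- restriction of a single module -/
noncomputable def rdInD (j : Z ⟶ X) [IsOpenImmersion j] (M : X.Modules) :
    (RD j).obj (DCoh.inD X M) ≅ DCoh.inD Z ((Scheme.Modules.restrictFunctor j).obj M) :=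
  ((Scheme.Modules.restrictFunctor j).mapDerivedCategorySingleFunctor 0).app M

variable {i}

lemma HypO.restr (hi : HypO i) (V : Y.Opens) : HypO (i ∣_ V) := fun m =>
  pc_of_iso ((pdRestrIso i V).app _ ≪≫ (PD (i ∣_ V)).mapIso (rdInD _ _ ≪≫
    (DerivedCategory.singleFunctor (i ⁻¹ᵁ V : Scheme.{u}).Modules 0).mapIso
      (Scheme.Modules.restrictUnitIso (i ⁻¹ᵁ V).ι))) (pc_restrict V.ι (hi m))

lemma pc_push_freeMod (hi : HypO i) (m : ℤ) :
    ∀ n : ℕ, DCoh.IsPseudoCoherentD m ((PD i).obj (DCoh.inD X (FlatMod.freeMod X n))) := by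
  intro n
  induction n with
  | zero =>
    have hz : IsZero (FlatMod.freeMod X 0) :=
      (IsZero.iff_id_eq_zero _).2 (Limits.Sigma.hom_ext _ _ fun j => j.elim0)
    exact pc_of_isAbove (isAboveD_of_isZero
      ((DerivedCategory.singleFunctor X.Modules 0 ⋙ PD i).map_isZero hz) m)
  | succ n ih =>
    let O := fun _ : Fin (n + 1) => Coh.structureModule X
    let f : Coh.structureModule X ⟶ FlatMod.freeMod X (n + 1) := Sigma.ι O 0
    let g : FlatMod.freeMod X (n + 1) ⟶ FlatMod.freeMod X n :=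
      Sigma.desc (fun j => Fin.cases 0 (fun k => Sigma.ι (fun _ : Fin n => Coh.structureModule X) k) j)
    have hfg : f ≫ g = 0 := by simp [f, g, O]
    let S := ShortComplex.mk f g hfg
    let sp : S.Splitting :=
      { r := Sigma.desc (fun j => Fin.cases (𝟙 _) (fun _ => 0) j)
        s := Sigma.desc (fun k => Sigma.ι O k.succ)
        f_r := by simp [S, f, O]
        s_g := Limits.Sigma.hom_ext _ _ fun k => by simp [S, g, O]
        id := Limits.Sigma.hom_ext _ _ fun j => by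
          refine Fin.cases ?_ (fun k => ?_) j <;> simp [S, f, g, O] }
    exact pc_obj₂ _ ((PD i).map_distinguished _ sp.shortExact.singleTriangle_distinguished) m (hi m) ih

lemma pc_push_finLocFree (hi : HypO i) (m : ℤ) {M : X.Modules} (hM : FlatMod.IsFinLocFree M) :
    DCoh.IsPseudoCoherentD m ((PD i).obj (DCoh.inD X M)) := by
  refine pc_push_of_locally i fun x => ?_
  obtain ⟨O, n, hx, ⟨e⟩⟩ := hM x
  obtain ⟨V, hV⟩ := exists_preimage_eq i O
  subst hV
  exact ⟨V, hx, pc_of_iso ((PD (i ∣_ V)).mapIso (rdInD _ M ≪≫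
    (DerivedCategory.singleFunctor (i ⁻¹ᵁ V : Scheme.{u}).Modules 0).mapIso e)).symm
      (pc_push_freeMod (hi.restr V) m n)⟩

lemma pc_push_perfect (hi : HypO i) (m : ℤ) {E : CochainComplex X.Modules ℤ} (hE : DCoh.IsStrictlyPerfect E) :
    DCoh.IsPseudoCoherentD m ((PD i).obj (DerivedCategory.Q.obj E)) := by
  obtain ⟨⟨a, b, hab⟩, hl⟩ := hE
  refine pc_of_iso (pdIso i E).symm (pc_of_termwise m ((DerSch.pushCx i).obj E) b
    (fun j hj => (Scheme.Modules.pushforward i).map_isZero (hab j (Or.inr hj))) fun j _ => ?_)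
  exact pc_of_iso (((Scheme.Modules.pushforward i).mapDerivedCategorySingleFunctor 0).app (E.X j))
    (pc_push_finLocFree hi _ (hl j))

/-- direct image along `i` keeps pseudo-coherence -/
theorem pc_push (hi : HypO i) {m : ℤ} {K : DCoh.D X} (hK : DCoh.IsPseudoCoherentD m K) :
    DCoh.IsPseudoCoherentD m ((PD i).obj K) := by
  refine pc_push_of_locally i fun x => ?_
  obtain ⟨U, j, hj, u, hu, hP⟩ := (pc_iff_near m K).1 hK x
  haveI := hj
  obtain ⟨V, hV⟩ := exists_preimage_eq i j.opensRange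
  obtain ⟨k, hk, hkj⟩ := exists_opens j
  obtain ⟨E, α, hE, hα⟩ := pcOn_congr hkj (pcOn_comp k j hP)
  revert α E
  rw [← hV]
  intro E α hE hα
  refine ⟨V, ?_, ?_⟩
  · show x ∈ i ⁻¹ᵁ V
    rw [hV]; exact ⟨u, hu⟩
  obtain ⟨Cn, v, w, hT⟩ := Pretriangulated.distinguished_cocone_triangle ((PD (i ∣_ V)).map α)
  exact pc_obj₂ _ hT m (pc_push_perfect (hi.restr V) m hE)
    (pc_of_isAbove ((mIsoD_iff m _ hT).1 (mIsoD_map _ hα)))

/-! ### descent along the direct image -/

/-- adjunct of a chain map into a termwise direct image -/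
noncomputable def adjunctCx {E : CochainComplex Y.Modules ℤ} {F : CochainComplex X.Modules ℤ}
    (g : E ⟶ (DerSch.pushCx i).obj F) :
    ((Scheme.Modules.pullback i).mapHomologicalComplex (ComplexShape.up ℤ)).obj E ⟶ F where
  f n := ((Scheme.Modules.pullbackPushforwardAdjunction i).homEquiv _ _).symm (g.f n)
  comm' p q _ := by
    let adj := Scheme.Modules.pullbackPushforwardAdjunction i
    exact ((adj.homEquiv_naturality_right_symm (g.f p) (F.d p q)).symm.trans
      (congrArg (adj.homEquiv _ _).symm (g.comm p q))).trans (adj.homEquiv_naturality_left_symm (E.d p q) (g.f q))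

lemma adjunctCx_spec {E : CochainComplex Y.Modules ℤ} {F : CochainComplex X.Modules ℤ}
    (g : E ⟶ (DerSch.pushCx i).obj F) :
    ∃ η : E ⟶ (DerSch.pushCx i).obj (((Scheme.Modules.pullback i).mapHomologicalComplex (ComplexShape.up ℤ)).obj E),
      η ≫ (DerSch.pushCx i).map (adjunctCx g) = g :=
  ⟨{ f := fun n => (Scheme.Modules.pullbackPushforwardAdjunction i).unit.app (E.X n)
     comm' := fun p q _ => ((Scheme.Modules.pullbackPushforwardAdjunction i).unit.naturality (E.d p q)).symm },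
    HomologicalComplex.hom_ext _ _ fun n => by
      let adj := Scheme.Modules.pullbackPushforwardAdjunction i
      exact ((adj.homEquiv_unit _ _ _).symm).trans ((adj.homEquiv _ _).apply_symm_apply (g.f n))⟩

/-- a perfect approximation of `i_*F` gives one of `F`, when the cohomology stops at `m` -/
lemma pc_of_push_key {E : CochainComplex Y.Modules ℤ} (hE : DCoh.IsStrictlyPerfect E)
    {F : CochainComplex X.Modules ℤ} (g : E ⟶ (DerSch.pushCx i).obj F) (m : ℤ)
    (hF : IsAboveD (m + 1) (DCoh.toD X F)) (hg : MIsoD m (DerivedCategory.Q.map g)) :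
    DCoh.IsPseudoCoherentD m (DCoh.toD X F) := by
  let P := ((Scheme.Modules.pullback i).mapHomologicalComplex (ComplexShape.up ℤ)).obj E
  have hP : DCoh.IsStrictlyPerfect P := DerPerf.isStrictlyPerfect_pullback i hE
  have hFp : IsAboveD (m + 1) (DCoh.toD Y ((DerSch.pushCx i).obj F)) :=
    isAboveD_of_iso (pdIso i F) (isAboveD_map _ hF)
  have hEz : ∀ j, m + 1 ≤ j → IsZero (E.homology j) := fun j hj =>
    ((hFp j hj).of_iso (@asIso _ _ _ _ ((DerivedCategory.homologyFunctor Y.Modules j).map (DerivedCategory.Q.map g))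
      (hg.1 j (by lia)))).of_iso ((DerivedCategory.homologyFunctorFactors Y.Modules j).app E).symm
  have hPz : IsAboveD (m + 1) (DCoh.toD X P) := fun j hj =>
    (DerPerf.isZero_homology_pullback i (DerPerf.isKFlat_of_isStrictlyPerfect hE) (m + 1) hEz j hj).of_iso
      ((DerivedCategory.homologyFunctorFactors X.Modules j).app P)
  let a : DCoh.toD X P ⟶ DCoh.toD X F := DerivedCategory.Q.map (adjunctCx g)
  have ha : MIsoD m a := by
    refine ⟨fun j hj => ⟨0, (hPz j (by lia)).eq_of_src _ _, (hF j (by lia)).eq_of_src _ _⟩, ?_⟩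
    obtain ⟨η, hη⟩ := adjunctCx_spec g
    have he : Epi ((DerivedCategory.homologyFunctor Y.Modules m).map
        (DerivedCategory.Q.map ((DerSch.pushCx i).map (adjunctCx g)))) := by
      have h2 := hg.2
      rw [← hη, Functor.map_comp, Functor.map_comp] at h2
      exact @epi_of_epi _ _ _ _ _ _ _ h2
    have he' : Epi ((DerivedCategory.homologyFunctor Y.Modules m).map ((PD i).map a)) :=
      ((MorphismProperty.epimorphisms Y.Modules).arrow_mk_iso_iff
        (Arrow.isoMk ((DerivedCategory.homologyFunctor Y.Modules m).mapIso (pdIso i P))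
          ((DerivedCategory.homologyFunctor Y.Modules m).mapIso (pdIso i F))
          (((DerivedCategory.homologyFunctor Y.Modules m).map_comp _ _).symm.trans
            ((congrArg _ ((Scheme.Modules.pushforward i).mapDerivedCategoryFactors.hom.naturality (adjunctCx g)).symm).trans
              ((DerivedCategory.homologyFunctor Y.Modules m).map_comp _ _))))).2 he
    exact (Scheme.Modules.pushforward i).epi_of_epi_map (((MorphismProperty.epimorphisms Y.Modules).arrow_mk_iso_iff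
      (Arrow.isoMk ((homologyDerIso (Scheme.Modules.pushforward i) m).app _)
        ((homologyDerIso (Scheme.Modules.pushforward i) m).app _)
        ((homologyDerIso (Scheme.Modules.pushforward i) m).hom.naturality a).symm)).1 he')
  obtain ⟨Cn, v, w, hT⟩ := Pretriangulated.distinguished_cocone_triangle a
  have hpc : DCoh.IsPseudoCoherentD m (DCoh.toD X P) := by
    rw [pc_iff_near]
    intro x
    exact ⟨X, 𝟙 X, inferInstance, x, rfl, _, (rdIso (𝟙 X) P).inv, isStrictlyPerfect_restrict (𝟙 X) hP,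
      mIsoD_of_isIso _ _⟩
  exact pc_obj₂ _ hT m hpc (pc_of_isAbove ((mIsoD_iff m _ hT).1 ha))

/-- morphisms out of strictly perfect complexes are chain maps on a neighbourhood -/
lemma exists_chainMap {E F : CochainComplex Y.Modules ℤ} (hE : DCoh.IsStrictlyPerfect E)
    (φ : DerivedCategory.Q.obj E ⟶ DerivedCategory.Q.obj F) (m : ℤ) (hφ : MIsoD m φ) (y : Y) :
    ∃ W : Y.Opens, y ∈ W ∧ ∃ g : (rC W.ι).obj E ⟶ (rC W.ι).obj F, MIsoD m (DerivedCategory.Q.map g) := by
  obtain ⟨U₁, j₁, hj₁, u₁, hu₁, g, hg⟩ := exists_map_eq_Q hE φ y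
  haveI := hj₁
  obtain ⟨k₁, hk₁, hkW⟩ := exists_opens j₁
  have h1 : MIsoD m (DerivedCategory.Q.map g) := by
    have he : DerivedCategory.Q.map g = (rdIso j₁ E).inv ≫ (RD j₁).map φ ≫ (rdIso j₁ F).hom := by
      rw [hg]; simp
    rw [he]
    exact mIsoD_comp (mIsoD_of_isIso _ _) (mIsoD_comp (mIsoD_map _ hφ) (mIsoD_of_isIso _ _))
  refine ⟨j₁.opensRange, ⟨u₁, hu₁⟩, ?_⟩
  have h2 : ∃ g₂ : (rC (k₁ ≫ j₁)).obj E ⟶ (rC (k₁ ≫ j₁)).obj F, MIsoD m (DerivedCategory.Q.map g₂) := by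
    refine ⟨((rCComp k₁ j₁).app E).hom ≫ (rC k₁).map g ≫ ((rCComp k₁ j₁).app F).inv, ?_⟩
    rw [Functor.map_comp, Functor.map_comp]
    refine mIsoD_comp (mIsoD_of_isIso _ _) (mIsoD_comp ?_ (mIsoD_of_isIso _ _))
    have he : DerivedCategory.Q.map ((rC k₁).map g) =
        (rdIso k₁ ((rC j₁).obj E)).inv ≫ (RD k₁).map (DerivedCategory.Q.map g) ≫ (rdIso k₁ ((rC j₁).obj F)).hom := by
      rw [rdIso, rdIso, Iso.app_inv, Iso.app_hom]
      erw [Functor.mapDerivedCategoryFactors_hom_naturality, Iso.inv_hom_id_app_assoc]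
    rw [he]
    exact mIsoD_comp (mIsoD_of_isIso _ _) (mIsoD_comp (mIsoD_map _ h1) (mIsoD_of_isIso _ _))
  have key : ∀ (j' : (j₁.opensRange : Scheme.{u}) ⟶ Y) [IsOpenImmersion j'], k₁ ≫ j₁ = j' →
      ∃ g₂ : (rC j').obj E ⟶ (rC j').obj F, MIsoD m (DerivedCategory.Q.map g₂) := by
    intro j' _ h
    subst h
    exact h2
  exact key _ hkW

/-- the top degree step -/
lemma pc_of_push_top (m : ℤ) (K : DCoh.D X) (hK : IsAboveD (m + 1) K)
    (h : DCoh.IsPseudoCoherentD m ((PD i).obj K)) : DCoh.IsPseudoCoherentD m K := by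
  let F := (DerivedCategory.Q : _ ⥤ DCoh.D X).objPreimage K
  let eF : DCoh.toD X F ≅ K := DerivedCategory.Q.objObjPreimageIso K
  refine pc_of_locally fun x => ?_
  obtain ⟨W, l, hl, w, hw, hP⟩ := (pc_iff_near m _).1 h (i.base x)
  haveI := hl
  obtain ⟨k₀, hk₀, hkl⟩ := exists_opens l
  obtain ⟨E, β, hE, hβ⟩ := pcOn_iso ((PD i).mapIso eF.symm) (pcOn_congr hkl (pcOn_comp k₀ l hP))
  let T := l.opensRange
  let iT := i ∣_ T
  let F' := (rC (i ⁻¹ᵁ T).ι).obj F
  let e : (RD T.ι).obj ((PD i).obj (DCoh.toD X F)) ≅ DCoh.toD _ ((DerSch.pushCx iT).obj F') :=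
    (pdRestrIso i T).app (DCoh.toD X F) ≪≫ (PD iT).mapIso (rdIso _ F) ≪≫ pdIso iT F'
  obtain ⟨W', hW', g, hg⟩ := exists_chainMap hE (β ≫ e.hom) m (mIsoD_comp hβ (mIsoD_of_isIso _ _))
    ⟨i.base x, ⟨w, hw⟩⟩
  let e' := (Functor.mapHomologicalComplexCompIso (pushRestrIso iT W') (ComplexShape.up ℤ) ≪≫
    (Functor.mapHomologicalComplexCompIso (Iso.refl _) (ComplexShape.up ℤ)).symm).app F'
  have hF' : IsAboveD (m + 1) (DCoh.toD _ ((rC (iT ⁻¹ᵁ W').ι).obj F')) :=
    isAboveD_of_iso (rdIso _ F') (isAboveD_map _ (isAboveD_of_iso (rdIso _ F) (isAboveD_map _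
      (isAboveD_of_iso eF.symm hK))))
  have hkey := pc_of_push_key (i := iT ∣_ W') (isStrictlyPerfect_restrict W'.ι hE)
    (g ≫ e'.hom) m hF'
    (by rw [Functor.map_comp]; exact mIsoD_comp hg (mIsoD_of_isIso _ _))
  let O := ((iT ⁻¹ᵁ W').ι ≫ (i ⁻¹ᵁ T).ι).opensRange
  obtain ⟨k₂, hk₂, hkO⟩ := exists_opens ((iT ⁻¹ᵁ W').ι ≫ (i ⁻¹ᵁ T).ι)
  have hxT : iT.base ⟨x, ⟨w, hw⟩⟩ = ⟨i.base x, ⟨w, hw⟩⟩ :=
    Subtype.ext (congrArg (fun t => t.base ⟨x, ⟨w, hw⟩⟩) (morphismRestrict_ι i T))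
  have hxW : (⟨x, ⟨w, hw⟩⟩ : (i ⁻¹ᵁ T : Scheme.{u})) ∈ iT ⁻¹ᵁ W' := show iT.base _ ∈ W' from hxT ▸ hW'
  refine ⟨O, ⟨⟨⟨x, ⟨w, hw⟩⟩, hxW⟩, rfl⟩, ?_⟩
  exact pc_of_iso (((rdComp k₂ _).app _ ≪≫ (RD k₂).mapIso ((rdComp _ _).app _ ≪≫
      (RD _).mapIso ((RD _).mapIso eF.symm ≪≫ rdIso _ F) ≪≫ rdIso _ F')).symm ≪≫ (rdCongr hkO).app _)
    (pc_restrict k₂ hkey)

theorem pc_of_push_bounded : ∀ (d : ℕ) {X Y : Scheme.{u}} {i : X ⟶ Y} [IsClosedImmersion i], HypO i →
    ∀ (m n : ℤ) (K : DCoh.D X), n ≤ m + d → IsAboveD n K → DCoh.IsPseudoCoherentD m ((PD i).obj K) →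
      DCoh.IsPseudoCoherentD m K := by
  intro d
  induction d with
  | zero => exact fun _ m n K hn hK _ => pc_of_isAbove (isAboveD_mono (by simpa using hn) hK)
  | succ d ih =>
    intro X Y i _ hi m n K hn hK h
    have h1 := ih hi (m + 1) n K (by lia) hK (pc_mono (by lia) h)
    refine pc_of_locally fun x => ?_
    obtain ⟨U, j, hj, u, hu, hP⟩ := (pc_iff_near (m + 1) K).1 h1 x
    haveI := hj
    obtain ⟨V, hV⟩ := exists_preimage_eq i j.opensRange
    obtain ⟨k, hk, hkj⟩ := exists_opens j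
    obtain ⟨E, α, hE, hα⟩ := pcOn_congr hkj (pcOn_comp k j hP)
    revert α E
    rw [← hV]
    intro E α hE hα
    refine ⟨i ⁻¹ᵁ V, by rw [hV]; exact ⟨u, hu⟩, ?_⟩
    let K' := (RD (i ⁻¹ᵁ V).ι).obj K
    have hpE : ∀ l, DCoh.IsPseudoCoherentD l (DCoh.toD (i ⁻¹ᵁ V : Scheme.{u}) E) := fun l => by
      rw [pc_iff_near]
      exact fun z => ⟨_, 𝟙 _, inferInstance, z, rfl, _, (rdIso (𝟙 _) E).inv, isStrictlyPerfect_restrict _ hE,
        mIsoD_of_isIso _ _⟩
    obtain ⟨Cn, v, w, hT⟩ := Pretriangulated.distinguished_cocone_triangle α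
    have hC : IsAboveD (m + 1) Cn := (mIsoD_iff (m + 1) _ hT).1 hα
    have hC' : DCoh.IsPseudoCoherentD m ((PD (i ∣_ V)).obj Cn) :=
      pc_obj₃ _ ((PD (i ∣_ V)).map_distinguished _ hT) m (pc_push_perfect (hi.restr V) (m + 1) hE)
        (pc_of_iso ((pdRestrIso i V).app K) (pc_restrict V.ι h))
    suffices hCn : DCoh.IsPseudoCoherentD m Cn from pc_obj₂ _ hT m (hpE m) hCn
    exact pc_of_push_top (i := i ∣_ V) m Cn hC hC'

/-- pseudo-coherence descends along the direct image -/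
theorem pc_of_push (hi : HypO i) {m : ℤ} {K : DCoh.D X}
    (h : DCoh.IsPseudoCoherentD m ((PD i).obj K)) : DCoh.IsPseudoCoherentD m K := by
  refine pc_of_locally fun x => ?_
  obtain ⟨W, l, hl, w, hw, hP⟩ := (pc_iff_near m _).1 h (i.base x)
  haveI := hl
  obtain ⟨k₀, hk₀, hkl⟩ := exists_opens l
  obtain ⟨E, β, hE, hβ⟩ := pcOn_congr hkl (pcOn_comp k₀ l hP)
  let T := l.opensRange
  obtain ⟨⟨a, b, hab⟩, -⟩ := hE
  have hbd : IsAboveD (max m b + 1) ((RD T.ι).obj ((PD i).obj K)) := fun j hj => by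
    haveI := hβ.1 j (by lia)
    exact ((ShortComplex.isZero_homology_of_isZero_X₂ _ (hab j (Or.inr (by lia)))).of_iso
      ((DerivedCategory.homologyFunctorFactors (T : Scheme.{u}).Modules j).app E)).of_iso
        (asIso ((DerivedCategory.homologyFunctor (T : Scheme.{u}).Modules j).map β)).symm
  have hK : IsAboveD (max m b + 1) ((RD (i ⁻¹ᵁ T).ι).obj K) := fun j hj => by
    have hz := isAboveD_of_iso ((pdRestrIso i T).app K) hbd j hj
    have hz' := hz.of_iso ((homologyDerIso (Scheme.Modules.pushforward (i ∣_ T)) j).app _).symm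
    rw [IsZero.iff_id_eq_zero]
    exact (Scheme.Modules.pushforward (i ∣_ T)).map_injective (hz'.eq_of_src _ _)
  exact ⟨i ⁻¹ᵁ T, ⟨w, hw⟩, pc_of_push_bounded (max m b + 1 - m).toNat (hi.restr T) m _ _ (by lia) hK
    (pc_of_iso ((pdRestrIso i T).app K) (pc_restrict T.ι h))⟩

/-- pseudo-coherence is unchanged by a closed immersion with pseudo-coherent structure sheaf -/
theorem pc_push_iff (hi : HypO i) (m : ℤ) (K : DCoh.D X) :
    DCoh.IsPseudoCoherentD m ((PD i).obj K) ↔ DCoh.IsPseudoCoherentD m K :=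
  ⟨pc_of_push hi, pc_push hi⟩

end Groth.Agent.RelPCS
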