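import Groth.Agent.RelPCS.Calc
import Groth.Agent.QC.FiniteType
import Groth.Agent.QC.SpecFT
import Groth.Agent.QC.Localisation
import Groth.Agent.LocFree.Props
import Groth.Prelude.Def_CohB1

/-!
# Pseudo-coherence of a single module
-/

set_option backward.isDefEq.respectTransparency false
set_option backward.isDefEq.respectTransparency.types false
set_option linter.style.haveILetI false
set_option autoImplicit false

universe u

open CategoryTheory Limits AlgebraicGeometry Pretriangulated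

attribute [local instance] HasDerivedCategory.standard

namespace Groth.Agent.RelPCS

open Groth.Agent.DQCoh

variable {X Y : Scheme.{u}}

lemma isAboveD_inD (M : X.Modules) {m : ℤ} (hm : 0 < m) : IsAboveD m (DCoh.inD X M) := fun i hi =>
  DerivedCategory.isZero_of_isLE ((DerivedCategory.singleFunctor X.Modules 0).obj M) 0 i (by lia)

lemma isFinLocFree_freeMod (n : ℕ) : FlatMod.IsFinLocFree (FlatMod.freeMod X n) :=
  LocFree.isFinLocFree_of_retract _ n (𝟙 _) (𝟙 _) (Category.id_comp _)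

/-- strictly perfect complexes are pseudo-coherent -/
lemma pc_strictlyPerfect {E : CochainComplex X.Modules ℤ} (hE : DCoh.IsStrictlyPerfect E) (m : ℤ) :
    DCoh.IsPseudoCoherentD m (DCoh.toD X E) := by
  rw [pc_iff_near]
  exact fun x => ⟨X, 𝟙 X, inferInstance, x, rfl, _, (rdIso (𝟙 X) E).inv, isStrictlyPerfect_restrict (𝟙 X) hE,
    mIsoD_of_isIso _ _⟩

lemma pc_inD_finLocFree {M : X.Modules} (h : FlatMod.IsFinLocFree M) (m : ℤ) :
    DCoh.IsPseudoCoherentD m (DCoh.inD X M) := by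
  refine pc_of_iso ((DerivedCategory.singleFunctorIsoCompQ X.Modules 0).app M).symm
    (pc_strictlyPerfect ⟨⟨0, 0, fun i hi => HomologicalComplex.isZero_single_obj_X _ 0 M i (by omega)⟩,
      fun i => ?_⟩ m)
  by_cases hi : i = 0
  · subst hi
    exact isFinLocFree_of_iso' (HomologicalComplex.singleObjXSelf (ComplexShape.up ℤ) 0 M).symm h
  · exact isFinLocFree_of_iso' ((HomologicalComplex.isZero_single_obj_X (ComplexShape.up ℤ) 0 M i hi).iso
      ((IsZero.iff_id_eq_zero (FlatMod.freeMod X 0)).2 (Limits.Sigma.hom_ext _ _ fun j => j.elim0))).symm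
      (isFinLocFree_freeMod 0)

/-- cokernels of pseudo-coherent modules -/
lemma pc_inD_of_epi {P M : X.Modules} (p : P ⟶ M) [Epi p] (m : ℤ)
    (hP : DCoh.IsPseudoCoherentD m (DCoh.inD X P))
    (hK : DCoh.IsPseudoCoherentD (m + 1) (DCoh.inD X (kernel p))) :
    DCoh.IsPseudoCoherentD m (DCoh.inD X M) := by
  have hS : (ShortComplex.mk (kernel.ι p) p (kernel.condition p)).ShortExact :=
    { exact := ShortComplex.exact_kernel p, mono_f := inferInstanceAs (Mono (kernel.ι p)), epi_g := inferInstance }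
  exact pc_obj₃ _ hS.singleTriangle_distinguished m hK hP

/-- a free module on a finite set -/
lemma isFinLocFree_free (I : Type u) [Finite I] :
    FlatMod.IsFinLocFree (SheafOfModules.free (R := X.ringCatSheaf) I : X.Modules) := by
  refine isFinLocFree_of_iso' (Sigma.whiskerEquiv (f := fun _ : Fin (Nat.card I) => Coh.structureModule X)
    (g := fun _ : I => Coh.structureModule X) (Finite.equivFin I).symm (fun _ => Iso.refl _)) ?_
  exact isFinLocFree_freeMod _

theorem pc_zero_of_isFT {M : X.Modules} (h : CohB1.IsFT M) : DCoh.IsPseudoCoherentD 0 (DCoh.inD X M) := by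
  refine pc_of_locally fun x => ?_
  obtain ⟨U, hx, σ, hσ⟩ := QC.isFT_iff_exists_hasFinGen.1 h x
  haveI : Finite σ.I := hσ.finite
  refine ⟨U, hx, pc_of_iso (rdInD U.ι M).symm ?_⟩
  haveI : Epi σ.π := σ.epi
  exact pc_inD_of_epi σ.π 0 (pc_inD_finLocFree (isFinLocFree_free σ.I) 0)
    (pc_of_isAbove (isAboveD_inD _ (by lia)))

theorem pc_negOne_of_isFP {M : X.Modules} (h : CohB1.IsFP M) : DCoh.IsPseudoCoherentD (-1) (DCoh.inD X M) := by
  refine pc_of_locally fun x => ?_
  obtain ⟨U, hx, P, hP⟩ := QC.isFP_iff_exists_hasFinPres.1 h x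
  haveI := hP
  haveI : Finite P.generators.I := (SheafOfModules.Presentation.IsFinite.isFiniteType_generators (p := P)).finite
  refine ⟨U, hx, pc_of_iso (rdInD U.ι M).symm ?_⟩
  haveI : Epi P.generators.π := P.generators.epi
  haveI : Epi P.relations.π := P.relations.epi
  refine pc_inD_of_epi P.generators.π (-1) (pc_inD_finLocFree (isFinLocFree_free _) _) ?_
  haveI : Finite P.relations.I := (SheafOfModules.Presentation.IsFinite.isFiniteType_relations (p := P)).finite
  exact pc_zero_of_isFT (QC.isFT_of_epi P.relations.π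
    (LocFree.isFT_of_isFinLocFree (isFinLocFree_free P.relations.I)))

/-- the top cohomology of a pseudo-coherent complex -/
lemma pc_top {K : DCoh.D X} {n : ℤ} (hK : IsAboveD (n + 1) K) (h : DCoh.IsPseudoCoherentD n K) :
    DCoh.IsPseudoCoherentD 0 (DCoh.inD X (DCoh.HD K n)) := by
  obtain ⟨Z, B, f, g, k, hT, hZ, -, ⟨e⟩⟩ := exists_top_triangle K n hK
  have := (pc_single_iff _ n n).1 (pc_of_iso e (pc_obj₃ _ hT n (pc_of_isAbove (isAboveD_mono (by lia) hZ)) h))
  rwa [sub_self] at this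

theorem isQCoh_of_pc_negOne {M : X.Modules} (h : DCoh.IsPseudoCoherentD (-1) (DCoh.inD X M)) : Coh.IsQCoh M :=
  QC.isQCoh_of_iso ((DerivedCategory.singleFunctorCompHomologyFunctorIso X.Modules 0).app M)
    ((isQCoh_cohomology_of_pseudoCoherent (-1) _ h).1 0 (by lia))

section affine

variable {A : CommRingCat.{u}}

/-- tilde of a module, in degree zero -/
noncomputable def tildeInD {R : Type u} [CommRing R] (N : ModuleCat.{u} R) :
    DCoh.inD (Spec (CommRingCat.of R)) ((tilde.functor (CommRingCat.of R)).obj N) ≅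
      (DCoh.tildeD (CommRingCat.of R)).obj (Dual.inD R N) :=
  (((tilde.functor (CommRingCat.of R)).mapDerivedCategorySingleFunctor 0).app N).symm

lemma pc_tilde_inD_iff {R : Type u} [CommRing R] (N : ModuleCat.{u} R) (m : ℤ) :
    DCoh.IsPseudoCoherentD m (DCoh.inD (Spec (CommRingCat.of R)) ((tilde.functor (CommRingCat.of R)).obj N)) ↔
      DRing.IsPseudoCoherentModule R m N :=
  ⟨fun h => (pseudoCoherent_tilde_iff _ m).1 (pc_of_iso (tildeInD N) h),
    fun h => pc_of_iso (tildeInD N).symm ((pseudoCoherent_tilde_iff _ m).2 h)⟩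

/-- a quasi-coherent module as a tilde -/
noncomputable def gammaIso {R : Type u} [CommRing R] (N : (Spec (CommRingCat.of R)).Modules) [hN : N.IsQuasicoherent] :
    (tilde.functor (CommRingCat.of R)).obj ((moduleSpecΓFunctor (R := CommRingCat.of R)).obj N) ≅ N :=
  @asIso _ _ _ _ ((Scheme.Modules.fromTildeΓNatTrans (R := CommRingCat.of R)).app N)
    (Scheme.Modules.isIso_fromTildeΓ_of_isQuasicoherent (R := CommRingCat.of R) N)

end affine

/-- reduction of a local property to spectra -/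
lemma exists_fromSpec (x : X) : ∃ (U : X.Opens) (hU : IsAffineOpen U), x ∈ Set.range hU.fromSpec.base := by
  obtain ⟨_, ⟨U, hU, rfl⟩, hx, -⟩ :=
    X.isBasis_affineOpens.exists_subset_of_mem_open (Set.mem_univ x) isOpen_univ
  replace hU : IsAffineOpen U := hU
  exact ⟨U, hU, hU.range_fromSpec.symm ▸ hx⟩

lemma isFT_of_pc_qcoh {M : X.Modules} (hM : Coh.IsQCoh M) (h : DCoh.IsPseudoCoherentD 0 (DCoh.inD X M)) :
    CohB1.IsFT M := by
  refine QC.isFT_of_local fun x => ?_
  obtain ⟨U, hU, hx⟩ := exists_fromSpec x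
  haveI : (M.restrict hU.fromSpec).IsQuasicoherent := QC.isQCoh_restrict hU.fromSpec hM
  let e := gammaIso (M.restrict hU.fromSpec)
  have h1 : DCoh.IsPseudoCoherentD 0 (DCoh.inD _ (M.restrict hU.fromSpec)) :=
    pc_of_iso (rdInD hU.fromSpec M) (pc_restrict hU.fromSpec h)
  haveI := (DRingKP.pcModule_zero_iff _).1 ((pc_tilde_inD_iff _ 0).1
    (pc_of_iso ((DerivedCategory.singleFunctor _ 0).mapIso e.symm) h1))
  exact ⟨_, hU.fromSpec, inferInstance, hx, QC.isFT_of_epi e.hom (QC.isFT_tilde _)⟩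

theorem isFP_of_pc {M : X.Modules} (h : DCoh.IsPseudoCoherentD (-1) (DCoh.inD X M)) : CohB1.IsFP M := by
  refine QC.isFP_of_local fun x => ?_
  obtain ⟨U, hU, hx⟩ := exists_fromSpec x
  haveI : (M.restrict hU.fromSpec).IsQuasicoherent := QC.isQCoh_restrict hU.fromSpec (isQCoh_of_pc_negOne h)
  let e := gammaIso (M.restrict hU.fromSpec)
  have h1 : DCoh.IsPseudoCoherentD (-1) (DCoh.inD _ (M.restrict hU.fromSpec)) :=
    pc_of_iso (rdInD hU.fromSpec M) (pc_restrict hU.fromSpec h)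
  haveI := (DRingKP.pcModule_negOne_iff _).1 ((pc_tilde_inD_iff _ (-1)).1
    (pc_of_iso ((DerivedCategory.singleFunctor _ 0).mapIso e.symm) h1))
  have hFP := QC.isFP_tilde ((moduleSpecΓFunctor (R := CommRingCat.of Γ(X, U))).obj (M.restrict hU.fromSpec))
  exact ⟨_, hU.fromSpec, inferInstance, hx,
    (SheafOfModules.isFinitePresentation (R := (Spec Γ(X, U)).ringCatSheaf)).prop_of_iso e hFP⟩

theorem isFT_of_pc {M : X.Modules} (h : DCoh.IsPseudoCoherentD 0 (DCoh.inD X M)) : CohB1.IsFT M := by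
  refine QC.isFT_of_local fun x => ?_
  obtain ⟨U, l, hl, u, hu, P, α, hP, hα⟩ := (pc_iff_near 0 _).1 h x
  haveI := hl
  have hz : IsAboveD (0 + 1) (DCoh.toD U P) := fun i hi => by
    haveI := hα.1 i (by lia)
    exact ((isAboveD_map (Scheme.Modules.restrictFunctor l) (isAboveD_inD M (m := 1) (by lia))) i (by lia)).of_iso
      (@asIso _ _ _ _ ((DerivedCategory.homologyFunctor _ i).map α) this)
  have hQ : CohB1.IsFT (DCoh.HD (DCoh.toD U P) 0) :=
    isFT_of_pc_qcoh (QC.isQCoh_of_iso (KFlat.hdIso P 0).symm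
      (isQCoh_homology_of_X P (fun n => isQCoh_of_isFinLocFree (hP.2 n)) 0))
      (pc_top hz (pc_strictlyPerfect hP 0))
  haveI := hα.2
  let e : (DerivedCategory.homologyFunctor U.Modules 0).obj ((RD l).obj (DCoh.inD X M)) ≅
      (Scheme.Modules.restrictFunctor l).obj M :=
    (DerivedCategory.homologyFunctor _ 0).mapIso (rdInD l M) ≪≫
      (DerivedCategory.singleFunctorCompHomologyFunctorIso U.Modules 0).app _
  exact ⟨U, l, hl, ⟨u, hu⟩, QC.isFT_of_epi ((DerivedCategory.homologyFunctor _ 0).map α ≫ e.hom) hQ⟩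

/-! ### direct images along closed immersions -/

variable (i : X ⟶ Y) [IsClosedImmersion i]

lemma isFT_push_qcoh {M : X.Modules} (hM : Coh.IsQCoh M) (h : CohB1.IsFT M) :
    CohB1.IsFT ((Scheme.Modules.pushforward i).obj M) := by
  haveI : M.IsQuasicoherent := hM
  haveI : ((Scheme.Modules.pushforward i).obj M).IsQuasicoherent := QC.isQCoh_pushforward i
  refine QC.isFT_iff_finite_sections.2 fun V => ?_
  have hV : IsAffineOpen (i ⁻¹ᵁ (V : Y.Opens)) := V.2.preimage i
  haveI := QC.finite_sections hV h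
  let σ := (i.app (V : Y.Opens)).hom
  have hσ : Function.Surjective σ := i.app_surjective _ V.2
  obtain ⟨s, hs⟩ := Module.Finite.fg_top (R := Γ(X, i ⁻¹ᵁ (V : Y.Opens))) (M := Γ(M, i ⁻¹ᵁ (V : Y.Opens)))
  letI : Algebra Γ(Y, (V : Y.Opens)) Γ(X, i ⁻¹ᵁ (V : Y.Opens)) := σ.toAlgebra
  letI : Module Γ(Y, (V : Y.Opens)) Γ(M, i ⁻¹ᵁ (V : Y.Opens)) := Module.compHom _ σ
  haveI : IsScalarTower Γ(Y, (V : Y.Opens)) Γ(X, i ⁻¹ᵁ (V : Y.Opens)) Γ(M, i ⁻¹ᵁ (V : Y.Opens)) :=
    IsScalarTower.of_algebraMap_smul fun _ _ => rfl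
  haveI : Module.Finite Γ(Y, (V : Y.Opens)) Γ(X, i ⁻¹ᵁ (V : Y.Opens)) :=
    Module.Finite.of_surjective (Algebra.linearMap _ _) hσ
  haveI := Module.Finite.trans (R := Γ(Y, (V : Y.Opens))) Γ(X, i ⁻¹ᵁ (V : Y.Opens)) Γ(M, i ⁻¹ᵁ (V : Y.Opens))
  exact Module.Finite.equiv
    ({ toFun := id, invFun := id, map_add' := fun _ _ => rfl, map_smul' := fun _ _ => rfl } :
      Γ(M, i ⁻¹ᵁ (V : Y.Opens)) ≃ₗ[Γ(Y, (V : Y.Opens))] Γ((Scheme.Modules.pushforward i).obj M, (V : Y.Opens)))

theorem pc_push_of_isFT {M : X.Modules} (h : CohB1.IsFT M) :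
    DCoh.IsPseudoCoherentD 0 ((PD i).obj (DCoh.inD X M)) := by
  refine pc_push_of_locally i fun x => ?_
  obtain ⟨U, hx, σ, hσ⟩ := QC.isFT_iff_exists_hasFinGen.1 h x
  haveI : Finite σ.I := hσ.finite
  obtain ⟨V, hV⟩ := exists_preimage_eq i U
  subst hV
  refine ⟨V, hx, pc_of_iso ((PD (i ∣_ V)).mapIso (rdInD _ M) ≪≫
    ((Scheme.Modules.pushforward (i ∣_ V)).mapDerivedCategorySingleFunctor 0).app _).symm
    (pc_zero_of_isFT ?_)⟩
  have hfree := isFinLocFree_free (X := (i ⁻¹ᵁ V : Scheme.{u})) σ.I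
  haveI : Epi σ.π := σ.epi
  haveI : Epi ((Scheme.Modules.pushforward (i ∣_ V)).map σ.π) := (Scheme.Modules.pushforward (i ∣_ V)).map_epi _
  exact QC.isFT_of_epi ((Scheme.Modules.pushforward (i ∣_ V)).map σ.π)
    (isFT_push_qcoh (i ∣_ V) (isQCoh_of_isFinLocFree hfree) (LocFree.isFT_of_isFinLocFree hfree))

theorem pc_push_zero_iff (M : X.Modules) :
    DCoh.IsPseudoCoherentD 0 ((PD i).obj (DCoh.inD X M)) ↔ CohB1.IsFT M :=
  ⟨fun h => isFT_of_pc (pc_of_push_top (i := i) 0 _ (isAboveD_inD M (by lia)) h), pc_push_of_isFT i⟩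

theorem pc_zero_iff (M : X.Modules) : DCoh.IsPseudoCoherentD 0 (DCoh.inD X M) ↔ CohB1.IsFT M :=
  ⟨isFT_of_pc, pc_zero_of_isFT⟩

theorem pc_negOne_iff (M : X.Modules) : DCoh.IsPseudoCoherentD (-1) (DCoh.inD X M) ↔ CohB1.IsFP M :=
  ⟨isFP_of_pc, pc_negOne_of_isFP⟩

end Groth.Agent.RelPCS
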