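import Groth.Agent.RelPCS.PushPC
import Groth.Agent.RelPC.Away
import Groth.Agent.QC.AffineSpec

/-!
Pseudo-coherence along closed immersions of affine schemes into affine spaces, in ring-theoretic terms.
-/

set_option backward.isDefEq.respectTransparency false
set_option backward.isDefEq.respectTransparency.types false
set_option linter.style.haveILetI false
set_option autoImplicit false

universe u

open CategoryTheory Limits Pretriangulated AlgebraicGeometry HomologicalComplex Opposite TopologicalSpace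

attribute [local instance] HasDerivedCategory.standard

namespace Groth.Agent.RelPCS

open Groth.Agent.DQCoh Groth.Agent.RelPC

variable {X : Scheme.{u}} {P P' A : Type u} [CommRing P] [CommRing P'] [CommRing A]

/-- `Spec` of a ring map -/
noncomputable abbrev sp (φ : P →+* A) : Spec (CommRingCat.of A) ⟶ Spec (CommRingCat.of P) :=
  Spec.map (CommRingCat.ofHom φ)

lemma sp_comp {Q : Type u} [CommRing Q] (f : Q →+* P) (φ : P →+* A) : sp (φ.comp f) = sp φ ≫ sp f := by
  rw [sp, sp, sp, ← Spec.map_comp]; rfl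

lemma sp_congr {φ φ' : P →+* A} (h : φ = φ') : sp φ = sp φ' := by rw [h]

lemma closedImm_sp {φ : P →+* A} (hφ : Function.Surjective φ) : IsClosedImmersion (sp φ) :=
  IsClosedImmersion.spec_of_surjective _ hφ

/-- pseudo-coherence of `E` on `j` tested through the surjection `φ` -/
def QPC (m : ℤ) (E : DCoh.D X) (j : Spec (CommRingCat.of A) ⟶ X) [IsOpenImmersion j] (φ : P →+* A) : Prop :=
  ∃ hφ : Function.Surjective φ, haveI := closedImm_sp hφ
    DCoh.IsPseudoCoherentD m ((PD (sp φ)).obj ((RD j).obj E))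

variable {m : ℤ} {E : DCoh.D X} {j : Spec (CommRingCat.of A) ⟶ X} [IsOpenImmersion j]

/-- the structure sheaf hypothesis from a pseudo-coherent ring map -/
lemma hypO_sp {ψ : P' →+* P} (hψ : Function.Surjective ψ) (h : PCHom ψ) :
    haveI := closedImm_sp hψ
    HypO (sp ψ) := by
  haveI := closedImm_sp hψ
  intro k
  let N : Dual.D P := Dual.inD P P
  have h1 : DCoh.IsPseudoCoherentD k ((DCoh.tildeD (CommRingCat.of P')).obj ((DRing.restrictD ψ).obj N)) :=
    (pseudoCoherent_tilde_iff _ k).2 (DRingKP.pc_of_pc' h k)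
  exact pc_of_iso (((pdTildeIso ψ).app N).symm ≪≫ (PD (sp ψ)).mapIso
    (((tilde.functor (CommRingCat.of P)).mapDerivedCategorySingleFunctor 0).app (ModuleCat.of P P) ≪≫
      (DerivedCategory.singleFunctor (Spec (CommRingCat.of P)).Modules 0).mapIso
        (AlgebraicGeometry.tildeSelf (R := CommRingCat.of P)))) h1

/-- refining a chart by a pseudo-coherent map -/
theorem qpc_comp_iff {ψ : P' →+* P} (hψ : Function.Surjective ψ) (h : PCHom ψ) {φ : P →+* A}
    (hφ : Function.Surjective φ) : QPC m E j (φ.comp ψ) ↔ QPC m E j φ := by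
  haveI := closedImm_sp hψ
  haveI := closedImm_sp hφ
  haveI := closedImm_sp (φ := φ.comp ψ) (hφ.comp hψ)
  have e := (pdCongr (sp_comp ψ φ)).app ((RD j).obj E) ≪≫ (pdComp (sp φ) (sp ψ)).app _
  exact ⟨fun ⟨_, hp⟩ => ⟨hφ, pc_of_push (hypO_sp hψ h) (pc_of_iso e hp)⟩,
    fun ⟨_, hp⟩ => ⟨hφ.comp hψ, pc_of_iso e.symm (pc_push (hypO_sp hψ h) hp)⟩⟩

variable {R : Type u} [CommRing R] {n k : ℕ}

/-- independence of the chart -/
theorem qpc_indep (φ : MvPolynomial (Fin n) R →+* A) (hφ : Function.Surjective φ)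
    (φ' : MvPolynomial (Fin k) R →+* A) (hφ' : Function.Surjective φ')
    (hC : φ.comp MvPolynomial.C = φ'.comp MvPolynomial.C) : QPC m E j φ ↔ QPC m E j φ' := by
  choose g hg using fun i : Fin k => hφ (φ' (MvPolynomial.X i))
  choose g' hg' using fun i : Fin n => hφ' (φ (MvPolynomial.X i))
  let π : MvPolynomial (Fin k ⊕ Fin n) R →+* MvPolynomial (Fin n) R :=
    (MvPolynomial.aeval (R := R) (Sum.elim g MvPolynomial.X)).toRingHom
  let π' : MvPolynomial (Fin n ⊕ Fin k) R →+* MvPolynomial (Fin k) R :=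
    (MvPolynomial.aeval (R := R) (Sum.elim g' MvPolynomial.X)).toRingHom
  let σ := (MvPolynomial.renameEquiv R (Equiv.sumComm (Fin k) (Fin n))).toRingEquiv
  have hC' : ∀ r, φ (MvPolynomial.C r) = φ' (MvPolynomial.C r) := RingHom.congr_fun hC
  have heq : φ.comp π = φ'.comp (π'.comp (σ : _ →+* _)) := by
    refine MvPolynomial.ringHom_ext (fun a => ?_) fun i => ?_
    · simpa [π, π', σ] using hC' a
    · rcases i with i | i
      · simp [π, π', σ, hg]
      · simp [π, π', σ, hg']
  have s1 : Function.Surjective π := fun p =>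
    ⟨MvPolynomial.rename Sum.inr p, by
      show MvPolynomial.aeval (Sum.elim g MvPolynomial.X) (MvPolynomial.rename Sum.inr p) = p
      rw [MvPolynomial.aeval_rename, Sum.elim_comp_inr, MvPolynomial.aeval_X_left_apply]⟩
  have s2 : Function.Surjective π' := fun p =>
    ⟨MvPolynomial.rename Sum.inr p, by
      show MvPolynomial.aeval (Sum.elim g' MvPolynomial.X) (MvPolynomial.rename Sum.inr p) = p
      rw [MvPolynomial.aeval_rename, Sum.elim_comp_inr, MvPolynomial.aeval_X_left_apply]⟩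
  let π'' : MvPolynomial (Fin k ⊕ Fin n) R →+* MvPolynomial (Fin k) R := π'.comp (σ : _ →+* _)
  have s3 : Function.Surjective π'' := fun p => by
    obtain ⟨q, hq⟩ := s2 p
    refine ⟨σ.symm q, ?_⟩
    show π' (σ (σ.symm q)) = p
    rw [σ.apply_symm_apply, hq]
  have p3 : PCHom π'' := (pcHom_of_ringEquiv σ).comp (pcHom_sum R g')
  have p1 : PCHom π := pcHom_sum R g
  have h1 := qpc_comp_iff (m := m) (E := E) (j := j) s1 p1 hφ
  have h2 := qpc_comp_iff (m := m) (E := E) (j := j) s3 p3 hφ'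
  have heq' : φ.comp π = φ'.comp π'' := heq
  rw [heq'] at h1
  exact h1.symm.trans h2

/-! ### localisation -/

section Away

variable {Pt A' : Type u} [CommRing Pt] [CommRing A'] [Algebra P Pt] [Algebra A A']

lemma opensRange_sp_away (g : A) [IsLocalization.Away g A'] :
    haveI := IsOpenImmersion.of_isLocalization (R := A) (S := A') g
    (sp (algebraMap A A')).opensRange = PrimeSpectrum.basicOpen g := by
  haveI := IsOpenImmersion.of_isLocalization (R := A) (S := A') g
  exact Opens.ext (PrimeSpectrum.localization_away_comap_range A' g)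

instance isOpenImmersion_sp_away (g : A) :
    IsOpenImmersion (sp (algebraMap A (Localization.Away g))) :=
  IsOpenImmersion.of_isLocalization (R := A) (S := Localization.Away g) g

/-- the chart of a localisation -/
theorem qpc_localize_iff (φ : P →+* A) (hφ : Function.Surjective φ) (t : P) [IsLocalization.Away t Pt]
    [IsLocalization.Away (φ t) A'] [IsOpenImmersion (sp (algebraMap A A'))]
    (φt : Pt →+* A') (hφt : Function.Surjective φt) (hsq : φt.comp (algebraMap P Pt) = (algebraMap A A').comp φ) :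
    haveI := IsOpenImmersion.of_isLocalization (R := P) (S := Pt) t
    haveI := closedImm_sp hφ
    DCoh.IsPseudoCoherentD m ((RD (sp (algebraMap P Pt))).obj ((PD (sp φ)).obj ((RD j).obj E))) ↔
      QPC m E (sp (algebraMap A A') ≫ j) φt := by
  haveI := IsOpenImmersion.of_isLocalization (R := P) (S := Pt) t
  haveI := closedImm_sp hφ
  haveI := closedImm_sp hφt
  have w : sp φt ≫ sp (algebraMap P Pt) = sp (algebraMap A A') ≫ sp φ := by
    rw [← sp_comp, ← sp_comp, hsq]
  have hr : (sp (algebraMap A A')).opensRange = sp φ ⁻¹ᵁ (sp (algebraMap P Pt)).opensRange := by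
    rw [opensRange_sp_away (φ t), opensRange_sp_away t]
    rfl
  let e := (pdBcIso (sp φ) (sp φt) (sp (algebraMap P Pt)) (sp (algebraMap A A')) w hr).app ((RD j).obj E) ≪≫
    (PD (sp φt)).mapIso ((rdComp (sp (algebraMap A A')) j).app E).symm
  exact ⟨fun h => ⟨hφt, pc_of_iso e h⟩, fun ⟨_, h⟩ => pc_of_iso e.symm h⟩

end Away

section Charts

variable {Pt : Type u} [CommRing Pt]

/-- a presentation of a localised polynomial ring -/
theorem exists_chart_localize [Algebra (MvPolynomial (Fin n) R) Pt] (t : MvPolynomial (Fin n) R)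
    [IsLocalization.Away t Pt] :
    ∃ (k : ℕ) (ψ : MvPolynomial (Fin k) R →+* Pt), Function.Surjective ψ ∧ PCHom ψ ∧
      ψ.comp MvPolynomial.C = (algebraMap (MvPolynomial (Fin n) R) Pt).comp MvPolynomial.C := by
  let P := MvPolynomial (Fin n) R
  haveI : Module.Flat P Pt := IsLocalization.flat _ (Submonoid.powers t)
  haveI : Algebra.FinitePresentation P Pt := IsLocalization.Away.finitePresentation t
  let e := (MvPolynomial.renameEquiv R (finSumFinEquiv (m := 1) (n := n)).symm).trans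
    (MvPolynomial.sumAlgEquiv R (Fin 1) (Fin n))
  let φ₁ : MvPolynomial (Fin 1) P →ₐ[P] Pt := MvPolynomial.aeval fun _ => IsLocalization.Away.invSelf t
  have hφ₁ : Function.Surjective φ₁ := fun q => by
    obtain ⟨⟨p, s, k, rfl⟩, hq⟩ := IsLocalization.surj (Submonoid.powers t) q
    refine ⟨MvPolynomial.C p * MvPolynomial.X 0 ^ k, ?_⟩
    rw [map_mul, map_pow, MvPolynomial.aeval_X, show φ₁ (MvPolynomial.C p) = algebraMap P Pt p from φ₁.commutes p]
    rw [← hq, map_pow, mul_assoc, ← mul_pow, IsLocalization.Away.mul_invSelf, one_pow, mul_one]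
  have h1 : PCHom φ₁.toRingHom := pcHom_of_flat_fp φ₁ hφ₁
  have h2 : PCHom (e.toRingEquiv : MvPolynomial (Fin (1 + n)) R →+* MvPolynomial (Fin 1) P) :=
    pcHom_of_ringEquiv e.toRingEquiv
  let ψ : MvPolynomial (Fin (1 + n)) R →+* Pt :=
    φ₁.toRingHom.comp (e.toRingEquiv : MvPolynomial (Fin (1 + n)) R →+* MvPolynomial (Fin 1) P)
  have h3 : Function.Surjective ψ := fun q => by
    obtain ⟨p, hp⟩ := hφ₁ q
    obtain ⟨p', rfl⟩ := e.surjective p
    exact ⟨p', hp⟩
  have h4 : PCHom ψ := PCHom.comp h2 h1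
  refine ⟨1 + n, ψ, h3, h4, RingHom.ext fun r => ?_⟩
  show φ₁ (e (MvPolynomial.C r)) = _
  rw [← MvPolynomial.algebraMap_eq, e.commutes, IsScalarTower.algebraMap_apply R P (MvPolynomial (Fin 1) P),
    φ₁.commutes]
  rfl

variable {A' : Type u} [CommRing A'] [Algebra A A']

lemma exists_localize_map (φ : MvPolynomial (Fin n) R →+* A) (hφ : Function.Surjective φ)
    [Algebra (MvPolynomial (Fin n) R) Pt] (t : MvPolynomial (Fin n) R) [IsLocalization.Away t Pt]
    [IsLocalization.Away (φ t) A'] :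
    ∃ φt : Pt →+* A', Function.Surjective φt ∧
      φt.comp (algebraMap _ Pt) = (algebraMap A A').comp φ := by
  refine ⟨IsLocalization.Away.map Pt A' φ t, fun b => ?_, IsLocalization.map_comp _⟩
  obtain ⟨⟨a, s, k, rfl⟩, hb⟩ := IsLocalization.surj (Submonoid.powers (φ t)) b
  obtain ⟨p, rfl⟩ := hφ a
  refine ⟨IsLocalization.mk' Pt p (⟨t ^ k, k, rfl⟩ : Submonoid.powers t), ?_⟩
  rw [IsLocalization.Away.map, IsLocalization.map_mk', IsLocalization.mk'_eq_iff_eq_mul, ← hb]
  congr 2
  exact (map_pow φ t k).symm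

variable [IsOpenImmersion (sp (algebraMap A A'))]

/-- on a basic open, every chart tests the same thing as the localised chart -/
theorem qpc_away_key (φ : MvPolynomial (Fin n) R →+* A) (hφ : Function.Surjective φ)
    (t : MvPolynomial (Fin n) R) [IsLocalization.Away (φ t) A']
    (φ' : MvPolynomial (Fin k) R →+* A') (hφ' : Function.Surjective φ')
    (hC : φ'.comp MvPolynomial.C = (algebraMap A A').comp (φ.comp MvPolynomial.C)) :
    haveI := closedImm_sp hφ
    DCoh.IsPseudoCoherentD m ((RD (sp (algebraMap (MvPolynomial (Fin n) R) (Localization.Away t)))).obj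
        ((PD (sp φ)).obj ((RD j).obj E))) ↔ QPC m E (sp (algebraMap A A') ≫ j) φ' := by
  haveI := closedImm_sp hφ
  obtain ⟨k', ψ, hψ, hpc, hψC⟩ := exists_chart_localize (Pt := Localization.Away t) t
  obtain ⟨φt, hφt, hsq⟩ := exists_localize_map (Pt := Localization.Away t) (A' := A') φ hφ t
  refine (qpc_localize_iff φ hφ t φt hφt hsq).trans ((qpc_comp_iff hψ hpc hφt).symm.trans
    (qpc_indep (φt.comp ψ) (hφt.comp hψ) φ' hφ' ?_))
  rw [RingHom.comp_assoc, hψC, ← RingHom.comp_assoc, hsq, RingHom.comp_assoc, hC]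

/-- shrinking to a basic open -/
theorem qpc_away (φ : MvPolynomial (Fin n) R →+* A) (hφ : Function.Surjective φ) (g : A)
    [IsLocalization.Away g A'] (φ' : MvPolynomial (Fin k) R →+* A') (hφ' : Function.Surjective φ')
    (hC : φ'.comp MvPolynomial.C = (algebraMap A A').comp (φ.comp MvPolynomial.C))
    (h : QPC m E j φ) : QPC m E (sp (algebraMap A A') ≫ j) φ' := by
  obtain ⟨t, rfl⟩ := hφ g
  obtain ⟨_, h⟩ := h
  haveI := closedImm_sp hφ
  exact (qpc_away_key φ hφ t φ' hφ' hC).1 (pc_restrict _ h)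

end Charts

/-- pseudo-coherence along a chart is local on the source -/
theorem qpc_of_away (φ : MvPolynomial (Fin n) R →+* A) (hφ : Function.Surjective φ)
    (h : ∀ x : PrimeSpectrum A, ∃ g : A, g ∉ x.asIdeal ∧
      ∃ (A' : Type u) (_ : CommRing A') (_ : Algebra A A') (_ : IsLocalization.Away g A')
        (_ : IsOpenImmersion (sp (algebraMap A A'))) (k : ℕ) (φ' : MvPolynomial (Fin k) R →+* A'),
        φ'.comp MvPolynomial.C = (algebraMap A A').comp (φ.comp MvPolynomial.C) ∧
          QPC m E (sp (algebraMap A A') ≫ j) φ') :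
    QPC m E j φ := by
  haveI := closedImm_sp hφ
  refine ⟨hφ, pc_push_of_locally (sp φ) fun x => ?_⟩
  obtain ⟨g, hg, A', _, _, _, _, k', φ', hC, hφ'⟩ := h x
  obtain ⟨t, rfl⟩ := hφ g
  have hpc := (qpc_away_key φ hφ t φ' hφ'.1 hC).2 hφ'
  let jt := sp (algebraMap (MvPolynomial (Fin n) R) (Localization.Away t))
  obtain ⟨k₁, hk₁, hkW⟩ := exists_opens jt
  refine ⟨jt.opensRange, ?_, ?_⟩
  · rw [opensRange_sp_away t]
    exact hg
  · exact pc_of_iso ((pdRestrIso (sp φ) jt.opensRange).app _) (pc_of_iso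
      (((rdComp k₁ jt).app _).symm ≪≫ (rdCongr hkW).app _) (pc_restrict k₁ hpc))

/-- restriction to an open containing the image -/
lemma pc_push_of_restrict {Z W W' : Scheme.{u}} (i : Z ⟶ W) [IsClosedImmersion i] (l : W' ⟶ W) [IsOpenImmersion l]
    (hl : ∀ z, i.base z ∈ l.opensRange) {L : DCoh.D Z}
    (h : DCoh.IsPseudoCoherentD m ((RD l).obj ((PD i).obj L))) : DCoh.IsPseudoCoherentD m ((PD i).obj L) := by
  refine pc_push_of_locally i fun z => ⟨l.opensRange, hl z, ?_⟩
  obtain ⟨k₁, hk₁, hkW⟩ := exists_opens l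
  exact pc_of_iso ((pdRestrIso i l.opensRange).app _) (pc_of_iso
    (((rdComp k₁ l).app _).symm ≪≫ (rdCongr hkW).app _) (pc_restrict k₁ h))

/-- changing the base to a basic open containing the image -/
theorem qpc_base {R₁ : Type u} [CommRing R₁] [Algebra R R₁] (a : R) [IsLocalization.Away a R₁]
    (φ : MvPolynomial (Fin n) R →+* A) (hφ : Function.Surjective φ)
    (φ₁ : MvPolynomial (Fin n) R₁ →+* A) (hφ₁ : Function.Surjective φ₁)
    (hfac : φ = φ₁.comp (MvPolynomial.map (algebraMap R R₁))) :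
    QPC m E j φ ↔ QPC m E j φ₁ := by
  letI : Algebra (MvPolynomial (Fin n) R) (MvPolynomial (Fin n) R₁) := MvPolynomial.algebraMvPolynomial
  haveI : IsLocalization.Away (MvPolynomial.C a : MvPolynomial (Fin n) R) (MvPolynomial (Fin n) R₁) := by
    have h := MvPolynomial.isLocalization (σ := Fin n) (Submonoid.powers a) R₁
    rwa [Submonoid.map_powers] at h
  haveI := IsOpenImmersion.of_isLocalization (R := MvPolynomial (Fin n) R) (S := MvPolynomial (Fin n) R₁)
    (MvPolynomial.C a)
  haveI := closedImm_sp hφ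
  haveI := closedImm_sp hφ₁
  let l := sp (algebraMap (MvPolynomial (Fin n) R) (MvPolynomial (Fin n) R₁))
  have w : sp φ₁ ≫ l = 𝟙 _ ≫ sp φ := by
    rw [Category.id_comp, ← sp_comp]
    exact (sp_congr hfac).symm
  have hl : ∀ z, (sp φ).base z ∈ l.opensRange := fun z =>
    ⟨(sp φ₁).base z, (congrArg (fun t => t.base z) w).trans rfl⟩
  have hr : (𝟙 (Spec (CommRingCat.of A)) : _ ⟶ _).opensRange = sp φ ⁻¹ᵁ l.opensRange :=
    Opens.ext (Set.ext fun z => ⟨fun _ => hl z, fun _ => ⟨z, rfl⟩⟩)
  let e : (RD l).obj ((PD (sp φ)).obj ((RD j).obj E)) ≅ (PD (sp φ₁)).obj ((RD j).obj E) :=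
    (pdBcIso (sp φ) (sp φ₁) l (𝟙 _) w hr).app _ ≪≫
      (PD (sp φ₁)).mapIso (((rdComp (𝟙 _) j).app E).symm ≪≫ (rdCongr (Category.id_comp j)).app E)
  exact ⟨fun ⟨_, h⟩ => ⟨hφ₁, pc_of_iso e (pc_restrict l h)⟩,
    fun ⟨_, h⟩ => ⟨hφ, pc_push_of_restrict (sp φ) l hl (pc_of_iso e.symm h)⟩⟩

end Groth.Agent.RelPCS
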