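import Groth.Agent.RelPCS.Comp
import Groth.Agent.RelPC.More
import Mathlib.AlgebraicGeometry.Morphisms.Smooth

/-!
# Flat morphisms locally of finite presentation, closed immersions
-/

set_option backward.isDefEq.respectTransparency false
set_option backward.isDefEq.respectTransparency.types false
set_option linter.style.haveILetI false
set_option autoImplicit false

universe u

open CategoryTheory Limits AlgebraicGeometry Pretriangulated Opposite TopologicalSpace

attribute [local instance] HasDerivedCategory.standard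

namespace Groth.Agent.RelPCS

open Groth.Agent.DQCoh Groth.Agent.RelPC

variable {X Y S : Scheme.{u}}

/-- charts of a morphism with pseudo-coherent ring maps -/
lemma qpc_unit_of_pcHom {V : Y.Opens} (hV : IsAffineOpen V) {P : Type u} [CommRing P]
    {ψ : P →+* Γ(Y, V)} (hψ : Function.Surjective ψ) (h : PCHom ψ) (n : ℤ) :
    QPC n (DCoh.toD Y (DerSch.unitCx Y)) hV.fromSpec ψ := by
  haveI := closedImm_sp hψ
  let e : (RD hV.fromSpec).obj (DCoh.toD Y (DerSch.unitCx Y)) ≅
      (DCoh.tildeD (CommRingCat.of Γ(Y, V))).obj (Dual.inD Γ(Y, V) Γ(Y, V)) :=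
    (RD hV.fromSpec).mapIso ((DerivedCategory.singleFunctorIsoCompQ Y.Modules 0).app _).symm ≪≫
      rdInD hV.fromSpec (Coh.structureModule Y) ≪≫
      (DerivedCategory.singleFunctor _ 0).mapIso (Scheme.Modules.restrictUnitIso hV.fromSpec ≪≫
        (AlgebraicGeometry.tildeSelf (R := CommRingCat.of Γ(Y, V))).symm) ≪≫
      tildeInD (ModuleCat.of Γ(Y, V) Γ(Y, V))
  exact ⟨hψ, pc_of_iso ((PD (sp ψ)).mapIso e ≪≫ (pdTildeIso ψ).app _).symm
    ((pseudoCoherent_tilde_iff _ n).2 (DRingKP.pc_of_pc' h n))⟩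

/-- flat morphisms locally of finite presentation are pseudo-coherent -/
theorem isNPseudoCoherent_of_flat (g : Y ⟶ S) [Flat g] [LocallyOfFinitePresentation g] (n : ℤ) :
    DerSch.IsNPseudoCoherent g n := by
  refine rel_of_qpc fun V hV W hW h k ψ hψ => qpc_unit_of_pcHom hV hψ.1 ?_ n
  algebraize [(g.appLE W V h).hom]
  haveI : Module.Flat Γ(S, W) Γ(Y, V) := g.flat_appLE hW hV h
  haveI : Algebra.FinitePresentation Γ(S, W) Γ(Y, V) := g.finitePresentation_appLE hW hV h
  exact pcHom_of_flat_fp { ψ with commutes' := fun r => RingHom.congr_fun hψ.2 r } hψ.1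

theorem rel_comp_flat_iff {f : X ⟶ Y} [LocallyOfFiniteType f] (g : Y ⟶ S) [Flat g]
    [LocallyOfFinitePresentation g] (m : ℤ) (E : DCoh.D X) :
    DerSch.IsPseudoCoherentRel (f ≫ g) m E ↔ DerSch.IsPseudoCoherentRel f m E :=
  (rel_comp_iff (isNPseudoCoherent_of_flat g) m E).symm

section closed

variable (i : X ⟶ Y) [IsClosedImmersion i]

/-- the chart of a closed immersion on an affine open -/
lemma exists_chart_closedImm {V : Y.Opens} (hV : IsAffineOpen V) :
    ∃ φ : MvPolynomial (Fin 0) Γ(Y, V) →+* Γ(X, i ⁻¹ᵁ V), DerSch.IsChart i (i ⁻¹ᵁ V) V le_rfl φ ∧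
      ∀ (m : ℤ) (E : DCoh.D X), QPC m E (hV.preimage i).fromSpec φ ↔
        DCoh.IsPseudoCoherentD m ((RD hV.fromSpec).obj ((PD i).obj E)) := by
  let U := i ⁻¹ᵁ V
  let hU : IsAffineOpen U := hV.preimage i
  let σ := (i.appLE V U le_rfl).hom
  let e := MvPolynomial.isEmptyRingEquiv Γ(Y, V) (Fin 0)
  have hσ : Function.Surjective σ := by
    have := i.app_surjective V hV
    rwa [Scheme.Hom.app_eq_appLE] at this
  refine ⟨σ.comp e.toRingHom, ⟨hσ.comp e.surjective, RingHom.ext fun r => ?_⟩, fun m E => ?_⟩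
  · exact congrArg σ (e.apply_symm_apply r)
  · rw [qpc_comp_iff (ψ := e.toRingHom) e.surjective (pcHom_of_ringEquiv e) hσ]
    haveI := closedImm_sp hσ
    have w : sp σ ≫ hV.fromSpec = hU.fromSpec ≫ i := IsAffineOpen.SpecMap_appLE_fromSpec i hV hU le_rfl
    have hr : hU.fromSpec.opensRange = i ⁻¹ᵁ hV.fromSpec.opensRange := by
      refine Opens.ext ?_
      show Set.range _ = i.base ⁻¹' Set.range _
      rw [hU.range_fromSpec, hV.range_fromSpec]
      rfl
    let b := (pdBcIso i (sp σ) hV.fromSpec hU.fromSpec w hr).app E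
    exact ⟨fun h => pc_of_iso b.symm h.2, fun h => ⟨hσ, pc_of_iso b h⟩⟩

theorem rel_closedImm_iff (m : ℤ) (E : DCoh.D X) :
    DerSch.IsPseudoCoherentRel i m E ↔ DCoh.IsPseudoCoherentD m ((PD i).obj E) := by
  constructor
  · intro h
    refine pc_of_locally fun y => ?_
    obtain ⟨V, hV, hy⟩ := exists_fromSpec y
    obtain ⟨φ, hφ, hq⟩ := exists_chart_closedImm i hV
    have h1 := (hq m E).1 (qpc_of_rel h (hV.preimage i) hV le_rfl hφ)
    obtain ⟨k, hk, hkj⟩ := exists_opens hV.fromSpec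
    exact ⟨hV.fromSpec.opensRange, hy,
      pc_of_iso (((rdComp k _).app _).symm ≪≫ (rdCongr hkj).app _) (pc_restrict k h1)⟩
  · intro h
    refine ⟨inferInstance, Set.univ, ?_, fun V _ => ⟨{⟨i ⁻¹ᵁ (V : Y.Opens), V.2.preimage i⟩}, iSup_singleton.trans rfl, fun U hU hUV => ?_⟩⟩
    · simpa using iSup_affineOpens_eq_top Y
    · obtain rfl := hU
      obtain ⟨φ, hφ, hq⟩ := exists_chart_closedImm i V.2
      exact ⟨0, φ, hφ, (chartPC_iff _ _ _ hφ.1).2 ((hq m E).2 (pc_restrict _ h))⟩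

theorem rel_closedImm_comp_flat_iff (g : Y ⟶ S) [Flat g] [LocallyOfFinitePresentation g] (m : ℤ)
    (F : CochainComplex X.Modules ℤ) :
    DerSch.IsPseudoCoherentRel (i ≫ g) m (DCoh.toD X F) ↔
      DCoh.IsPseudoCoherentD m (DCoh.toD Y ((DerSch.pushCx i).obj F)) := by
  rw [rel_comp_flat_iff g, rel_closedImm_iff]
  exact ⟨pc_of_iso (pdIso i F), pc_of_iso (pdIso i F).symm⟩

end closed

theorem rel_flat_iff (g : Y ⟶ S) [Flat g] [LocallyOfFinitePresentation g] (m : ℤ) (E : DCoh.D Y) :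
    DerSch.IsPseudoCoherentRel g m E ↔ DCoh.IsPseudoCoherentD m E := by
  rw [← rel_id_iff m E, ← rel_comp_flat_iff (f := 𝟙 Y) g m E, Category.id_comp]

end Groth.Agent.RelPCS
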