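import Groth.Agent.RelPCS.Comp

/-!
# Pseudo-coherence along closed immersions with partly pseudo-coherent structure sheaf
-/

set_option backward.isDefEq.respectTransparency false
set_option backward.isDefEq.respectTransparency.types false
set_option linter.style.haveILetI false
set_option autoImplicit false

universe u

open CategoryTheory Limits Pretriangulated AlgebraicGeometry HomologicalComplex Opposite TopologicalSpace
open scoped ZeroObject

attribute [local instance] HasDerivedCategory.standard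

namespace Groth.Agent.RelPCS

open Groth.Agent.DQCoh

/-- approximations by free complexes ending at a bound on the cohomology -/
lemma exists_free_approx {A : Type u} [CommRing A] (G : DRing.Cx A)
    (hG : ∀ m, DRing.IsPseudoCoherent A m (DRing.toD G)) (b : ℤ)
    (hb : ∀ i, b < i → IsZero (G.homology i)) (n : ℤ) :
    ∃ (E : DRing.Cx A) (q : E ⟶ G), DRing.VanishesOutside E (min n (b + 1)) b ∧ DRing.TermwiseFiniteFree E ∧
      DRingKP.MIso n (DerivedCategory.Q.map q) := by
  have hz : ∀ i, b < i → IsZero ((DerivedCategory.homologyFunctor (ModuleCat.{u} A) i).obj (DRing.toD G)) :=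
    fun i hi => (hb i hi).of_iso ((DerivedCategory.homologyFunctorFactors (ModuleCat.{u} A) i).app G)
  have H : ∀ k : ℕ, Nonempty (DRingKP.Approx G b (b + 1 - k)) := by
    intro k
    induction k with
    | zero =>
      refine ⟨⟨0, 0, fun i _ => (HomologicalComplex.eval _ _ i).map_isZero (isZero_zero _),
        fun i => DRingKP.finiteFree_of_isZero ((HomologicalComplex.eval _ _ i).map_isZero (isZero_zero _)),
        fun i hi => ?_, ?_⟩⟩
      · exact ⟨0, ((DerivedCategory.homologyFunctor (ModuleCat.{u} A) i).map_isZero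
          (DerivedCategory.Q.map_isZero (isZero_zero _))).eq_of_src _ _, (hz i (by lia)).eq_of_src _ _⟩
      · exact ⟨fun _ _ _ => (hz _ (by lia)).eq_of_src _ _⟩
    | succ k ih =>
      obtain ⟨s⟩ := ih
      obtain ⟨s', -⟩ := DRingKP.exists_next hG (b + 1 - k) (by lia) s
      rw [show b + 1 - (k : ℤ) - 1 = b + 1 - ((k + 1 : ℕ) : ℤ) by lia] at s'
      exact ⟨s'⟩
  obtain ⟨s⟩ := H (b + 1 - n).toNat
  exact ⟨s.E, s.q, fun i hi => s.vanish i (by lia), s.free, DRingKP.mIso_mono (by lia) s.miso⟩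

variable {X Y : Scheme.{u}}

/-- approximations ending at a bound on the cohomology -/
theorem exists_approx_le {n b : ℤ} (hbn : n ≤ b) {K : DCoh.D X} (hK : IsAboveD (b + 1) K)
    (h : DCoh.IsPseudoCoherentD n K) (x : X) :
    ∃ (O : X.Opens) (E : CochainComplex (O : Scheme.{u}).Modules ℤ)
      (α : DerivedCategory.Q.obj E ⟶ (RD O.ι).obj K), x ∈ O ∧ DCoh.IsStrictlyPerfect E ∧
        (∀ i, b < i → IsZero (E.X i)) ∧ MIsoD n α := by
  obtain ⟨U, j, hj, u, hu, hP⟩ := (pc_iff_near n K).1 h x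
  haveI := hj
  obtain ⟨W, hW, hu'⟩ := exists_fromSpec u
  obtain ⟨u', hu''⟩ := hu'
  let A := Γ(U, W)
  obtain ⟨F, β, hF, hβ⟩ := pcOn_comp hW.fromSpec j hP
  obtain ⟨E₀, a₀, b₀, hv, hp, ⟨e₀⟩⟩ := exists_tilde_strictlyPerfect (A := A) F hF
  let J := hW.fromSpec ≫ j
  have hG : ∀ l, DRing.IsPseudoCoherent A l (DRing.toD E₀) := fun l =>
    (pseudoCoherent_tilde_iff _ l).1 (pc_of_iso ((tildeToDIso (R := CommRingCat.of A) E₀) ≪≫
      DerivedCategory.Q.mapIso e₀).symm (pc_strictlyPerfect hF l))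
  have hFz : ∀ i, b < i → IsZero (((tCx (R := CommRingCat.of A)).obj E₀).homology i) := fun i hi => by
    haveI := hβ.1 i (by lia)
    have h1 : IsZero ((DerivedCategory.homologyFunctor (Spec A).Modules i).obj (DerivedCategory.Q.obj F)) :=
      (isAboveD_map _ hK i (by lia)).of_iso
        (asIso ((DerivedCategory.homologyFunctor (Spec A).Modules i).map β))
    exact (h1.of_iso ((DerivedCategory.homologyFunctorFactors _ i).app F).symm).of_iso
      ((HomologicalComplex.homologyFunctor _ _ i).mapIso e₀)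
  have hE₀z : ∀ i, b < i → IsZero (E₀.homology i) := fun i hi => by
    have h2 := (hFz i hi).of_iso ((homologyMapIso' (tilde.functor (CommRingCat.of A)) i).app E₀).symm
    rw [IsZero.iff_id_eq_zero]
    exact (tilde.functor (CommRingCat.of A)).map_injective (h2.eq_of_src _ _)
  obtain ⟨E₁, q, hE₁, hfree, hq⟩ := exists_free_approx E₀ hG b hE₀z n
  let E := (tCx (R := CommRingCat.of A)).obj E₁
  have hEp : DCoh.IsStrictlyPerfect E :=
    isStrictlyPerfect_tilde hE₁ fun i => ⟨(hfree i).1, by haveI := (hfree i).2; infer_instance⟩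
  have hq' : MIsoD n (DerivedCategory.Q.map ((tCx (R := CommRingCat.of A)).map q ≫ e₀.hom)) := by
    rw [Functor.map_comp]
    refine mIsoD_comp ?_ (mIsoD_of_isIso _ _)
    have hmap : DerivedCategory.Q.map ((tCx (R := CommRingCat.of A)).map q) =
        (tildeToDIso (R := CommRingCat.of A) E₁).inv ≫
          (DCoh.tildeD (CommRingCat.of A)).map (DerivedCategory.Q.map q) ≫
          (tildeToDIso (R := CommRingCat.of A) E₀).hom :=
      ((Iso.inv_comp_eq (tildeToDIso (R := CommRingCat.of A) E₁)).2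
        ((tilde.functor (CommRingCat.of A)).mapDerivedCategoryFactors.hom.naturality q)).symm
    rw [hmap]
    exact mIsoD_comp (mIsoD_of_isIso _ _) (mIsoD_comp (mIsoD_map _ hq) (mIsoD_of_isIso _ _))
  obtain ⟨k, hk, hkJ⟩ := exists_opens J
  refine ⟨J.opensRange, (rC k).obj E, ?_, ⟨u', ?_⟩, isStrictlyPerfect_restrict k hEp,
    fun i hi => (Scheme.Modules.restrictFunctor k).map_isZero
      ((tilde.functor (CommRingCat.of A)).map_isZero (hE₁ i (Or.inr hi))), ?_⟩
  · exact ((rdIso k E).inv ≫ (RD k).map (DerivedCategory.Q.map ((tCx (R := CommRingCat.of A)).map q ≫ e₀.hom) ≫ β)) ≫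
      (((rdComp k J).app K).symm ≪≫ (rdCongr hkJ).app K).hom
  · exact (congrArg j.base hu'').trans hu
  · exact mIsoD_comp (mIsoD_comp (mIsoD_of_isIso _ _) (mIsoD_map _ (mIsoD_comp hq' hβ))) (mIsoD_of_isIso _ _)

variable {i : X ⟶ Y} [IsClosedImmersion i]

/-- the structure sheaf is pushed to an `n`-pseudo-coherent module -/
def HypOn (i : X ⟶ Y) [IsClosedImmersion i] (n : ℤ) : Prop :=
  DCoh.IsPseudoCoherentD n ((PD i).obj (DCoh.inD X (Coh.structureModule X)))

lemma HypOn.restr {n : ℤ} (hi : HypOn i n) (V : Y.Opens) : HypOn (i ∣_ V) n :=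
  pc_of_iso ((pdRestrIso i V).app _ ≪≫ (PD (i ∣_ V)).mapIso (rdInD _ _ ≪≫
    (DerivedCategory.singleFunctor (i ⁻¹ᵁ V : Scheme.{u}).Modules 0).mapIso
      (Scheme.Modules.restrictUnitIso (i ⁻¹ᵁ V).ι))) (pc_restrict V.ι hi)

lemma pc_push_freeMod_n {n : ℤ} (hi : HypOn i n) :
    ∀ r : ℕ, DCoh.IsPseudoCoherentD n ((PD i).obj (DCoh.inD X (FlatMod.freeMod X r))) := by
  intro r
  induction r with
  | zero =>
    have hz : IsZero (FlatMod.freeMod X 0) :=
      (IsZero.iff_id_eq_zero _).2 (Limits.Sigma.hom_ext _ _ fun j => j.elim0)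
    exact pc_of_isAbove (isAboveD_of_isZero
      ((DerivedCategory.singleFunctor X.Modules 0 ⋙ PD i).map_isZero hz) n)
  | succ r ih =>
    let O := fun _ : Fin (r + 1) => Coh.structureModule X
    let f : Coh.structureModule X ⟶ FlatMod.freeMod X (r + 1) := Sigma.ι O 0
    let g : FlatMod.freeMod X (r + 1) ⟶ FlatMod.freeMod X r :=
      Sigma.desc (fun j => Fin.cases 0 (fun k => Sigma.ι (fun _ : Fin r => Coh.structureModule X) k) j)
    have hfg : f ≫ g = 0 := by simp [f, g, O]
    let S := ShortComplex.mk f g hfg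
    let sp : S.Splitting :=
      { r := Sigma.desc (fun j => Fin.cases (𝟙 _) (fun _ => 0) j)
        s := Sigma.desc (fun k => Sigma.ι O k.succ)
        f_r := by simp [S, f, O]
        s_g := Limits.Sigma.hom_ext _ _ fun k => by simp [S, g, O]
        id := Limits.Sigma.hom_ext _ _ fun j => by
          refine Fin.cases ?_ (fun k => ?_) j <;> simp [S, f, g, O] }
    exact pc_obj₂ _ ((PD i).map_distinguished _ sp.shortExact.singleTriangle_distinguished) n hi ih

lemma pc_push_finLocFree_n {n : ℤ} (hi : HypOn i n) {M : X.Modules} (hM : FlatMod.IsFinLocFree M) :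
    DCoh.IsPseudoCoherentD n ((PD i).obj (DCoh.inD X M)) := by
  refine pc_push_of_locally i fun x => ?_
  obtain ⟨O, r, hx, ⟨e⟩⟩ := hM x
  obtain ⟨V, hV⟩ := exists_preimage_eq i O
  subst hV
  exact ⟨V, hx, pc_of_iso ((PD (i ∣_ V)).mapIso (rdInD _ M ≪≫
    (DerivedCategory.singleFunctor (i ⁻¹ᵁ V : Scheme.{u}).Modules 0).mapIso e)).symm
      (pc_push_freeMod_n (hi.restr V) r)⟩

lemma pc_push_perfect_n {n : ℤ} (hi : HypOn i n) {m b : ℤ} (hm : n ≤ m - b)
    {E : CochainComplex X.Modules ℤ} (hE : DCoh.IsStrictlyPerfect E) (hb : ∀ j, b < j → IsZero (E.X j)) :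
    DCoh.IsPseudoCoherentD m ((PD i).obj (DerivedCategory.Q.obj E)) := by
  refine pc_of_iso (pdIso i E).symm (pc_of_termwise m ((DerSch.pushCx i).obj E) b
    (fun j hj => (Scheme.Modules.pushforward i).map_isZero (hb j hj)) fun j _ => ?_)
  refine pc_of_iso (((Scheme.Modules.pushforward i).mapDerivedCategorySingleFunctor 0).app (E.X j)) ?_
  by_cases hj : j ≤ b
  · exact pc_mono (by lia) (pc_push_finLocFree_n hi (hE.2 j))
  · exact pc_of_isAbove (isAboveD_map _ (isAboveD_of_isZero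
      ((DerivedCategory.singleFunctor X.Modules 0).map_isZero (hb j (by lia))) _))

theorem pc_of_push_n_bounded : ∀ (d : ℕ) {X Y : Scheme.{u}} {i : X ⟶ Y} [IsClosedImmersion i] (a b : ℤ),
    b + 1 ≤ a + d → HypOn i (a + 1 - b) → ∀ K : DCoh.D X, IsAboveD (b + 1) K →
      DCoh.IsPseudoCoherentD a ((PD i).obj K) → DCoh.IsPseudoCoherentD a K := by
  intro d
  induction d with
  | zero => exact fun a b hd _ K hK _ => pc_of_isAbove (isAboveD_mono (by simpa using hd) hK)
  | succ d ih =>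
    intro X Y i _ a b hd hi K hK h
    by_cases hab : b ≤ a
    · exact pc_of_push_top (i := i) a K (isAboveD_mono (by lia) hK) h
    have h1 := ih (a + 1) b (by lia) (pc_mono (by lia) hi) K hK (pc_mono (by lia) h)
    refine pc_of_locally fun x => ?_
    obtain ⟨O, E, α, hx, hE, hEb, hα⟩ := exists_approx_le (n := a + 1) (b := b) (by lia) hK h1 x
    obtain ⟨V, hV⟩ := exists_preimage_eq i O
    subst hV
    refine ⟨i ⁻¹ᵁ V, hx, ?_⟩
    obtain ⟨Cn, v, w, hT⟩ := Pretriangulated.distinguished_cocone_triangle α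
    have hC : IsAboveD (a + 1) Cn := (mIsoD_iff (a + 1) _ hT).1 hα
    have hC' : DCoh.IsPseudoCoherentD a ((PD (i ∣_ V)).obj Cn) :=
      pc_obj₃ _ ((PD (i ∣_ V)).map_distinguished _ hT) a
        (pc_push_perfect_n (hi.restr V) (b := b) (by lia) hE hEb)
        (pc_of_iso ((pdRestrIso i V).app K) (pc_restrict V.ι h))
    exact pc_obj₂ _ hT a (pc_strictlyPerfect hE a) (pc_of_push_top (i := i ∣_ V) a Cn hC hC')

/-- pseudo-coherence descends along a partly pseudo-coherent closed immersion -/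
theorem pc_of_push_n {a b : ℤ} (hi : HypOn i (a + 1 - b)) {K : DCoh.D X} (hK : IsAboveD (b + 1) K)
    (h : DCoh.IsPseudoCoherentD a ((PD i).obj K)) : DCoh.IsPseudoCoherentD a K :=
  pc_of_push_n_bounded (b + 1 - a).toNat a b (by lia) hi K hK h

end Groth.Agent.RelPCS

namespace Groth.Agent.RelPCS

open Groth.Agent.DQCoh Groth.Agent.RelPC

/-- the hypothesis from the ring map -/
lemma hypOn_sp {P P' : Type u} [CommRing P] [CommRing P'] {ψ : P' →+* P} (hψ : Function.Surjective ψ) {n : ℤ}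
    (h : DRing.IsPseudoCoherent P' n ((DRing.restrictD ψ).obj (Dual.inD P P))) :
    haveI := closedImm_sp hψ
    HypOn (sp ψ) n := by
  haveI := closedImm_sp hψ
  exact pc_of_iso (((pdTildeIso ψ).app _).symm ≪≫ (PD (sp ψ)).mapIso
    (((tilde.functor (CommRingCat.of P)).mapDerivedCategorySingleFunctor 0).app (ModuleCat.of P P) ≪≫
      (DerivedCategory.singleFunctor (Spec (CommRingCat.of P)).Modules 0).mapIso
        (AlgebraicGeometry.tildeSelf (R := CommRingCat.of P)))) ((pseudoCoherent_tilde_iff _ n).2 h)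

/-- adjoining variables keeps the level of pseudo-coherence -/
lemma pc_map_vars {A B : Type u} [CommRing A] [CommRing B] {f : A →+* B} {n : ℤ}
    (h : DRing.IsPseudoCoherent A n ((DRing.restrictD f).obj (Dual.inD B B))) (σ : Type) [Finite σ] :
    DRing.IsPseudoCoherent (MvPolynomial σ A) n ((DRing.restrictD (MvPolynomial.map (σ := σ) f)).obj
      (Dual.inD (MvPolynomial σ B) (MvPolynomial σ B))) := by
  letI := f.toAlgebra
  have h0 : DRing.IsPseudoCoherentModule A n (ModuleCat.of A B) := DRingKP.pc_of_iso (algebraIso A B) h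
  letI : Algebra (MvPolynomial σ A) (MvPolynomial σ B) := MvPolynomial.algebraMvPolynomial
  exact DRingKP.pc_of_iso (algebraIso (MvPolynomial σ A) (MvPolynomial σ B)).symm
    (DRingKP.pcModule_of_iso
      (Algebra.IsPushout.equiv A (MvPolynomial σ A) B (MvPolynomial σ B)).toLinearEquiv.toModuleIso
      (DRingKP.pcModule_baseChange (B := MvPolynomial σ A) n B h0))

variable {X Y Z : Scheme.{u}} {f : X ⟶ Y} {g : Y ⟶ Z}

/-- cancelling a morphism with partly pseudo-coherent structure sheaf -/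
theorem rel_of_rel_comp [LocallyOfFiniteType f] [LocallyOfFiniteType g] {a b : ℤ} {E : DCoh.D X}
    (hb : IsAboveD (b + 1) E) (hE : DerSch.IsPseudoCoherentRel (f ≫ g) a E)
    (hg : DerSch.IsNPseudoCoherent g (a + 1 - b)) : DerSch.IsPseudoCoherentRel f a E := by
  refine ⟨inferInstance, {V | ∃ W : Z.affineOpens, (V : Y.Opens) ≤ g ⁻¹ᵁ (W : Z.Opens)}, ?_, ?_⟩
  · refine eq_top_iff.2 fun y _ => ?_
    obtain ⟨V, W, hyV, hVW, -⟩ := exists_pair_le g (O := ⊤) (x := y) trivial
    exact Opens.mem_iSup.2 ⟨V, Opens.mem_iSup.2 ⟨⟨W, hVW⟩, hyV⟩⟩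
  · rintro V ⟨W, hVW⟩
    refine ⟨{U | (U : X.Opens) ≤ f ⁻¹ᵁ (V : Y.Opens)}, ?_, fun U _ hUV => ?_⟩
    · refine le_antisymm (iSup₂_le fun U hU => hU) fun x hx => ?_
      obtain ⟨_, ⟨U, hU, rfl⟩, hxU, hUV⟩ :=
        X.isBasis_affineOpens.exists_subset_of_mem_open hx (f ⁻¹ᵁ (V : Y.Opens)).isOpen
      exact Opens.mem_iSup.2 ⟨⟨U, hU⟩, Opens.mem_iSup.2 ⟨hUV, hxU⟩⟩
    · obtain ⟨k, φ, hφ⟩ := exists_chart U.2 V.2 hUV
      obtain ⟨n, ψ, hψ⟩ := exists_chart V.2 W.2 hVW
      obtain ⟨θ, e, hθ, rfl⟩ := exists_chart_comp hUV hVW hφ hψ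
      refine ⟨k, φ, hφ, (chartPC_iff U.2 _ φ hφ.1).2 ?_⟩
      have hs := MvPolynomial.map_surjective (σ := Fin k) ψ hψ.1
      have hψ' := qpc_of_rel hg V.2 W.2 hVW hψ
      have h1 := pc_map_vars (pc_unit_ring V.2 hψ') (Fin k)
      have h2 := (qpc_comp_iff (ψ := e.toRingHom) e.surjective (pcHom_of_ringEquiv e) (hφ.1.comp hs)).1
        (qpc_of_rel hE U.2 W.2 (hUV.trans (f.preimage_mono hVW)) hθ)

      haveI := closedImm_sp hs
      haveI := closedImm_sp hφ.1
      haveI := closedImm_sp (φ := φ.comp (MvPolynomial.map ψ)) (hφ.1.comp hs)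
      exact ⟨hφ.1, pc_of_push_n (i := sp (MvPolynomial.map (σ := Fin k) ψ)) (hypOn_sp hs h1)
        (isAboveD_map _ (isAboveD_map _ hb))
        (pc_of_iso ((pdCongr (sp_comp _ φ)).app _ ≪≫ (pdComp (sp φ) (sp (MvPolynomial.map ψ))).app _) h2.2)⟩

end Groth.Agent.RelPCS
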