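import Groth.Agent.RelPCS.RingChart

/-!
Relative pseudo-coherence on schemes: independence of the charts and of the covers.
-/

set_option backward.isDefEq.respectTransparency false
set_option backward.isDefEq.respectTransparency.types false
set_option linter.style.haveILetI false
set_option autoImplicit false

universe u

open CategoryTheory Limits Pretriangulated AlgebraicGeometry HomologicalComplex Opposite TopologicalSpace

attribute [local instance] HasDerivedCategory.standard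

namespace Groth.Agent.RelPCS

open Groth.Agent.DQCoh

variable {X S : Scheme.{u}}

/-- pseudo-coherence on an open subscheme which is everything -/
lemma pc_of_restrict_id {m : ℤ} {K : DCoh.D X} (h : DCoh.IsPseudoCoherentD m ((RD (𝟙 X)).obj K)) :
    DCoh.IsPseudoCoherentD m K := by
  rw [pc_iff_near] at h ⊢
  intro x
  obtain ⟨U, j, hj, u, hu, hP⟩ := h x
  haveI := hj
  exact ⟨U, j ≫ 𝟙 X, inferInstance, u, hu, pcOn_push j (𝟙 X) hP⟩

/-- the chart test through `fromSpec` -/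
theorem chartPC_iff {m : ℤ} {E : DCoh.D X} {U : X.Opens} (hU : IsAffineOpen U) (V : S.Opens) {n : ℕ}
    (φ : MvPolynomial (Fin n) Γ(S, V) →+* Γ(X, U)) (hφ : Function.Surjective φ) :
    DerSch.ChartPC m E U V φ ↔ QPC m E hU.fromSpec φ := by
  haveI := closedImm_sp hφ
  haveI : IsClosedImmersion (DerSch.chartImm U φ) := by
    rw [show DerSch.chartImm U φ = hU.isoSpec.hom ≫ sp φ from rfl]; infer_instance
  let P := MvPolynomial (Fin n) Γ(S, V)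
  have w : sp φ ≫ 𝟙 _ = hU.isoSpec.inv ≫ DerSch.chartImm U φ := by
    rw [Category.comp_id, show DerSch.chartImm U φ = hU.isoSpec.hom ≫ sp φ from rfl, Iso.inv_hom_id_assoc]
  have hr : hU.isoSpec.inv.opensRange = DerSch.chartImm U φ ⁻¹ᵁ (𝟙 (Spec (CommRingCat.of P)) : _ ⟶ _).opensRange :=
    Opens.ext (Set.ext fun z => ⟨fun _ => ⟨_, rfl⟩, fun _ =>
      ⟨hU.isoSpec.hom.base z, congrArg (fun t => t.base z) hU.isoSpec.hom_inv_id⟩⟩)
  let e : (RD (𝟙 (Spec (CommRingCat.of P)))).obj ((PD (DerSch.chartImm U φ)).obj ((RD U.ι).obj E)) ≅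
      (PD (sp φ)).obj ((RD hU.fromSpec).obj E) :=
    (pdBcIso (DerSch.chartImm U φ) (sp φ) (𝟙 _) hU.isoSpec.inv w hr).app _ ≪≫
      (PD (sp φ)).mapIso ((rdComp hU.isoSpec.inv U.ι).app E).symm
  have hrep : ∀ G : CochainComplex X.Modules ℤ, ∀ e' : DCoh.toD X G ≅ E,
      Nonempty (DCoh.toD _ ((DerSch.pushCx (DerSch.chartImm U φ)).obj ((DCoh.restrictCx U).obj G)) ≅
        (PD (DerSch.chartImm U φ)).obj ((RD U.ι).obj E)) := fun G e' =>
    ⟨(pdIso (DerSch.chartImm U φ) _).symm ≪≫ (PD (DerSch.chartImm U φ)).mapIso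
      ((rdIso U.ι G).symm ≪≫ (RD U.ι).mapIso e')⟩
  constructor
  · intro h
    let G := (DerivedCategory.Q : _ ⥤ DCoh.D X).objPreimage E
    let eG : DCoh.toD X G ≅ E := DerivedCategory.Q.objObjPreimageIso E
    obtain ⟨i⟩ := hrep G eG
    exact ⟨hφ, pc_of_iso e (pc_restrict _ (pc_of_iso i (h G ⟨eG⟩)))⟩
  · rintro ⟨_, h⟩ G ⟨e'⟩
    obtain ⟨i⟩ := hrep G e'
    exact pc_of_iso i.symm (pc_of_restrict_id (pc_of_iso e.symm h))

variable (f : X ⟶ S)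

/-- the test on a pair of opens -/
def QA (m : ℤ) (E : DCoh.D X) (U : X.Opens) (V : S.Opens) : Prop :=
  ∀ h : U ≤ f ⁻¹ᵁ V, ∃ (n : ℕ) (φ : MvPolynomial (Fin n) Γ(S, V) →+* Γ(X, U)),
    DerSch.IsChart f U V h φ ∧ DerSch.ChartPC m E U V φ

variable {f}

/-- charts exist -/
lemma exists_chart [LocallyOfFiniteType f] {U : X.Opens} (hU : IsAffineOpen U) {V : S.Opens} (hV : IsAffineOpen V)
    (h : U ≤ f ⁻¹ᵁ V) :
    ∃ (n : ℕ) (φ : MvPolynomial (Fin n) Γ(S, V) →+* Γ(X, U)), DerSch.IsChart f U V h φ := by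
  algebraize [(f.appLE V U h).hom]
  haveI : Algebra.FiniteType Γ(S, V) Γ(X, U) := LocallyOfFiniteType.finiteType_appLE f hV hU h
  obtain ⟨n, φ, hφ⟩ := Algebra.FiniteType.iff_quotient_mvPolynomial''.1 this
  exact ⟨n, φ.toRingHom, hφ, RingHom.ext fun r => φ.commutes r⟩

/-- any chart gives the same test -/
lemma qpc_of_qa {m : ℤ} {E : DCoh.D X} {U : X.Opens} (hU : IsAffineOpen U) {V : S.Opens} (h : U ≤ f ⁻¹ᵁ V)
    (hQ : QA f m E U V) {n : ℕ} {φ : MvPolynomial (Fin n) Γ(S, V) →+* Γ(X, U)} (hφ : DerSch.IsChart f U V h φ) :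
    QPC m E hU.fromSpec φ := by
  obtain ⟨k, ψ, hψ, hpc⟩ := hQ h
  exact (qpc_indep ψ hψ.1 φ hφ.1 (hψ.2.trans hφ.2.symm)).1 ((chartPC_iff hU V ψ hψ.1).1 hpc)

lemma qa_of_qpc {m : ℤ} {E : DCoh.D X} {U : X.Opens} (hU : IsAffineOpen U) {V : S.Opens} (h : U ≤ f ⁻¹ᵁ V)
    {n : ℕ} {φ : MvPolynomial (Fin n) Γ(S, V) →+* Γ(X, U)} (hφ : DerSch.IsChart f U V h φ)
    (hQ : QPC m E hU.fromSpec φ) : QA f m E U V :=
  fun _ => ⟨n, φ, hφ, (chartPC_iff hU V φ hφ.1).2 hQ⟩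

lemma qpc_congr {A P : Type u} [CommRing A] [CommRing P] {m : ℤ} {E : DCoh.D X}
    {j j' : Spec (CommRingCat.of A) ⟶ X} [IsOpenImmersion j] [IsOpenImmersion j'] (h : j = j') {φ : P →+* A}
    (hQ : QPC m E j φ) : QPC m E j' φ := by
  subst h; exact hQ

variable {m : ℤ} {E : DCoh.D X}

section basic

variable {U : X.Opens} (hU : IsAffineOpen U) (g : Γ(X, U))

include hU in
lemma isOpenImmersion_res :
    @IsOpenImmersion _ _ (sp (X.presheaf.map (homOfLE (X.basicOpen_le g)).op).hom) := by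
  haveI : IsOpenImmersion (sp (X.presheaf.map (homOfLE (X.basicOpen_le g)).op).hom ≫ hU.fromSpec) := by
    erw [hU.map_fromSpec (hU.basicOpen g)]
    infer_instance
  exact IsOpenImmersion.of_comp _ hU.fromSpec

include hU in
/-- shrinking the source -/
theorem qa_basicOpen [LocallyOfFiniteType f] {V : S.Opens} (hV : IsAffineOpen V) (h : U ≤ f ⁻¹ᵁ V)
    (hQ : QA f m E U V) : QA f m E (X.basicOpen g) V := by
  obtain ⟨n, φ, hφ⟩ := exists_chart hU hV h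
  have h' : X.basicOpen g ≤ f ⁻¹ᵁ V := (X.basicOpen_le g).trans h
  obtain ⟨k, φ', hφ'⟩ := exists_chart (hU.basicOpen g) hV h'
  letI : Algebra Γ(X, U) Γ(X, X.basicOpen g) := (X.presheaf.map (homOfLE (X.basicOpen_le g)).op).hom.toAlgebra
  haveI : IsLocalization.Away g Γ(X, X.basicOpen g) := hU.isLocalization_basicOpen g
  haveI : IsOpenImmersion (sp (algebraMap Γ(X, U) Γ(X, X.basicOpen g))) := isOpenImmersion_res hU g
  refine qa_of_qpc (hU.basicOpen g) h' hφ' (qpc_congr (j := sp (algebraMap Γ(X, U) Γ(X, X.basicOpen g)) ≫ hU.fromSpec)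
      (hU.map_fromSpec (hU.basicOpen g) (homOfLE (X.basicOpen_le g)).op) ?_)
  refine qpc_away φ hφ.1 g φ' hφ'.1 ?_ (qpc_of_qa hU h hQ hφ)
  rw [hφ.2, hφ'.2]
  exact congrArg CommRingCat.Hom.hom (f.appLE_map h (homOfLE (X.basicOpen_le g)).op).symm

include hU in
/-- the test is local on the source -/
theorem qa_of_cover [LocallyOfFiniteType f] {V : S.Opens} (hV : IsAffineOpen V)
    (hQ : ∀ x ∈ U, ∃ g : Γ(X, U), x ∈ X.basicOpen g ∧ QA f m E (X.basicOpen g) V) : QA f m E U V := by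
  intro h
  obtain ⟨n, φ, hφ⟩ := exists_chart hU hV h
  refine qa_of_qpc hU h hφ (qpc_of_away φ hφ.1 fun p => ?_) h
  have hp : hU.fromSpec.base p ∈ U := hU.range_fromSpec.subset ⟨p, rfl⟩
  obtain ⟨g, hg, hgQ⟩ := hQ _ hp
  have h' : X.basicOpen g ≤ f ⁻¹ᵁ V := (X.basicOpen_le g).trans h
  obtain ⟨k, φ', hφ'⟩ := exists_chart (hU.basicOpen g) hV h'
  have hmem : p ∈ PrimeSpectrum.basicOpen g := by
    rw [← hU.fromSpec_preimage_basicOpen]; exact hg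
  refine ⟨g, hmem, Γ(X, X.basicOpen g), inferInstance,
    (X.presheaf.map (homOfLE (X.basicOpen_le g)).op).hom.toAlgebra, hU.isLocalization_basicOpen g,
    isOpenImmersion_res hU g, k, φ', ?_, ?_⟩
  · rw [hφ.2, hφ'.2]
    exact congrArg CommRingCat.Hom.hom (f.appLE_map h (homOfLE (X.basicOpen_le g)).op).symm
  · haveI := isOpenImmersion_res hU g
    exact qpc_congr (j' := sp (X.presheaf.map (homOfLE (X.basicOpen_le g)).op).hom ≫ hU.fromSpec)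
      (hU.map_fromSpec (hU.basicOpen g) (homOfLE (X.basicOpen_le g)).op).symm (qpc_of_qa (hU.basicOpen g) h' hgQ hφ')

end basic

/-- changing the base to a basic open -/
theorem qa_base [LocallyOfFiniteType f] {U : X.Opens} (hU : IsAffineOpen U) {V : S.Opens} (hV : IsAffineOpen V)
    (a : Γ(S, V)) (h : U ≤ f ⁻¹ᵁ S.basicOpen a) : QA f m E U V ↔ QA f m E U (S.basicOpen a) := by
  have h0 : U ≤ f ⁻¹ᵁ V := h.trans (f.preimage_mono (S.basicOpen_le a))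
  obtain ⟨n, φ, hφ⟩ := exists_chart hU hV h0
  letI : Algebra Γ(S, V) Γ(S, S.basicOpen a) := (S.presheaf.map (homOfLE (S.basicOpen_le a)).op).hom.toAlgebra
  haveI : IsLocalization.Away a Γ(S, S.basicOpen a) := hV.isLocalization_basicOpen a
  let φ₁ : MvPolynomial (Fin n) Γ(S, S.basicOpen a) →+* Γ(X, U) :=
    MvPolynomial.eval₂Hom (f.appLE (S.basicOpen a) U h).hom fun i => φ (MvPolynomial.X i)
  have hfac : φ = φ₁.comp (MvPolynomial.map (algebraMap Γ(S, V) Γ(S, S.basicOpen a))) := by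
    refine MvPolynomial.ringHom_ext (fun r => ?_) fun i => ?_
    · rw [RingHom.comp_apply, MvPolynomial.map_C, MvPolynomial.eval₂Hom_C, ← RingHom.comp_apply, hφ.2]
      exact congrArg (fun t => t.hom r) (f.map_appLE h (homOfLE (S.basicOpen_le a)).op).symm
    · rw [RingHom.comp_apply, MvPolynomial.map_X, MvPolynomial.eval₂Hom_X']
  have hs : Function.Surjective φ₁ := fun b => by
    obtain ⟨p, rfl⟩ := hφ.1 b
    exact ⟨MvPolynomial.map (algebraMap Γ(S, V) Γ(S, S.basicOpen a)) p, (RingHom.congr_fun hfac p).symm⟩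
  have hc : DerSch.IsChart f U (S.basicOpen a) h φ₁ :=
    ⟨hs, RingHom.ext fun r => MvPolynomial.eval₂Hom_C _ _ r⟩
  exact ⟨fun hQ => qa_of_qpc hU h hc ((qpc_base a φ hφ.1 φ₁ hs hfac).1 (qpc_of_qa hU h0 hQ hφ)),
    fun hQ => qa_of_qpc hU h0 hφ ((qpc_base a φ hφ.1 φ₁ hs hfac).2 (qpc_of_qa hU h hQ hc))⟩

/-- two tests near a point -/
theorem qa_of_overlap [LocallyOfFiniteType f] {U₀ : X.Opens} (hU₀ : IsAffineOpen U₀) {V₀ : S.Opens}
    (hV₀ : IsAffineOpen V₀) (h₀ : U₀ ≤ f ⁻¹ᵁ V₀) (hQ : QA f m E U₀ V₀) {U : X.Opens} (hU : IsAffineOpen U)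
    {V : S.Opens} (hV : IsAffineOpen V) (h : U ≤ f ⁻¹ᵁ V) {x : X} (hx₀ : x ∈ U₀) (hx : x ∈ U) :
    ∃ g : Γ(X, U), x ∈ X.basicOpen g ∧ QA f m E (X.basicOpen g) V := by
  obtain ⟨a, a₀, haa, hax⟩ := exists_basicOpen_le_affine_inter hV hV₀ (f.base x) ⟨h hx, h₀ hx₀⟩
  let W : X.Opens := f ⁻¹ᵁ S.basicOpen a
  obtain ⟨g₁, hg₁, hg₁x⟩ := hU.exists_basicOpen_le (V := U ⊓ W) ⟨x, hx, hax⟩ hx
  obtain ⟨g₂, g₀, hgg, hgx⟩ := exists_basicOpen_le_affine_inter (hU.basicOpen g₁) hU₀ x ⟨hg₁x, hx₀⟩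
  obtain ⟨g, hg⟩ := hU.basicOpen_basicOpen_is_basicOpen g₁ g₂
  refine ⟨g, hg ▸ hgx, ?_⟩
  have h1 : QA f m E (X.basicOpen g₀) V₀ := qa_basicOpen hU₀ g₀ hV₀ h₀ hQ
  have hle : X.basicOpen g₀ ≤ f ⁻¹ᵁ S.basicOpen a :=
    hgg ▸ ((X.basicOpen_le g₂).trans (hg₁.trans inf_le_right))
  have h2 : QA f m E (X.basicOpen g₀) (S.basicOpen a₀) :=
    (qa_base (hU₀.basicOpen g₀) hV₀ a₀ (haa ▸ hle)).1 h1
  rw [← haa] at h2
  have h3 := (qa_base (hU₀.basicOpen g₀) hV a hle).2 h2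
  rwa [← hgg, ← hg] at h3

/-- **relative pseudo-coherence is tested on all pairs of affine opens** -/
theorem rel_iff_qa [LocallyOfFiniteType f] (m : ℤ) (E : DCoh.D X) :
    DerSch.IsPseudoCoherentRel f m E ↔
      ∀ (U : X.affineOpens) (V : S.affineOpens), QA f m E (U : X.Opens) (V : S.Opens) := by
  constructor
  · rintro ⟨-, 𝒱, hcov, h⟩ U V hle
    refine qa_of_cover U.2 V.2 (fun x hx => ?_) hle
    have hfx : f.base x ∈ ⨆ V ∈ 𝒱, (V : S.Opens) := by rw [hcov]; trivial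
    obtain ⟨V₀, hV₀⟩ := Opens.mem_iSup.1 hfx
    obtain ⟨hV₀', hfx'⟩ := Opens.mem_iSup.1 hV₀
    obtain ⟨𝒰, h𝒰, hch⟩ := h V₀ hV₀'
    have hxU : x ∈ ⨆ U ∈ 𝒰, (U : X.Opens) := by rw [h𝒰]; exact hfx'
    obtain ⟨U₀, hU₀⟩ := Opens.mem_iSup.1 hxU
    obtain ⟨hU₀', hxU₀⟩ := Opens.mem_iSup.1 hU₀
    have h₀ : (U₀ : X.Opens) ≤ f ⁻¹ᵁ (V₀ : S.Opens) := h𝒰 ▸ le_iSup₂ (f := fun (U : X.affineOpens) _ => (U : X.Opens)) U₀ hU₀'
    exact qa_of_overlap U₀.2 V₀.2 h₀ (fun h' => hch U₀ hU₀' h') U.2 V.2 hle hxU₀ hx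
  · intro h
    refine ⟨inferInstance, Set.univ, ?_, fun V _ => ⟨{U | (U : X.Opens) ≤ f ⁻¹ᵁ (V : S.Opens)}, ?_,
      fun U _ hle => h U V hle⟩⟩
    · refine eq_top_iff.2 fun y _ => ?_
      obtain ⟨_, ⟨V, hV, rfl⟩, hy, -⟩ := S.isBasis_affineOpens.exists_subset_of_mem_open (Set.mem_univ y) isOpen_univ
      exact Opens.mem_iSup.2 ⟨⟨V, hV⟩, Opens.mem_iSup.2 ⟨trivial, hy⟩⟩
    · refine le_antisymm (iSup₂_le fun U hU => hU) fun x hx => ?_
      obtain ⟨_, ⟨U, hU, rfl⟩, hxU, hUV⟩ :=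
        X.isBasis_affineOpens.exists_subset_of_mem_open hx (f ⁻¹ᵁ (V : S.Opens)).2
      exact Opens.mem_iSup.2 ⟨⟨U, hU⟩, Opens.mem_iSup.2 ⟨hUV, hxU⟩⟩

end Groth.Agent.RelPCS
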