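import Groth.Agent.RelPCS.Calc

/-!
Relative pseudo-coherence and open subschemes.
-/

set_option backward.isDefEq.respectTransparency false
set_option backward.isDefEq.respectTransparency.types false
set_option linter.style.haveILetI false
set_option autoImplicit false

universe u

open CategoryTheory Limits Pretriangulated AlgebraicGeometry HomologicalComplex Opposite TopologicalSpace

attribute [local instance] HasDerivedCategory.standard

namespace Groth.Agent.RelPCS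

open Groth.Agent.DQCoh

variable {X X' S : Scheme.{u}}

section Ring

variable {R A A' : Type u} [CommRing R] [CommRing A] [CommRing A'] {m : ℤ}

/-- the test seen through an isomorphism of rings -/
theorem qpc_equiv [Algebra A A'] (hb : Function.Bijective (algebraMap A A')) {E : DCoh.D X}
    {j : Spec (CommRingCat.of A) ⟶ X} [IsOpenImmersion j] [IsOpenImmersion (sp (algebraMap A A'))]
    {n k : ℕ} (φ : MvPolynomial (Fin n) R →+* A) (hφ : Function.Surjective φ)
    (φ' : MvPolynomial (Fin k) R →+* A') (hφ' : Function.Surjective φ')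
    (hC : φ'.comp MvPolynomial.C = (algebraMap A A').comp (φ.comp MvPolynomial.C)) :
    QPC m E j φ ↔ QPC m E (sp (algebraMap A A') ≫ j) φ' := by
  haveI : IsLocalization.Away (1 : A) A' := IsLocalization.away_of_isUnit_of_bijective A' isUnit_one hb
  exact ⟨qpc_away φ hφ 1 φ' hφ' hC, fun h => qpc_of_away φ hφ fun x =>
    ⟨1, fun hx => x.isPrime.ne_top ((Ideal.eq_top_iff_one _).2 hx), A', inferInstance, inferInstance,
      inferInstance, inferInstance, k, φ', hC, h⟩⟩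

/-- the test after restriction -/
theorem qpc_rd_iff (l : X' ⟶ X) [IsOpenImmersion l] {E : DCoh.D X} (j : Spec (CommRingCat.of A) ⟶ X')
    [IsOpenImmersion j] {P : Type u} [CommRing P] (φ : P →+* A) :
    QPC m ((RD l).obj E) j φ ↔ QPC m E (j ≫ l) φ := by
  constructor <;> rintro ⟨hφ, h⟩ <;> haveI := closedImm_sp hφ
  · exact ⟨hφ, pc_of_iso ((PD (sp φ)).mapIso ((rdComp j l).app E).symm) h⟩
  · exact ⟨hφ, pc_of_iso ((PD (sp φ)).mapIso ((rdComp j l).app E)) h⟩

end Ring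

variable {f : X ⟶ S} [LocallyOfFiniteType f] {m : ℤ} {E : DCoh.D X}

/-- the test of an affine inside an open subscheme -/
theorem qa_transfer (l : X' ⟶ X) [IsOpenImmersion l] {W : X'.Opens} (hW : IsAffineOpen W) {V : S.Opens}
    (hV : IsAffineOpen V) (h : l ''ᵁ W ≤ f ⁻¹ᵁ V) :
    QA f m E (l ''ᵁ W) V ↔ QA (l ≫ f) m ((RD l).obj E) W V := by
  have hU : IsAffineOpen (l ''ᵁ W) := hW.image_of_isOpenImmersion l
  have h' : W ≤ (l ≫ f) ⁻¹ᵁ V := fun x hx => h ⟨x, hx, rfl⟩
  obtain ⟨n, φ, hφ⟩ := exists_chart hU hV h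
  let a := l.appLE (l ''ᵁ W) W (l.preimage_image_eq W).ge
  haveI : IsIso a := by rw [show a = (l.appIso W).hom from (l.appIso_hom' W).symm]; infer_instance
  letI : Algebra Γ(X, l ''ᵁ W) Γ(X', W) := a.hom.toAlgebra
  have hb : Function.Bijective (algebraMap Γ(X, l ''ᵁ W) Γ(X', W)) := ConcreteCategory.bijective_of_isIso a
  haveI : IsOpenImmersion (sp (algebraMap Γ(X, l ''ᵁ W) Γ(X', W))) := inferInstanceAs (IsOpenImmersion (Spec.map a))
  obtain ⟨k, φ', hφ'⟩ := exists_chart (f := l ≫ f) hW hV h'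
  have hC : φ'.comp MvPolynomial.C = (algebraMap Γ(X, l ''ᵁ W) Γ(X', W)).comp (φ.comp MvPolynomial.C) := by
    rw [hφ.2, hφ'.2]
    exact congrArg CommRingCat.Hom.hom (Scheme.Hom.appLE_comp_appLE l f _ _ _ h (l.preimage_image_eq W).ge).symm
  have w : sp (algebraMap Γ(X, l ''ᵁ W) Γ(X', W)) ≫ hU.fromSpec = hW.fromSpec ≫ l :=
    IsAffineOpen.SpecMap_appLE_fromSpec l hU hW _
  have key := qpc_equiv (m := m) (E := E) (j := hU.fromSpec) hb φ hφ.1 φ' hφ'.1 hC
  constructor
  · intro hQ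
    exact qa_of_qpc hW h' hφ' ((qpc_rd_iff l hW.fromSpec φ').2 (qpc_congr w (key.1 (qpc_of_qa hU h hQ hφ))))
  · intro hQ
    refine qa_of_qpc hU h hφ (key.2 ?_)
    exact qpc_congr (j := hW.fromSpec ≫ l) w.symm ((qpc_rd_iff l hW.fromSpec φ').1 (qpc_of_qa hW h' hQ hφ'))

/-- restriction to an open subscheme -/
theorem rel_restrict (hE : DerSch.IsPseudoCoherentRel f m E) (l : X' ⟶ X) [IsOpenImmersion l] :
    DerSch.IsPseudoCoherentRel (l ≫ f) m ((RD l).obj E) :=
  (rel_iff_qa m _).2 fun W V h => by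
    have h' : l ''ᵁ (W : X'.Opens) ≤ f ⁻¹ᵁ (V : S.Opens) := fun x hx => by
      obtain ⟨y, hy, rfl⟩ := hx
      exact h hy
    exact (qa_transfer l W.2 V.2 h').1 ((rel_iff_qa m E).1 hE ⟨_, W.2.image_of_isOpenImmersion l⟩ V) h

/-- gluing from an open cover -/
theorem rel_of_cover {ι : Type u} {Xi : ι → Scheme.{u}} (l : ∀ i, Xi i ⟶ X) [∀ i, IsOpenImmersion (l i)]
    (hl : ∀ x, ∃ i, x ∈ Set.range (l i).base)
    (h : ∀ i, DerSch.IsPseudoCoherentRel (l i ≫ f) m ((RD (l i)).obj E)) : DerSch.IsPseudoCoherentRel f m E :=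
  (rel_iff_qa m E).2 fun U V => by
    intro hle
    refine qa_of_cover U.2 V.2 (fun x hx => ?_) hle
    obtain ⟨i, y, rfl⟩ := hl x
    obtain ⟨_, ⟨W, hW, rfl⟩, hyW, hWU⟩ := (Xi i).isBasis_affineOpens.exists_subset_of_mem_open (a := y)
      (show y ∈ (((l i) ⁻¹ᵁ (U : X.Opens) : (Xi i).Opens) : Set (Xi i)) from hx) ((l i) ⁻¹ᵁ (U : X.Opens)).2
    replace hW : IsAffineOpen W := hW
    have hle' : l i ''ᵁ W ≤ f ⁻¹ᵁ (V : S.Opens) := fun z hz => by
      obtain ⟨z', hz', rfl⟩ := hz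
      exact hle (hWU hz')
    exact qa_of_overlap (hW.image_of_isOpenImmersion (l i)) V.2 hle'
      ((qa_transfer (l i) hW V.2 hle').2 ((rel_iff_qa m _).1 (h i) ⟨W, hW⟩ V)) U.2 V.2 hle ⟨y, hyW, rfl⟩ hx

end Groth.Agent.RelPCS
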