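import Groth.Agent.RelPCS.RelFPCalc
import Groth.Agent.RelPCS.FlatPiece
import Groth.Agent.RelFP.Change
import Groth.Agent.PinchQC.Basic
import Groth.Agent.S6992

/-!
# Relative finite presentation along morphisms
-/

set_option backward.isDefEq.respectTransparency false
set_option backward.isDefEq.respectTransparency.types false
set_option linter.style.haveILetI false
set_option autoImplicit false

universe u

open CategoryTheory Limits AlgebraicGeometry Opposite TopologicalSpace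
open scoped TensorProduct

namespace Groth.Agent.RelPCS

theorem fp_transport {P B N M : Type u} [CommRing P] [CommRing B] [AddCommGroup N] [Module B N] [AddCommGroup M]
    [Module B M] (φ : P →+* B) (e : N ≃ₗ[B] M) (h : @Module.FinitePresentation P N _ _ (Module.compHom N φ)) :
    @Module.FinitePresentation P M _ _ (Module.compHom M φ) := by
  letI : Module P N := Module.compHom N φ
  letI : Module P M := Module.compHom M φ
  let e' : N ≃ₗ[P] M :=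
    { toFun := fun z => e z
      invFun := fun z => e.symm z
      left_inv := e.symm_apply_apply
      right_inv := e.apply_symm_apply
      map_add' := fun a b => e.map_add a b
      map_smul' := fun a b => e.map_smul (φ a) b }
  exact @Module.FinitePresentation.of_equiv _ _ _ _ _ _ _ _ e' h

variable {X Y S : Scheme.{u}} (f : X ⟶ Y) (g : Y ⟶ S)

/-- finitely presented intermediate base -/
theorem isRelFP_comp_lfp [LocallyOfFiniteType f] [LocallyOfFinitePresentation g] (F : X.Modules) [Coh.IsQCoh F]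
    (hF : Flatn.IsRelFP f F) : Flatn.IsRelFP (f ≫ g) F := by
  refine ⟨Set.univ, ?_, fun W _ => ⟨{U | ∃ V : Y.affineOpens,
    (U : X.Opens) ≤ f ⁻¹ᵁ (V : Y.Opens) ∧ (V : Y.Opens) ≤ g ⁻¹ᵁ (W : S.Opens)}, ?_, ?_⟩⟩
  · simpa using iSup_affineOpens_eq_top S
  · refine le_antisymm (iSup₂_le fun U ⟨V, hUV, hVW⟩ => hUV.trans (f.preimage_mono hVW)) fun x hx => ?_
    obtain ⟨U, V, hxU, hUV, hVW⟩ := exists_pair_le f (O := g ⁻¹ᵁ (W : S.Opens)) hx
    exact Opens.mem_iSup.2 ⟨U, Opens.mem_iSup.2 ⟨⟨V, hUV, hVW⟩, hxU⟩⟩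
  · rintro U ⟨V, hUV, hVW⟩ hle
    letI : Algebra Γ(Y, (V : Y.Opens)) Γ(X, (U : X.Opens)) := (f.appLE _ _ hUV).hom.toAlgebra
    letI : Algebra Γ(S, (W : S.Opens)) Γ(Y, (V : Y.Opens)) := (g.appLE _ _ hVW).hom.toAlgebra
    letI : Algebra Γ(S, (W : S.Opens)) Γ(X, (U : X.Opens)) := ((f ≫ g).appLE _ _ hle).hom.toAlgebra
    haveI : IsScalarTower Γ(S, (W : S.Opens)) Γ(Y, (V : Y.Opens)) Γ(X, (U : X.Opens)) :=
      IsScalarTower.of_algebraMap_eq' (congrArg CommRingCat.Hom.hom (Scheme.Hom.appLE_comp_appLE f g _ _ _ hVW hUV).symm)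
    haveI : Algebra.FinitePresentation Γ(S, (W : S.Opens)) Γ(Y, (V : Y.Opens)) :=
      HasRingHomProperty.appLE @LocallyOfFinitePresentation g inferInstance W V hVW
    obtain ⟨n, α, hα, hM⟩ := relFPOn_of_isRelFP hF U V hUV
    haveI : Algebra.FiniteType Γ(Y, (V : Y.Opens)) Γ(X, (U : X.Opens)) := Algebra.FiniteType.of_surjective α hα
    haveI : Algebra.FiniteType Γ(S, (W : S.Opens)) Γ(X, (U : X.Opens)) :=
      Algebra.FiniteType.trans (S := Γ(Y, (V : Y.Opens))) inferInstance inferInstance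
    obtain ⟨k, β, hβ⟩ := Algebra.FiniteType.iff_quotient_mvPolynomial''.mp
      (inferInstance : Algebra.FiniteType Γ(S, (W : S.Opens)) Γ(X, (U : X.Opens)))
    exact ⟨k, β, hβ, RelFP.change_base α hα β hβ _ hM⟩

/-- pullback along a finitely presented morphism -/
theorem isRelFP_pullback_lfp [LocallyOfFinitePresentation f] [LocallyOfFiniteType g] (G : Y.Modules) [Coh.IsQCoh G]
    (hG : Flatn.IsRelFP g G) : Flatn.IsRelFP (f ≫ g) ((Scheme.Modules.pullback f).obj G) := by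
  refine ⟨Set.univ, ?_, fun W _ => ⟨{U | ∃ V : Y.affineOpens,
    (U : X.Opens) ≤ f ⁻¹ᵁ (V : Y.Opens) ∧ (V : Y.Opens) ≤ g ⁻¹ᵁ (W : S.Opens)}, ?_, ?_⟩⟩
  · simpa using iSup_affineOpens_eq_top S
  · refine le_antisymm (iSup₂_le fun U ⟨V, hUV, hVW⟩ => hUV.trans (f.preimage_mono hVW)) fun x hx => ?_
    obtain ⟨U, V, hxU, hUV, hVW⟩ := exists_pair_le f (O := g ⁻¹ᵁ (W : S.Opens)) hx
    exact Opens.mem_iSup.2 ⟨U, Opens.mem_iSup.2 ⟨⟨V, hUV, hVW⟩, hxU⟩⟩
  · rintro U ⟨V, hUV, hVW⟩ hle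
    obtain ⟨e⟩ := PinchQC.pullback_sections f (F := G) ‹_› V.2 U.2 hUV
    letI : Algebra Γ(Y, (V : Y.Opens)) Γ(X, (U : X.Opens)) := (f.appLE _ _ hUV).hom.toAlgebra
    letI : Algebra Γ(S, (W : S.Opens)) Γ(Y, (V : Y.Opens)) := (g.appLE _ _ hVW).hom.toAlgebra
    letI : Algebra Γ(S, (W : S.Opens)) Γ(X, (U : X.Opens)) := ((f ≫ g).appLE _ _ hle).hom.toAlgebra
    haveI : IsScalarTower Γ(S, (W : S.Opens)) Γ(Y, (V : Y.Opens)) Γ(X, (U : X.Opens)) :=
      IsScalarTower.of_algebraMap_eq' (congrArg CommRingCat.Hom.hom (Scheme.Hom.appLE_comp_appLE f g _ _ _ hVW hUV).symm)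
    haveI : Algebra.FinitePresentation Γ(Y, (V : Y.Opens)) Γ(X, (U : X.Opens)) :=
      HasRingHomProperty.appLE @LocallyOfFinitePresentation f inferInstance V U hUV
    obtain ⟨n, α, hα, hM⟩ := relFPOn_of_isRelFP hG V W hVW
    haveI : Algebra.FiniteType Γ(S, (W : S.Opens)) Γ(Y, (V : Y.Opens)) := Algebra.FiniteType.of_surjective α hα
    haveI : Algebra.FiniteType Γ(S, (W : S.Opens)) Γ(X, (U : X.Opens)) :=
      Algebra.FiniteType.trans (S := Γ(Y, (V : Y.Opens))) inferInstance inferInstance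
    obtain ⟨k, γ, hγ⟩ := Algebra.FiniteType.iff_quotient_mvPolynomial''.mp
      (inferInstance : Algebra.FiniteType Γ(S, (W : S.Opens)) Γ(X, (U : X.Opens)))
    exact ⟨k, γ, hγ, fp_transport γ.toRingHom e (RelFP.extend α hα γ hγ _ hM)⟩

/-- arbitrary base change -/
theorem isRelFP_baseChange {f : X ⟶ S} {S' X' : Scheme.{u}} {h : S' ⟶ S} {p : X' ⟶ X} {q : X' ⟶ S'}
    (H : IsPullback p q f h) [LocallyOfFiniteType f] (F : X.Modules) [Coh.IsQCoh F] (hF : Flatn.IsRelFP f F) :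
    Flatn.IsRelFP q ((Scheme.Modules.pullback p).obj F) := by
  haveI : LocallyOfFiniteType q := MorphismProperty.of_isPullback H inferInstance
  refine ⟨{V' | ∃ V : S.affineOpens, (V' : S'.Opens) ≤ h ⁻¹ᵁ (V : S.Opens)}, ?_, ?_⟩
  · refine eq_top_iff.2 fun y _ => ?_
    obtain ⟨V', V, hyV, hVV, -⟩ := exists_pair_le h (O := ⊤) (x := y) trivial
    exact Opens.mem_iSup.2 ⟨V', Opens.mem_iSup.2 ⟨⟨V, hVV⟩, hyV⟩⟩
  rintro V' ⟨V, hVV⟩
  refine ⟨{U' | ∃ U : X.affineOpens, (U : X.Opens) ≤ f ⁻¹ᵁ (V : S.Opens) ∧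
    (U' : X'.Opens) = p ⁻¹ᵁ (U : X.Opens) ⊓ q ⁻¹ᵁ (V' : S'.Opens)}, ?_, ?_⟩
  · refine le_antisymm (iSup₂_le fun U' ⟨U, _, e⟩ => e.le.trans inf_le_right) fun x hx => ?_
    have hxV : f.base (p.base x) ∈ (V : S.Opens) := by
      have := congrArg (fun t => t.base x) H.w
      simp only [Scheme.Hom.comp_base, TopCat.comp_app] at this
      rw [this]
      exact hVV hx
    obtain ⟨_, ⟨U, hU, rfl⟩, hxU, hUV⟩ :=
      X.isBasis_affineOpens.exists_subset_of_mem_open (show p.base x ∈ f ⁻¹ᵁ (V : S.Opens) from hxV) (f ⁻¹ᵁ (V : S.Opens)).isOpen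
    replace hU : IsAffineOpen U := hU
    haveI : IsAffine _ := hU
    haveI : IsAffine _ := V.2
    haveI : IsAffine _ := V'.2
    let U' := p ⁻¹ᵁ U ⊓ q ⁻¹ᵁ (V' : S'.Opens)
    have hU' : IsAffineOpen U' :=
      .of_isIso (Scheme.Hom.isPullback_resLE H hVV hUV (rfl : U' = p ⁻¹ᵁ U ⊓ q ⁻¹ᵁ (V' : S'.Opens))).isoPullback.hom
    exact Opens.mem_iSup.2 ⟨⟨U', hU'⟩, Opens.mem_iSup.2 ⟨⟨⟨U, hU⟩, hUV, rfl⟩, hxU, hx⟩⟩
  rintro U' ⟨U, hUV, hU'e⟩ hle
  have hUp : (U' : X'.Opens) ≤ p ⁻¹ᵁ (U : X.Opens) := hU'e.le.trans inf_le_left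
  have := isIso_pushoutSection_of_isAffineOpen H hVV hUV hU'e V.2 V'.2 U.2
  have sq := (isIso_pushoutSection_iff H hVV hUV hU'e).1 this
  obtain ⟨e⟩ := PinchQC.pullback_sections p (F := F) ‹_› U.2 U'.2 hUp
  letI : Algebra Γ(S, (V : S.Opens)) Γ(X, (U : X.Opens)) := (f.appLE _ _ hUV).hom.toAlgebra
  letI : Algebra Γ(S, (V : S.Opens)) Γ(S', (V' : S'.Opens)) := (h.appLE _ _ hVV).hom.toAlgebra
  letI : Algebra Γ(X, (U : X.Opens)) Γ(X', (U' : X'.Opens)) := (p.appLE _ _ hUp).hom.toAlgebra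
  letI : Algebra Γ(S', (V' : S'.Opens)) Γ(X', (U' : X'.Opens)) := (q.appLE _ _ hle).hom.toAlgebra
  letI : Algebra Γ(S, (V : S.Opens)) Γ(X', (U' : X'.Opens)) :=
    (f.appLE _ _ hUV ≫ p.appLE _ _ hUp).hom.toAlgebra
  haveI : IsScalarTower Γ(S, (V : S.Opens)) Γ(X, (U : X.Opens)) Γ(X', (U' : X'.Opens)) :=
    IsScalarTower.of_algebraMap_eq' rfl
  haveI : IsScalarTower Γ(S, (V : S.Opens)) Γ(S', (V' : S'.Opens)) Γ(X', (U' : X'.Opens)) :=
    IsScalarTower.of_algebraMap_eq' (congrArg CommRingCat.Hom.hom sq.w)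
  haveI : Algebra.IsPushout Γ(S, (V : S.Opens)) Γ(X, (U : X.Opens)) Γ(S', (V' : S'.Opens)) Γ(X', (U' : X'.Opens)) :=
    CommRingCat.isPushout_iff_isPushout.mp sq
  obtain ⟨n, α, hα, hM⟩ := relFPOn_of_isRelFP hF U V hUV
  haveI : Algebra.FiniteType Γ(S', (V' : S'.Opens)) Γ(X', (U' : X'.Opens)) :=
    HasRingHomProperty.appLE @LocallyOfFiniteType q inferInstance V' U' hle
  obtain ⟨k, γ, hγ⟩ := Algebra.FiniteType.iff_quotient_mvPolynomial''.mp
    (inferInstance : Algebra.FiniteType Γ(S', (V' : S'.Opens)) Γ(X', (U' : X'.Opens)))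
  exact ⟨k, γ, hγ, fp_transport γ.toRingHom e (RelFP.base_change α hα γ hγ _ hM)⟩

/-- direct image along a finite morphism -/
theorem isRelFP_push_finite [IsFinite f] [LocallyOfFiniteType g] (F : X.Modules) [Coh.IsQCoh F]
    [Coh.IsQCoh ((Coh.push f).obj F)] :
    Flatn.IsRelFP (f ≫ g) F ↔ Flatn.IsRelFP g ((Coh.push f).obj F) := by
  have key : ∀ (V : Y.affineOpens) (W : S.affineOpens) (hVW : (V : Y.Opens) ≤ g ⁻¹ᵁ (W : S.Opens)),
      Flatn.RelFPOn g ((Coh.push f).obj F) V W hVW ↔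
        Flatn.RelFPOn (f ≫ g) F ⟨f ⁻¹ᵁ (V : Y.Opens), V.2.preimage f⟩ W (f.preimage_mono hVW) := by
    intro V W hVW
    let U := f ⁻¹ᵁ (V : Y.Opens)
    letI : Algebra Γ(Y, (V : Y.Opens)) Γ(X, U) := (f.app (V : Y.Opens)).hom.toAlgebra
    letI : Algebra Γ(S, (W : S.Opens)) Γ(Y, (V : Y.Opens)) := (g.appLE _ _ hVW).hom.toAlgebra
    letI : Algebra Γ(S, (W : S.Opens)) Γ(X, U) := ((f ≫ g).appLE _ U (f.preimage_mono hVW)).hom.toAlgebra
    haveI : IsScalarTower Γ(S, (W : S.Opens)) Γ(Y, (V : Y.Opens)) Γ(X, U) :=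
      IsScalarTower.of_algebraMap_eq' (by
        show ((f ≫ g).appLE _ U (f.preimage_mono hVW)).hom = (f.app (V : Y.Opens)).hom.comp (g.appLE _ _ hVW).hom
        rw [← CommRingCat.hom_comp, Scheme.Hom.app_eq_appLE]
        exact congrArg CommRingCat.Hom.hom (Scheme.Hom.appLE_comp_appLE f g _ _ _ hVW le_rfl).symm)
    haveI : Module.Finite Γ(Y, (V : Y.Opens)) Γ(X, U) := IsFinite.finite_app f (V : Y.Opens) V.2
    haveI : Algebra.FiniteType Γ(S, (W : S.Opens)) Γ(Y, (V : Y.Opens)) :=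
      HasRingHomProperty.appLE @LocallyOfFiniteType g inferInstance W V hVW
    haveI : Algebra.FiniteType Γ(S, (W : S.Opens)) Γ(X, U) :=
      Algebra.FiniteType.trans (S := Γ(Y, (V : Y.Opens))) inferInstance inferInstance
    obtain ⟨n₀, α₀, hα₀⟩ := Algebra.FiniteType.iff_quotient_mvPolynomial''.mp
      (inferInstance : Algebra.FiniteType Γ(S, (W : S.Opens)) Γ(Y, (V : Y.Opens)))
    obtain ⟨k₀, β₀, hβ₀⟩ := Algebra.FiniteType.iff_quotient_mvPolynomial''.mp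
      (inferInstance : Algebra.FiniteType Γ(S, (W : S.Opens)) Γ(X, U))
    have hiff : ∀ {n k : ℕ} (α : MvPolynomial (Fin n) Γ(S, (W : S.Opens)) →ₐ[Γ(S, (W : S.Opens))] Γ(Y, (V : Y.Opens)))
        (_ : Function.Surjective α) (β : MvPolynomial (Fin k) Γ(S, (W : S.Opens)) →ₐ[Γ(S, (W : S.Opens))] Γ(X, U))
        (_ : Function.Surjective β),
        @Module.FinitePresentation _ (F.val.obj (op U)) _ _
            (Module.compHom (F.val.obj (op U)) ((f.app (V : Y.Opens)).hom.comp α.toRingHom)) ↔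
          @Module.FinitePresentation _ (F.val.obj (op U)) _ _ (Module.compHom (F.val.obj (op U)) β.toRingHom) := by
      intro n k α hα β hβ
      letI : Module Γ(Y, (V : Y.Opens)) (F.val.obj (op U)) := Module.compHom _ (f.app (V : Y.Opens)).hom
      haveI : IsScalarTower Γ(Y, (V : Y.Opens)) Γ(X, U) (F.val.obj (op U)) :=
        IsScalarTower.of_algebraMap_smul fun _ _ => rfl
      exact Groth.Agent.S6992.result _ α hα β hβ
    constructor
    · rintro ⟨n, α, hα, hM⟩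
      exact ⟨k₀, β₀, hβ₀, (hiff α hα β₀ hβ₀).1 hM⟩
    · rintro ⟨k, β, hβ, hM⟩
      exact ⟨n₀, α₀, hα₀, (hiff α₀ hα₀ β hβ).2 hM⟩
  constructor
  · exact fun h => isRelFP_of_forall fun V W hVW => (key V W hVW).2 (relFPOn_of_isRelFP h _ W _)
  · intro h
    refine ⟨Set.univ, ?_, fun W _ => ⟨{U | ∃ V : Y.affineOpens,
      (U : X.Opens) = f ⁻¹ᵁ (V : Y.Opens) ∧ (V : Y.Opens) ≤ g ⁻¹ᵁ (W : S.Opens)}, ?_, ?_⟩⟩
    · simpa using iSup_affineOpens_eq_top S
    · refine le_antisymm (iSup₂_le fun U ⟨V, hUV, hVW⟩ => hUV.le.trans (f.preimage_mono hVW)) fun x hx => ?_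
      obtain ⟨_, ⟨V, hV, rfl⟩, hxV, hVW⟩ :=
        Y.isBasis_affineOpens.exists_subset_of_mem_open (show f.base x ∈ g ⁻¹ᵁ (W : S.Opens) from hx) (g ⁻¹ᵁ (W : S.Opens)).isOpen
      exact Opens.mem_iSup.2 ⟨⟨f ⁻¹ᵁ V, IsAffineOpen.preimage hV f⟩, Opens.mem_iSup.2 ⟨⟨⟨V, hV⟩, rfl, hVW⟩, hxV⟩⟩
    · rintro ⟨U, hU⟩ ⟨V, (rfl : U = _), hVW⟩ hle
      exact (key V W hVW).1 (relFPOn_of_isRelFP h V W hVW)

end Groth.Agent.RelPCS
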